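import Cfsg.Agent.Lib.SUnPres.Pres

/-!
Presentations for `q = 2` and `q = 3` from those of a base group on the first few coordinates.
-/

set_option autoImplicit false
set_option linter.unusedSectionVars false

namespace CfsgLib.SUnPres

open CfsgLib.Classical.Herm
open CfsgLib.BoundedPres (PresOn Kills exists_word hom_lift lift_map_gen)
open Finset Equiv

attribute [-simp] qPow_apply

variable {m n : ℕ}

/-- Even permutations of the first coordinates inside those of all coordinates. -/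
def upN (h : m ≤ n) : alternatingGroup (Fin m) →* alternatingGroup (Fin n) :=
  ((Perm.extendDomainHom (Fin.castLEEmb h).toEquivRange).comp
    (alternatingGroup (Fin m)).subtype).codRestrict (alternatingGroup (Fin n)) fun a => by
    rw [Perm.mem_alternatingGroup]
    exact (Perm.sign_extendDomain _ _).trans (Perm.mem_alternatingGroup.1 a.2)

theorem upN_castLE (h : m ≤ n) (a : alternatingGroup (Fin m)) (x : Fin m) :
    (upN h a : Perm (Fin n)) (Fin.castLE h x) = Fin.castLE h ((a : Perm (Fin m)) x) :=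
  Perm.extendDomain_apply_image _ (Fin.castLEEmb h).toEquivRange x

theorem upN_out (h : m ≤ n) (a : alternatingGroup (Fin m)) {i : Fin n} (hi : m ≤ (i : ℕ)) :
    (upN h a : Perm (Fin n)) i = i :=
  Perm.extendDomain_apply_not_subtype _ _ (by
    rintro ⟨x, hx⟩
    have h1 : ((Fin.castLEEmb h x : Fin n) : ℕ) = x := rfl
    have h2 := x.isLt
    rw [hx] at h1
    omega)

theorem exists_castLE_or (h : m ≤ n) (i : Fin n) : (∃ x : Fin m, Fin.castLE h x = i) ∨ m ≤ (i : ℕ) := by
  by_cases hi : (i : ℕ) < m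
  · exact Or.inl ⟨⟨i, hi⟩, rfl⟩
  · exact Or.inr (not_lt.1 hi)

theorem upN_cN (hm : 4 ≤ m) (h : m ≤ n) (hn : 4 ≤ n) : upN h (cN hm) = cN hn := by
  refine Subtype.ext (Equiv.ext fun i => ?_)
  rcases exists_castLE_or h i with ⟨x, rfl⟩ | hi
  · rw [upN_castLE]
    show Fin.castLE h (swap (cd hm 0) (cd hm 1) (swap (cd hm 1) (cd hm 2) x)) =
      swap (cd hn 0) (cd hn 1) (swap (cd hn 1) (cd hn 2) (Fin.castLE h x))
    rw [← (Fin.castLE_injective h).swap_apply, ← (Fin.castLE_injective h).swap_apply]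
    rfl
  · have hne : ∀ j : Fin 4, i ≠ cd hn j := fun j e => by
      have h1 : (cd hn j : ℕ) = (j : ℕ) := rfl
      rw [← e] at h1
      omega
    rw [upN_out h _ hi]
    show i = swap (cd hn 0) (cd hn 1) (swap (cd hn 1) (cd hn 2) i)
    rw [swap_apply_of_ne_of_ne (hne 1) (hne 2), swap_apply_of_ne_of_ne (hne 0) (hne 1)]

theorem upN_dbl (hm : 4 ≤ m) (h : m ≤ n) (hn : 4 ≤ n) {a b c d : Fin 4} (hab : a ≠ b) (hcd : c ≠ d) :
    upN h (dbl (cd hm a) (cd hm b) (cd hm c) (cd hm d) (cd_ne hm hab) (cd_ne hm hcd)) =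
      dbl (cd hn a) (cd hn b) (cd hn c) (cd hn d) (cd_ne hn hab) (cd_ne hn hcd) := by
  refine Subtype.ext (Equiv.ext fun i => ?_)
  rcases exists_castLE_or h i with ⟨x, rfl⟩ | hi
  · rw [upN_castLE]
    show Fin.castLE h (swap (cd hm a) (cd hm b) (swap (cd hm c) (cd hm d) x)) =
      swap (cd hn a) (cd hn b) (swap (cd hn c) (cd hn d) (Fin.castLE h x))
    rw [← (Fin.castLE_injective h).swap_apply, ← (Fin.castLE_injective h).swap_apply]
    rfl
  · have hne : ∀ j : Fin 4, i ≠ cd hn j := fun j e => by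
      have h1 : (cd hn j : ℕ) = (j : ℕ) := rfl
      rw [← e] at h1
      omega
    rw [upN_out h _ hi]
    show i = swap (cd hn a) (cd hn b) (swap (cd hn c) (cd hn d) i)
    rw [swap_apply_of_ne_of_ne (hne c) (hne d), swap_apply_of_ne_of_ne (hne a) (hne b)]

theorem exists_upN (h : m ≤ n) {σ : alternatingGroup (Fin n)}
    (hσ : ∀ i : Fin n, m ≤ (i : ℕ) → (σ : Perm (Fin n)) i = i) :
    ∃ a : alternatingGroup (Fin m), upN h a = σ := by
  have hlt : ∀ x : Fin m, ((σ : Perm (Fin n)) (Fin.castLE h x) : ℕ) < m := by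
    intro x
    by_contra hc
    have := (σ : Perm (Fin n)).injective (hσ _ (not_lt.1 hc))
    have h1 : ((Fin.castLE h x : Fin n) : ℕ) = x := rfl
    rw [this] at hc
    omega
  let f : Fin m → Fin m := fun x => ⟨_, hlt x⟩
  have hf : Function.Injective f := fun x y e => Fin.castLE_injective h ((σ : Perm (Fin n)).injective
    (Fin.ext (congrArg Fin.val e :)))
  let τ : Perm (Fin m) := Equiv.ofBijective f (Finite.injective_iff_bijective.1 hf)
  have hτ : Perm.extendDomainHom (Fin.castLEEmb h).toEquivRange τ = (σ : Perm (Fin n)) := by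
    refine Equiv.ext fun i => ?_
    rcases exists_castLE_or h i with ⟨x, rfl⟩ | hi
    · exact (Perm.extendDomain_apply_image _ (Fin.castLEEmb h).toEquivRange x).trans (Fin.ext rfl)
    · refine (Perm.extendDomain_apply_not_subtype _ _ ?_).trans (hσ i hi).symm
      rintro ⟨x, hx⟩
      have h1 : ((Fin.castLEEmb h x : Fin n) : ℕ) = x := rfl
      have h2 := x.isLt
      rw [hx] at h1
      omega
  have hsign : Perm.sign τ = 1 := by
    rw [← Perm.mem_alternatingGroup.1 σ.2, ← hτ]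
    exact (Perm.sign_extendDomain _ _).symm
  exact ⟨⟨τ, Perm.mem_alternatingGroup.2 hsign⟩, Subtype.ext hτ⟩

/-- Generators of the even permutations fixing the first `k` coordinates. -/
theorem exists_fix_gens (k : ℕ) {n : ℕ} (hk : k ≤ n) :
    ∃ l : List (alternatingGroup (Fin n)), l.length ≤ 2 ∧
      (∀ σ ∈ l, ∀ i : Fin n, (i : ℕ) < k → (σ : Perm (Fin n)) i = i) ∧
      ∀ σ : alternatingGroup (Fin n), (∀ i : Fin n, (i : ℕ) < k → (σ : Perm (Fin n)) i = i) →
        σ ∈ Subgroup.closure {x | x ∈ l} := by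
  obtain ⟨j, rfl⟩ : ∃ j, n = k + j := ⟨n - k, by omega⟩
  let e : Fin j ↪ Fin (k + j) := Fin.natAddEmb k
  let hom : alternatingGroup (Fin j) →* alternatingGroup (Fin (k + j)) :=
    ((Perm.extendDomainHom e.toEquivRange).comp (alternatingGroup (Fin j)).subtype).codRestrict _ fun a => by
      rw [Perm.mem_alternatingGroup]
      exact (Perm.sign_extendDomain _ _).trans (Perm.mem_alternatingGroup.1 a.2)
  have hfix : ∀ (a : alternatingGroup (Fin j)) (i : Fin (k + j)), (i : ℕ) < k →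
      (hom a : Perm (Fin (k + j))) i = i := fun a i hi =>
    Perm.extendDomain_apply_not_subtype _ _ (by
      rintro ⟨x, hx⟩
      have h1 : ((e x : Fin (k + j)) : ℕ) = k + x := rfl
      rw [hx] at h1
      omega)
  obtain ⟨a, b, hab⟩ := alt_two_gen j
  refine ⟨[hom a, hom b], by simp, ?_, fun σ hσ => ?_⟩
  · intro σ hσ
    simp only [List.mem_cons, List.not_mem_nil, or_false] at hσ
    rcases hσ with rfl | rfl <;> exact hfix _
  have hset : ({x | x ∈ [hom a, hom b]} : Set (alternatingGroup (Fin (k + j)))) = hom '' {a, b} := by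
    ext z; simp [eq_comm]
  rw [hset, ← MonoidHom.map_closure, hab]
  have hge : ∀ x : Fin j, k ≤ ((σ : Perm (Fin (k + j))) (e x) : ℕ) := by
    intro x
    by_contra hc
    have := (σ : Perm (Fin (k + j))).injective (hσ _ (not_le.1 hc))
    have h1 : ((e x : Fin (k + j)) : ℕ) = k + x := rfl
    rw [this] at hc
    omega
  let f : Fin j → Fin j := fun x => ⟨((σ : Perm (Fin (k + j))) (e x) : ℕ) - k, by
    have := hge x
    have := ((σ : Perm (Fin (k + j))) (e x)).isLt
    omega⟩
  have hef : ∀ x, e (f x) = (σ : Perm (Fin (k + j))) (e x) := fun x => Fin.ext (by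
    have := hge x
    show k + ((((σ : Perm (Fin (k + j))) (e x) : ℕ)) - k) = _
    omega)
  have hf : Function.Injective f := fun x y h => e.injective ((σ : Perm (Fin (k + j))).injective
    (by rw [← hef, ← hef, h]))
  let τ : Perm (Fin j) := Equiv.ofBijective f (Finite.injective_iff_bijective.1 hf)
  have hτ : Perm.extendDomainHom e.toEquivRange τ = (σ : Perm (Fin (k + j))) := by
    refine Equiv.ext fun i => ?_
    by_cases hi : (i : ℕ) < k
    · refine (Perm.extendDomain_apply_not_subtype _ _ ?_).trans (hσ i hi).symm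
      rintro ⟨x, hx⟩
      have h1 : ((e x : Fin (k + j)) : ℕ) = k + x := rfl
      rw [hx] at h1
      omega
    · obtain ⟨x, rfl⟩ : ∃ x, e x = i := ⟨⟨i - k, by omega⟩, Fin.ext (show k + (i - k : ℕ) = i by omega)⟩
      exact (Perm.extendDomain_apply_image _ e.toEquivRange x).trans (hef x)
  have hsign : Perm.sign τ = 1 := by
    rw [← Perm.mem_alternatingGroup.1 σ.2, ← hτ]
    exact (Perm.sign_extendDomain _ _).symm
  exact ⟨⟨τ, Perm.mem_alternatingGroup.2 hsign⟩, trivial, Subtype.ext hτ⟩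

variable {F : Type*} [Field F] [Fintype F] {q : ℕ}

theorem permSU_upN (h : m ≤ n) (a : alternatingGroup (Fin m)) :
    (permSU (upN h a) : Cfsg.SU n F q) = emb (Fin.castLEEmb h) (permSU a) := by
  refine ext_ev fun i => funext fun o => ?_
  rw [act_permSU_apply]
  rcases exists_castLE_or h o with ⟨y, rfl⟩ | ho
  · have hh := act_emb_in (F := F) (q := q) (Fin.castLEEmb h) (permSU a) (ev i) y
    rw [act_permSU_apply] at hh
    refine Eq.trans ?_ hh.symm
    congr 1
    rw [Equiv.symm_apply_eq]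
    show Fin.castLE h y = (upN h a : Perm (Fin n)) (Fin.castLE h ((a : Perm (Fin m)).symm y))
    rw [upN_castLE, Equiv.apply_symm_apply]
  · rw [act_emb_out _ _ _ (by
      rintro ⟨x, hx⟩
      have h1 : ((Fin.castLEEmb h x : Fin n) : ℕ) = x := rfl
      have h2 := x.isLt
      rw [hx] at h1
      omega), show (upN h a : Perm (Fin n)).symm o = o from (Equiv.symm_apply_eq _).2 (upN_out h a ho).symm]

theorem emb_blk (hm : 4 ≤ m) (h : m ≤ n) (hn : 4 ≤ n) (a : Cfsg.SU 3 F q) :
    emb (Fin.castLEEmb h) (blk hm a) = blk hn a := by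
  rw [blk, emb_emb]
  rfl

section Setup

variable (hF : Fintype.card F = q ^ 2)

include hF in
/-- Presentations over a base: linking relations and some commutations. -/
theorem presOn_base (hm : 4 ≤ m) (h : m ≤ n) (hn : 4 ≤ n) {X Y : Type} {r s : ℕ}
    (hB : PresOn X (Cfsg.SU m F q) r) (hA : PresOn Y (alternatingGroup (Fin n)) s)
    (l₁ : List (alternatingGroup (Fin n) × Cfsg.SU m F q))
    (h₁ : ∀ p ∈ l₁, Commute (permSU p.1) (emb (Fin.castLEEmb h) p.2))
    (l₂ : List (Cfsg.SU m F q × alternatingGroup (Fin n) × Cfsg.SU m F q))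
    (h₂ : ∀ p ∈ l₂, Commute (emb (Fin.castLEEmb h) p.1)
      (permSU p.2.1 * emb (Fin.castLEEmb h) p.2.2 * (permSU p.2.1)⁻¹))
    (hcore : ∀ (G : Type) [Group G] (φ : G →* Cfsg.SU n F q) (β : Cfsg.SU m F q →* G)
      (R : alternatingGroup (Fin n) →* G), (∀ x, φ (β x) = emb (Fin.castLEEmb h) x) →
      (∀ π, φ (R π) = permSU π) → ⊤ ≤ Subgroup.closure (Set.range (β.comp (blk hm)) ∪ Set.range R) →
      (∀ a, R (upN h a) = β (permSU a)) → (∀ p ∈ l₁, Commute (R p.1) (β p.2)) →
      (∀ p ∈ l₂, Commute (β p.1) (R p.2.1 * β p.2.2 * (R p.2.1)⁻¹)) → Function.Injective φ) :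
    PresOn (X ⊕ Y) (Cfsg.SU n F q) (r + s + 2 + l₁.length + l₂.length) := by
  obtain ⟨vB, LB, hrB, hkB, hgB, huB⟩ := hB
  obtain ⟨vA, LA, hrA, hkA, hgA, huA⟩ := hA
  obtain ⟨g, g', hgg⟩ := alt_two_gen m
  choose wB hwB using fun x => exists_word hgB x
  choose wA hwA using fun x => exists_word hgA x
  let i₁ : FreeGroup X →* FreeGroup (X ⊕ Y) := FreeGroup.lift fun x => FreeGroup.of (Sum.inl x)
  let i₂ : FreeGroup Y →* FreeGroup (X ⊕ Y) := FreeGroup.lift fun y => FreeGroup.of (Sum.inr y)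
  let B : Cfsg.SU m F q → FreeGroup (X ⊕ Y) := fun x => i₁ (wB x)
  let A : alternatingGroup (Fin n) → FreeGroup (X ⊕ Y) := fun x => i₂ (wA x)
  let L := LB.map i₁ ++ LA.map i₂ ++ [A (upN h g) * (B (permSU g))⁻¹, A (upN h g') * (B (permSU g'))⁻¹] ++
    l₁.map (fun p => cw (A p.1) (B p.2)) ++
    l₂.map (fun p => cw (B p.1) (A p.2.1 * B p.2.2 * (A p.2.1)⁻¹))
  let v : X ⊕ Y → Cfsg.SU n F q :=
    Sum.elim (fun x => emb (Fin.castLEEmb h) (vB x)) (fun y => permSU (vA y))
  have vB' : ∀ z, FreeGroup.lift v (B z) = emb (Fin.castLEEmb h) z :=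
    lift_word Sum.inl wB hwB v (emb (Fin.castLEEmb h)) fun _ => rfl
  have vA' : ∀ z, FreeGroup.lift v (A z) = permSU z :=
    lift_word Sum.inr wA hwA v permSU fun _ => rfl
  have hkills : Kills v L := by
    intro w hw
    simp only [L, List.mem_append, List.mem_map] at hw
    rcases hw with (((⟨u, hu, rfl⟩ | ⟨u, hu, rfl⟩) | hw) | ⟨p, hp, rfl⟩) | ⟨p, hp, rfl⟩
    · rw [lift_map_gen]
      show FreeGroup.lift (fun x => emb (Fin.castLEEmb h) (vB x)) u = 1
      rw [← hom_lift (emb (Fin.castLEEmb h)) (v := vB) (fun _ => rfl), hkB u hu, map_one]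
    · rw [lift_map_gen]
      show FreeGroup.lift (fun y => permSU (vA y)) u = 1
      rw [← hom_lift permSU (v := vA) (fun _ => rfl), hkA u hu, map_one]
    · simp only [List.mem_cons, List.not_mem_nil, or_false] at hw
      rcases hw with rfl | rfl <;> rw [map_mul, map_inv, vA', vB', permSU_upN, mul_inv_cancel]
    · rw [lift_cw_eq_one, vA', vB']; exact h₁ p hp
    · rw [lift_cw_eq_one, map_mul, map_mul, map_inv, vA', vB', vB']; exact h₂ p hp
  have hgen : Subgroup.closure (Set.range v) = ⊤ := by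
    refine gen_top hF hn _ (fun z => ?_) (fun π => ?_)
    · rw [← emb_blk hm h hn, ← vB', ← FreeGroup.range_lift_eq_closure]; exact ⟨_, rfl⟩
    · rw [← vA', ← FreeGroup.range_lift_eq_closure]; exact ⟨_, rfl⟩
  refine (presOn_of_inj v L hkills hgen fun G _ φ f hφ hgen' hk => ?_).mono (by
    simp only [L, List.length_append, List.length_map, List.length_cons, List.length_nil]
    omega)
  obtain ⟨β, hβ⟩ := huB G (fun x => f (Sum.inl x)) fun u hu => by
    rw [← lift_map_gen]
    exact hk _ (by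
      simp only [L, List.mem_append]; exact Or.inl (Or.inl (Or.inl (Or.inl (List.mem_map_of_mem hu)))))
  obtain ⟨R, hR⟩ := huA G (fun y => f (Sum.inr y)) fun u hu => by
    rw [← lift_map_gen]
    exact hk _ (by
      simp only [L, List.mem_append]; exact Or.inl (Or.inl (Or.inl (Or.inr (List.mem_map_of_mem hu)))))
  have eB : ∀ z, FreeGroup.lift f (B z) = β z := lift_word Sum.inl wB hwB f β hβ
  have eA : ∀ z, FreeGroup.lift f (A z) = R z := lift_word Sum.inr wA hwA f R hR
  refine hcore G φ β R (fun z => by rw [← eB, hom_lift φ hφ, vB'])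
    (fun π => by rw [← eA, hom_lift φ hφ, vA']) ?_ ?_ (fun p hp => ?_) (fun p hp => ?_)
  · rw [← hgen', Subgroup.closure_le]
    rintro _ ⟨(x | y), rfl⟩
    · have hmap : Subgroup.map β ⊤ ≤ Subgroup.closure (Set.range (β.comp (blk hm)) ∪ Set.range R) := by
        rw [← gen_top hF hm (Subgroup.closure (Set.range (blk hm) ∪ Set.range permSU))
          (fun a => Subgroup.subset_closure (Or.inl ⟨a, rfl⟩))
          (fun a => Subgroup.subset_closure (Or.inr ⟨a, rfl⟩)), MonoidHom.map_closure, Subgroup.closure_le]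
        rintro _ ⟨z, (⟨a, rfl⟩ | ⟨a, rfl⟩), rfl⟩
        · exact Subgroup.subset_closure (Or.inl ⟨a, rfl⟩)
        · refine Subgroup.subset_closure (Or.inr ⟨upN h a, ?_⟩)
          have key : ∀ a ∈ Subgroup.closure ({g, g'} : Set (alternatingGroup (Fin m))),
              R (upN h a) = β (permSU a) := by
            intro a ha
            refine MonoidHom.eqOn_closure (f := R.comp (upN h)) (g := β.comp permSU) ?_ ha
            rintro z (rfl | rfl)
            · have := hk (A (upN h z) * (B (permSU z))⁻¹) (by simp [L])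
              rwa [map_mul, map_inv, eA, eB, mul_inv_eq_one] at this
            · have := hk (A (upN h z) * (B (permSU z))⁻¹) (by simp [L])
              rwa [map_mul, map_inv, eA, eB, mul_inv_eq_one] at this
          exact key a (hgg ▸ Subgroup.mem_top a)
      exact hmap ⟨vB x, trivial, hβ x⟩
    · exact Subgroup.subset_closure (Or.inr ⟨vA y, hR y⟩)
  · intro a
    refine MonoidHom.eqOn_closure (f := R.comp (upN h)) (g := β.comp permSU) ?_ (hgg ▸ Subgroup.mem_top a)
    rintro z (rfl | rfl)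
    · have := hk (A (upN h z) * (B (permSU z))⁻¹) (by simp [L])
      rwa [map_mul, map_inv, eA, eB, mul_inv_eq_one] at this
    · have := hk (A (upN h z) * (B (permSU z))⁻¹) (by simp [L])
      rwa [map_mul, map_inv, eA, eB, mul_inv_eq_one] at this
  · have := hk (cw (A p.1) (B p.2)) (by
      simp only [L, List.mem_append]; exact Or.inl (Or.inr (List.mem_map.2 ⟨p, hp, rfl⟩)))
    rwa [lift_cw_eq_one, eA, eB] at this
  · have := hk (cw (B p.1) (A p.2.1 * B p.2.2 * (A p.2.1)⁻¹)) (by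
      simp only [L, List.mem_append]; exact Or.inr (List.mem_map.2 ⟨p, hp, rfl⟩))
    rwa [lift_cw_eq_one, map_mul, map_mul, map_inv, eA, eB, eB] at this

variable {G : Type*} [Group G]

include hF in
/-- The gluing over a base. -/
theorem injective_of_base {G : Type} [Group G] (hm : 4 ≤ m) (h : m ≤ n) (hn : 4 ≤ n) (h5 : q = 2 → 5 ≤ m)
    (φ : G →* Cfsg.SU n F q) (β : Cfsg.SU m F q →* G) (R : alternatingGroup (Fin n) →* G)
    (hβ : ∀ x, φ (β x) = emb (Fin.castLEEmb h) x) (hR : ∀ π, φ (R π) = permSU π)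
    (gen : ⊤ ≤ Subgroup.closure (Set.range (β.comp (blk hm)) ∪ Set.range R))
    (link : ∀ a, R (upN h a) = β (permSU a))
    (stab : ∀ σ : alternatingGroup (Fin n), (σ : Perm (Fin n)) (cd hn 0) = cd hn 0 →
      (σ : Perm (Fin n)) (cd hn 1) = cd hn 1 → ∀ u ∈ W F q, Commute (R σ) (β (blk hm u)))
    (vstab₂ : q = 2 → ∀ σ : alternatingGroup (Fin n), (∀ i : Fin 3, (σ : Perm (Fin n)) (f3 hn i) = f3 hn i) →
      ∀ v, Commute (R σ) (β (blk hm v)))
    (uv₂ : q = 2 → ∀ π : alternatingGroup (Fin n),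
      (∀ i : Fin 3, (π : Perm (Fin n)) (f3 hn i) ≠ cd hn 0 ∧ (π : Perm (Fin n)) (f3 hn i) ≠ cd hn 1) →
      ∀ u ∈ W F q, ∀ v, Commute (β (blk hm u)) (R π * β (blk hm v) * (R π)⁻¹))
    (vv₂ : q = 2 → ∀ π : alternatingGroup (Fin n),
      (∀ i j : Fin 3, (π : Perm (Fin n)) (f3 hn i) ≠ f3 hn j) →
      ∀ v v', Commute (β (blk hm v)) (R π * β (blk hm v') * (R π)⁻¹)) :
    Function.Injective φ := by
  obtain ⟨a, b, ha, hb, hab⟩ := exists_W_gens hF
  obtain ⟨l, -, hlfix, hl⟩ := exists_stab_gens hn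
  obtain ⟨a', ha', hea⟩ := exists_eN_W (F := F) hF hm ha
  obtain ⟨b', hb', heb⟩ := exists_eN_W (F := F) hF hm hb
  let ψ : Cfsg.SU 3 F q →* G := β.comp (blk hm)
  have hcomm : ∀ x ∈ W F q, ∀ y ∈ W F q, Commute (ψ x) (R (kN hn) * ψ y * (R (kN hn))⁻¹) := by
    intro x hx y hy
    rw [← show upN h (kN hm) = kN hn from upN_dbl hm h hn (by decide) (by decide), link]
    show Commute (β (blk hm x)) (β (permSU (kN hm)) * β (blk hm y) * (β (permSU (kN hm)))⁻¹)
    rw [← map_inv, ← map_mul, ← map_mul]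
    refine (commute_of_disjoint hF ?_ (blk_W_mem_Sp hm hx) (conj_perm_Sp (blk_W_mem_Sp hm hy))).map β
    simp [kN_0, kN_1, cd_ne hm (show (2 : Fin 4) ≠ 0 by decide), cd_ne hm (show (3 : Fin 4) ≠ 0 by decide),
      cd_ne hm (show (2 : Fin 4) ≠ 1 by decide), cd_ne hm (show (3 : Fin 4) ≠ 1 by decide)]
  have heN : ∀ x x', blk hm x' = permSU (eN hm) * blk hm x * (permSU (eN hm))⁻¹ →
      R (eN hn) * ψ x * (R (eN hn))⁻¹ = ψ x' := by
    intro x x' e
    rw [← show upN h (eN hm) = eN hn from upN_dbl hm h hn (by decide) (by decide), link]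
    show β (permSU (eN hm)) * β (blk hm x) * (β (permSU (eN hm)))⁻¹ = β (blk hm x')
    rw [e, map_mul, map_mul, map_inv]
  let Γ : Glue G F q n hn := mkGlue hn φ ψ R
    (fun z => (hβ _).trans (emb_blk hm h hn z)) hR gen
    (by rw [← upN_cN hm h hn, link, permSU_cN]; rfl) ha hb hab hl
    (fun σ hσ => ⟨stab σ (hlfix σ hσ).1 (hlfix σ hσ).2 a ha, stab σ (hlfix σ hσ).1 (hlfix σ hσ).2 b hb⟩)
    ⟨⟨a', ha', heN a a' hea⟩, b', hb', heN b b' heb⟩
    ⟨hcomm a ha a ha, hcomm a ha b hb, hcomm b hb b hb⟩ vstab₂ uv₂ vv₂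
  have hsub : Γ.SubInj m := by
    intro x hx h1
    have hle : Subgroup.closure (Set.range Γ.ψ ∪
        Γ.R '' {σ | ∀ i : Fin n, m ≤ (i : ℕ) → (σ : Perm (Fin n)) i = i}) ≤ β.range := by
      rw [Subgroup.closure_le]
      rintro _ (⟨z, rfl⟩ | ⟨σ, hσ, rfl⟩)
      · exact ⟨blk hm z, rfl⟩
      · obtain ⟨σ', rfl⟩ := exists_upN h hσ
        exact ⟨permSU σ', (link σ').symm⟩
    obtain ⟨y, rfl⟩ := hle hx
    have h1' : emb (Fin.castLEEmb h) y = 1 := (hβ y).symm.trans h1
    rw [← map_one (emb (F := F) (q := q) (Fin.castLEEmb h))] at h1'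
    rw [emb_injective _ h1', map_one]
  have mono : ∀ k, k ≤ m → Γ.SubInj k := by
    intro k hk x hx h1
    refine hsub x (Subgroup.closure_mono (Set.union_subset_union_right _ ?_) hx) h1
    rintro _ ⟨σ, hσ, rfl⟩
    exact ⟨σ, fun i hi => hσ i (hk.trans hi), rfl⟩
  exact Glue.injective hF Γ (fun h2 => (h5 h2).trans h) (fun h2 => mono 5 (h5 h2)) (fun _ => mono 4 hm)

include hF in
/-- `q = 3`: from a presentation of `SU₄`. -/
theorem presOn_three (hn : 4 ≤ n) (h2 : q ≠ 2) {X Y : Type} {r s : ℕ}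
    (hB : PresOn X (Cfsg.SU 4 F q) r) (hA : PresOn Y (alternatingGroup (Fin n)) s) :
    PresOn (X ⊕ Y) (Cfsg.SU n F q) (r + s + 2 + 2 * (if n = 4 then 0 else if n = 5 then 1 else 2)) := by
  obtain ⟨a, b, ha, hb, hab⟩ := exists_W_gens hF
  obtain ⟨l, hlen, hlfix, hl⟩ := exists_stab_gens hn
  let l₁ : List (alternatingGroup (Fin n) × Cfsg.SU 4 F q) :=
    l.map (fun σ => (σ, blk le_rfl a)) ++ l.map (fun σ => (σ, blk le_rfl b))
  refine (presOn_base hF le_rfl hn hn hB hA l₁ ?_ [] (by simp) fun G _ φ β R hβ hR gen link h₁ _ => ?_).mono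
    (by simp only [l₁, List.length_append, List.length_map, List.length_nil]; omega)
  · intro p hp
    have hst : ∀ σ ∈ l, ∀ z ∈ W F q, Commute (permSU σ) (blk hn z : Cfsg.SU n F q) := by
      intro σ hσ z hz
      refine (commute_of_disjoint hF (disjoint_compl_right (a := ({cd hn 0, cd hn 1} : Finset (Fin n))))
        (blk_W_mem_Sp hn hz) (permSU_mem_Sp σ ?_)).symm
      intro o ho
      simp only [Finset.mem_compl, not_not, Finset.mem_insert, Finset.mem_singleton] at ho
      rcases ho with rfl | rfl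
      · exact (hlfix σ hσ).1
      · exact (hlfix σ hσ).2
    simp only [l₁, List.mem_append, List.mem_map] at hp
    rcases hp with ⟨σ, hσ, rfl⟩ | ⟨σ, hσ, rfl⟩
    · rw [emb_blk le_rfl hn hn]; exact hst σ hσ a ha
    · rw [emb_blk le_rfl hn hn]; exact hst σ hσ b hb
  · refine injective_of_base hF le_rfl hn hn (fun h => absurd h h2) φ β R hβ hR gen link ?_
      (fun h => absurd h h2) (fun h => absurd h h2) (fun h => absurd h h2)
    intro σ h0 h1 u hu
    refine (commute_closure R ?_ (hl σ h0 h1)).symm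
    intro τ hτ
    refine commute_closure (β.comp (blk le_rfl)) ?_ (hab u hu) |>.symm
    intro z hz
    rcases hz with rfl | rfl
    · exact h₁ (τ, _) (List.mem_append_left _ (List.mem_map.2 ⟨τ, hτ, rfl⟩))
    · exact h₁ (τ, _) (List.mem_append_right _ (List.mem_map.2 ⟨τ, hτ, rfl⟩))

end Setup

end CfsgLib.SUnPres
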