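import Cfsg.Agent.Lib.SUnPres.Base

/-!
Presentations over the field with four elements from one of `SU₅(2)`.
-/

set_option autoImplicit false
set_option linter.unusedSectionVars false

namespace CfsgLib.SUnPres

open CfsgLib.Classical.Herm
open CfsgLib.BoundedPres (PresOn)
open Finset Equiv

attribute [-simp] qPow_apply

variable {n : ℕ}

/-- An even permutation fixing a set moves a triple onto another one up to exchanging two entries. -/
theorem exists_move_triple (D : Finset (Fin n)) {x y z a b c : Fin n} (hxy : x ≠ y) (hxz : x ≠ z)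
    (hyz : y ≠ z) (hab : a ≠ b) (hac : a ≠ c) (hbc : b ≠ c) (hx : x ∉ D) (hy : y ∉ D) (hz : z ∉ D)
    (ha : a ∉ D) (hb : b ∉ D) (hc : c ∉ D) :
    ∃ σ : alternatingGroup (Fin n), (∀ d ∈ D, (σ : Perm (Fin n)) d = d) ∧
      (((σ : Perm (Fin n)) x = a ∧ (σ : Perm (Fin n)) y = b) ∨
        ((σ : Perm (Fin n)) x = b ∧ (σ : Perm (Fin n)) y = a)) ∧ (σ : Perm (Fin n)) z = c := by
  classical
  have step : ∀ (t : Perm (Fin n)) (p r : Fin n), (∀ d ∈ D, t d = d) → p ∉ D → r ∉ D →
      ∀ d ∈ D, (swap (t p) r * t) d = d := by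
    intro t p r ht hp hr d hd
    show swap (t p) r (t d) = d
    rw [ht d hd]
    refine swap_apply_of_ne_of_ne (fun e => hp ?_) (fun e => hr (by rw [← e]; exact hd))
    rw [← t.injective ((ht d hd).trans e)]
    exact hd
  let t1 : Perm (Fin n) := swap ((1 : Perm (Fin n)) x) a * 1
  let t2 : Perm (Fin n) := swap (t1 y) b * t1
  let t3 : Perm (Fin n) := swap (t2 z) c * t2
  have f3' : ∀ d ∈ D, t3 d = d :=
    step t2 z c (step t1 y b (step 1 x a (fun _ _ => rfl) hx ha) hy hb) hz hc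
  have e1 : t1 x = a := swap_apply_left _ _
  have e2 : t2 x = a := by
    show swap (t1 y) b (t1 x) = a
    rw [e1]
    exact swap_apply_of_ne_of_ne (fun e => hxy (t1.injective (e1.trans e))) hab
  have e2' : t2 y = b := swap_apply_left _ _
  have e3 : t3 x = a := by
    show swap (t2 z) c (t2 x) = a
    rw [e2]
    exact swap_apply_of_ne_of_ne (fun e => hxz (t2.injective (e2.trans e))) hac
  have e3' : t3 y = b := by
    show swap (t2 z) c (t2 y) = b
    rw [e2']
    exact swap_apply_of_ne_of_ne (fun e => hyz (t2.injective (e2'.trans e))) hbc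
  have e3'' : t3 z = c := swap_apply_left _ _
  by_cases hs : Perm.sign t3 = 1
  · exact ⟨⟨t3, Perm.mem_alternatingGroup.2 hs⟩, f3', Or.inl ⟨e3, e3'⟩, e3''⟩
  refine ⟨⟨t3 * swap x y, Perm.mem_alternatingGroup.2 ?_⟩, fun d hd => ?_, Or.inr ⟨?_, ?_⟩, ?_⟩
  · rw [map_mul, Perm.sign_swap hxy]
    rcases Int.units_eq_one_or (Perm.sign t3) with e | e
    · exact absurd e hs
    · rw [e]; decide
  · show t3 (swap x y d) = d
    rw [swap_apply_of_ne_of_ne (fun e => hx (by rw [← e]; exact hd)) (fun e => hy (by rw [← e]; exact hd))]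
    exact f3' d hd
  · show t3 (swap x y x) = b
    rw [swap_apply_left]; exact e3'
  · show t3 (swap x y y) = a
    rw [swap_apply_right]; exact e3
  · show t3 (swap x y z) = c
    rw [swap_apply_of_ne_of_ne hxz.symm hyz.symm]; exact e3''

/-- Shift by two of five points. -/
def pi5 : alternatingGroup (Fin 5) :=
  ⟨finRotate 5 * finRotate 5, Perm.mem_alternatingGroup.2 (by decide)⟩

/-- An even permutation carrying the first three of six points onto the last three. -/
def pi6 : alternatingGroup (Fin 6) :=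
  ⟨swap 0 3 * swap 1 4 * swap 2 5 * swap 3 4, Perm.mem_alternatingGroup.2 (by decide)⟩

/-- The double transposition normalising the block. -/
def kap5 : alternatingGroup (Fin 5) := dbl 0 1 3 4 (by decide) (by decide)

/-- The three-cycle on the last three of five points. -/
def t5 : alternatingGroup (Fin 5) := tri 2 3 4 (by decide) (by decide)

theorem pi6_apply : ∀ i : Fin 3, (pi6 : Perm (Fin 6)) ⟨i, by omega⟩ = ⟨i + 3, by omega⟩ := by decide

theorem pi5_apply : ∀ i : Fin 3, (pi5 : Perm (Fin 5)) ⟨i, by omega⟩ = ⟨i + 2, by omega⟩ := by decide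

theorem kap5_apply : ∀ i : Fin 3, ((kap5 : Perm (Fin 5)) ⟨i, by omega⟩ : ℕ) = ((swap 0 1 i : Fin 3) : ℕ) := by
  decide

theorem t5_apply : (∀ i : Fin 2, (t5 : Perm (Fin 5)) ⟨i, by omega⟩ = ⟨i, by omega⟩) ∧
    (t5 : Perm (Fin 5)) 2 = 3 := by decide

theorem t5_fix (hm : 4 ≤ 5) : (t5 : Perm (Fin 5)) (cd hm 0) = cd hm 0 ∧
    (t5 : Perm (Fin 5)) (cd hm 1) = cd hm 1 := by decide +revert

theorem kap5_map (hm : 4 ≤ 5) : ({cd hm 0, cd hm 1, cd hm 2} : Finset (Fin 5)).map
    (kap5 : Perm (Fin 5)).toEmbedding ⊆ univ.map (f3 hm) := by decide +revert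

theorem pi5_disjoint (hm : 4 ≤ 5) : Disjoint ({cd hm 0, cd hm 1} : Finset (Fin 5))
    (({cd hm 0, cd hm 1, cd hm 2} : Finset (Fin 5)).map (pi5 : Perm (Fin 5)).toEmbedding) := by
  decide +revert

variable {F : Type*} [Field F] [Fintype F] {q : ℕ} (hF : Fintype.card F = q ^ 2)

include hF in
/-- `q = 2`: from a presentation of `SU₅`. -/
theorem presOn_two (h2 : q = 2) (hn : 6 ≤ n) {X Y : Type} {r s : ℕ}
    (hB : PresOn X (Cfsg.SU 5 F q) r) (hA : PresOn Y (alternatingGroup (Fin n)) s) :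
    PresOn (X ⊕ Y) (Cfsg.SU n F q) (r + s + 17) := by
  have h3 : PresOn (Fin 3) (Cfsg.SU 3 F q) 6 := by subst h2; exact SmallThree.presOn_two hF
  obtain ⟨w, -, -, -, hwgen, -⟩ := h3
  obtain ⟨l3, hlen3, hl3fix, hl3⟩ := exists_fix_gens 3 (show 3 ≤ n by omega)
  have hn4 : 4 ≤ n := by omega
  have h5n : 5 ≤ n := by omega
  have hm : 4 ≤ 5 := by omega
  let S3 : List (Cfsg.SU 3 F q) := [w 0, w 1, w 2]
  have hS3 : ∀ u, u ∈ Subgroup.closure {x | x ∈ S3} := by
    intro u
    refine Subgroup.closure_mono ?_ (hwgen ▸ Subgroup.mem_top u)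
    rintro _ ⟨i, rfl⟩
    fin_cases i <;> simp [S3]
  let P0 : alternatingGroup (Fin n) := upN hn pi6
  let l₁ : List (alternatingGroup (Fin n) × Cfsg.SU 5 F q) :=
    (l3.map fun σ => S3.map fun z => (σ, blk hm z)).flatten
  let l₂ : List (Cfsg.SU 5 F q × alternatingGroup (Fin n) × Cfsg.SU 5 F q) :=
    (S3.map fun z => S3.map fun z' => (blk hm z, P0, blk hm z')).flatten
  have hlen1 : l₁.length ≤ 6 := by
    rcases l3 with _ | ⟨a, _ | ⟨b, _ | ⟨c, t⟩⟩⟩ <;> simp_all [l₁, S3]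
  have hlen2 : l₂.length = 9 := by simp [l₂, S3]
  have hf3 : ∀ i : Fin 3, ((f3 hn4 i : Fin n) : ℕ) = (i : ℕ) := fun _ => rfl
  have c6 : ∀ x : Fin 6, ((Fin.castLE hn x : Fin n) : ℕ) = (x : ℕ) := fun _ => rfl
  have c5 : ∀ x : Fin 5, ((Fin.castLE h5n x : Fin n) : ℕ) = (x : ℕ) := fun _ => rfl
  have hP0 : ∀ i : Fin 3, (P0 : Perm (Fin n)) (f3 hn4 i) = Fin.castLE hn ⟨i + 3, by omega⟩ := by
    intro i
    rw [show f3 hn4 i = Fin.castLE hn ⟨i, by omega⟩ from Fin.ext rfl, upN_castLE]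
    exact congrArg _ (pi6_apply i)
  refine (presOn_base hF hm h5n hn4 hB hA l₁ ?_ l₂ ?_ fun G _ φ β R hβ hR gen link h₁ h₂ => ?_).mono
    (by omega)
  · intro p hp
    simp only [l₁, List.mem_flatten, List.mem_map] at hp
    obtain ⟨_, ⟨σ, hσ, rfl⟩, hp⟩ := hp
    obtain ⟨z, -, rfl⟩ := List.mem_map.1 hp
    rw [emb_blk hm h5n hn4]
    refine (commute_of_disjoint hF
      (disjoint_compl_right (a := ({cd hn4 0, cd hn4 1, cd hn4 2} : Finset (Fin n))))
      (blk_mem_Sp hn4 z) (permSU_mem_Sp σ ?_)).symm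
    intro o ho
    simp only [Finset.mem_compl, not_not, Finset.mem_insert, Finset.mem_singleton] at ho
    refine hl3fix σ hσ o ?_
    rcases ho with rfl | rfl | rfl <;> simp [cd]
  · intro p hp
    simp only [l₂, List.mem_flatten, List.mem_map] at hp
    obtain ⟨_, ⟨z, -, rfl⟩, hp⟩ := hp
    obtain ⟨z', -, rfl⟩ := List.mem_map.1 hp
    rw [emb_blk hm h5n hn4, emb_blk hm h5n hn4]
    refine commute_of_disjoint hF ?_ (blk_mem_Sp hn4 z) (conj_perm_Sp (blk_mem_Sp hn4 z'))
    rw [Finset.disjoint_left]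
    intro o ho ho'
    simp only [Finset.mem_map, Finset.mem_insert, Finset.mem_singleton, Equiv.coe_toEmbedding] at ho ho'
    obtain ⟨i, hi, rfl⟩ := ho'
    have hlow : ((P0 : Perm (Fin n)) i : ℕ) < 3 := by rcases ho with h | h | h <;> rw [h] <;> simp [cd]
    rcases hi with rfl | rfl | rfl
    · rw [← f3_0, hP0, c6] at hlow; simp at hlow
    · rw [← f3_1, hP0, c6] at hlow; simp at hlow
    · rw [← f3_2, hP0, c6] at hlow; simp at hlow
  -- derived relations
  have vstab : ∀ σ : alternatingGroup (Fin n), (∀ i : Fin 3, (σ : Perm (Fin n)) (f3 hn4 i) = f3 hn4 i) →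
      ∀ v, Commute (R σ) (β (blk hm v)) := by
    intro σ hσ v
    refine (commute_closure R ?_ (hl3 σ fun i hi => ?_)).symm
    · intro τ hτ
      refine (commute_closure (β.comp (blk hm)) ?_ (hS3 v)).symm
      intro z hz
      exact h₁ (τ, blk hm z) (by
        simp only [l₁, List.mem_flatten, List.mem_map]
        exact ⟨_, ⟨τ, hτ, rfl⟩, List.mem_map.2 ⟨z, hz, rfl⟩⟩)
    · rw [show i = f3 hn4 ⟨i, hi⟩ from Fin.ext rfl]
      exact hσ _
  have hinv : ∀ {τ : alternatingGroup (Fin n)} {i j : Fin n}, (τ : Perm (Fin n)) i = j →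
      (τ⁻¹ : alternatingGroup (Fin n)).1 j = i := by
    intro τ i j e
    rw [Subgroup.coe_inv, Perm.inv_def, Equiv.symm_apply_eq, e]
  have stab : ∀ σ : alternatingGroup (Fin n), (σ : Perm (Fin n)) (cd hn4 0) = cd hn4 0 →
      (σ : Perm (Fin n)) (cd hn4 1) = cd hn4 1 → ∀ u ∈ W F q, Commute (R σ) (β (blk hm u)) := by
    intro σ h0 h1 u hu
    by_cases h2' : (σ : Perm (Fin n)) (cd hn4 2) = cd hn4 2
    · refine vstab σ (fun i => ?_) _
      fin_cases i
      · exact h0
      · exact h1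
      · exact h2'
    let t : alternatingGroup (Fin 5) := t5
    set x := (σ : Perm (Fin n)) (cd hn4 2) with hx
    have hx0 : x ≠ cd hn4 0 := fun e => cd_ne hn4 (show (2 : Fin 4) ≠ 0 by decide)
      ((σ : Perm (Fin n)).injective (e.trans h0.symm))
    have hx1 : x ≠ cd hn4 1 := fun e => cd_ne hn4 (show (2 : Fin 4) ≠ 1 by decide)
      ((σ : Perm (Fin n)).injective (e.trans h1.symm))
    obtain ⟨τ, hτf, hτ3⟩ : ∃ τ : alternatingGroup (Fin n),
        (∀ i : Fin 3, (τ : Perm (Fin n)) (f3 hn4 i) = f3 hn4 i) ∧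
          (τ : Perm (Fin n)) (cd hn4 3) = x := by
      by_cases hx3 : x = cd hn4 3
      · exact ⟨1, fun _ => rfl, hx3.symm⟩
      obtain ⟨z, hz⟩ := exists_third hn4 {cd hn4 0, cd hn4 1, cd hn4 2, cd hn4 3, x} (by
        refine lt_of_le_of_lt Finset.card_le_five (by omega))
      simp only [Finset.mem_insert, Finset.mem_singleton, not_or] at hz
      refine ⟨tri (cd hn4 3) x z (Ne.symm hx3) (Ne.symm hz.2.2.2.2), fun i => ?_, ?_⟩
      · show swap _ _ (swap _ _ (f3 hn4 i)) = _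
        have e : f3 hn4 i = cd hn4 i.castSucc := rfl
        rw [e, swap_apply_of_ne_of_ne (a := x) (b := z), swap_apply_of_ne_of_ne]
        · exact cd_ne hn4 ((show ∀ j : Fin 3, j.castSucc ≠ (3 : Fin 4) by decide) i)
        · fin_cases i
          · exact hx0.symm
          · exact hx1.symm
          · exact Ne.symm h2'
        · fin_cases i
          · exact hx0.symm
          · exact hx1.symm
          · exact Ne.symm h2'
        · fin_cases i
          · exact Ne.symm hz.1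
          · exact Ne.symm hz.2.1
          · exact Ne.symm hz.2.2.1
      · show swap _ _ (swap _ _ (cd hn4 3)) = _
        rw [swap_apply_of_ne_of_ne (Ne.symm hx3) (Ne.symm hz.2.2.2.1), swap_apply_left]
    set ρ := τ * upN h5n t * τ⁻¹ with hρdef
    have cfix : ∀ i : Fin 2, (upN h5n t : Perm (Fin n)) (cd hn4 ⟨i, by omega⟩) = cd hn4 ⟨i, by omega⟩ := by
      intro i
      rw [show cd hn4 ⟨i, by omega⟩ = Fin.castLE h5n ⟨i, by omega⟩ from Fin.ext rfl, upN_castLE]
      exact congrArg _ (t5_apply.1 i)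
    have r0 : (ρ : Perm (Fin n)) (cd hn4 0) = cd hn4 0 := by
      simp only [hρdef, Subgroup.coe_mul, Perm.mul_apply]
      rw [hinv (show (τ : Perm (Fin n)) (cd hn4 0) = cd hn4 0 from hτf 0)]
      exact (congrArg _ (cfix 0)).trans (hτf 0)
    have r1 : (ρ : Perm (Fin n)) (cd hn4 1) = cd hn4 1 := by
      simp only [hρdef, Subgroup.coe_mul, Perm.mul_apply]
      rw [hinv (show (τ : Perm (Fin n)) (cd hn4 1) = cd hn4 1 from hτf 1)]
      exact (congrArg _ (cfix 1)).trans (hτf 1)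
    have r2 : (ρ : Perm (Fin n)) (cd hn4 2) = x := by
      simp only [hρdef, Subgroup.coe_mul, Perm.mul_apply]
      rw [hinv (show (τ : Perm (Fin n)) (cd hn4 2) = cd hn4 2 from hτf 2),
        show cd hn4 2 = Fin.castLE h5n (2 : Fin 5) from Fin.ext rfl, upN_castLE,
        t5_apply.2]
      exact (congrArg _ (Fin.ext rfl)).trans hτ3
    have hρ : Commute (R ρ) (β (blk hm u)) := by
      rw [hρdef, map_mul, map_mul, map_inv]
      refine (Commute.mul_left (vstab τ hτf u) ?_).mul_left (vstab τ hτf u).inv_left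
      rw [link]
      refine ((commute_of_disjoint hF
        (disjoint_compl_right (a := ({cd hm 0, cd hm 1} : Finset (Fin 5))))
        (blk_W_mem_Sp hm hu) (permSU_mem_Sp t ?_)).symm).map β
      intro o ho
      simp only [Finset.mem_compl, not_not, Finset.mem_insert, Finset.mem_singleton] at ho
      rcases ho with rfl | rfl
      exacts [(t5_fix hm).1, (t5_fix hm).2]
    rw [show σ = ρ * (ρ⁻¹ * σ) by group, map_mul]
    refine hρ.mul_left (vstab _ (fun i => ?_) u)
    simp only [Subgroup.coe_mul, Perm.mul_apply]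
    fin_cases i
    · exact hinv (r0.trans h0.symm)
    · exact hinv (r1.trans h1.symm)
    · exact hinv r2
  have hkap : ∀ v, ∃ v', R (upN h5n kap5) * β (blk hm v) * (R (upN h5n kap5))⁻¹ = β (blk hm v') := by
    intro v
    obtain ⟨v', hv'⟩ := exists_emb_eq hF (f3 hm) (S := univ.map (f3 hm)) (fun i hi => by simpa using hi)
      (g := permSU kap5 * blk hm v * (permSU kap5 : Cfsg.SU 5 F q)⁻¹)
      (Sp_mono (kap5_map hm) (conj_perm_Sp (blk_mem_Sp hm v)))
    exact ⟨v', by rw [link, ← map_inv, ← map_mul, ← map_mul, ← hv', blk]⟩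
  have norm : ∀ τ : alternatingGroup (Fin n),
      ((τ : Perm (Fin n)) (cd hn4 0) = cd hn4 0 ∧ (τ : Perm (Fin n)) (cd hn4 1) = cd hn4 1 ∨
        (τ : Perm (Fin n)) (cd hn4 0) = cd hn4 1 ∧ (τ : Perm (Fin n)) (cd hn4 1) = cd hn4 0) →
      (τ : Perm (Fin n)) (cd hn4 2) = cd hn4 2 →
      ∀ v, ∃ v', R τ * β (blk hm v) * (R τ)⁻¹ = β (blk hm v') := by
    intro τ h01 h22 v
    rcases h01 with ⟨h0, h1⟩ | ⟨h0, h1⟩
    · refine ⟨v, ?_⟩
      have hc := vstab τ (fun i => by
        fin_cases i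
        · exact h0
        · exact h1
        · exact h22) v
      rw [hc.eq, mul_inv_cancel_right]
    · have kk : ∀ i : Fin 3, (upN h5n kap5 : Perm (Fin n)) (f3 hn4 i) =
          f3 hn4 (swap 0 1 i) := by
        intro i
        rw [show f3 hn4 i = Fin.castLE h5n ⟨i, by omega⟩ from Fin.ext rfl, upN_castLE]
        exact Fin.ext (kap5_apply i)
      obtain ⟨v', hv'⟩ := hkap v
      refine ⟨v', ?_⟩
      have hc := vstab ((upN h5n kap5)⁻¹ * τ) (fun i => by
        simp only [Subgroup.coe_mul, Perm.mul_apply]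
        fin_cases i
        · exact hinv ((kk 0).trans h0.symm)
        · exact hinv ((kk 1).trans h1.symm)
        · exact hinv ((kk 2).trans h22.symm)) v
      rw [show τ = upN h5n kap5 * ((upN h5n kap5)⁻¹ * τ) by group, map_mul, ← hv']
      rw [_root_.mul_inv_rev, mul_assoc (R (upN h5n kap5)), hc.eq]
      group
  have spread : ∀ (D : Finset (Fin n)) (π₀ π : alternatingGroup (Fin n)) (U : G),
      (∀ σ : alternatingGroup (Fin n), (∀ d ∈ D, (σ : Perm (Fin n)) d = d) → Commute (R σ) U) →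
      (∀ i, (π₀ : Perm (Fin n)) (f3 hn4 i) ∉ D) → (∀ i, (π : Perm (Fin n)) (f3 hn4 i) ∉ D) →
      (∀ v, Commute U (R π₀ * β (blk hm v) * (R π₀)⁻¹)) →
      ∀ v, Commute U (R π * β (blk hm v) * (R π)⁻¹) := by
    intro D π₀ π U hU h0D hD hcom v
    have ne : ∀ (ρ : alternatingGroup (Fin n)) {i j : Fin 3}, i ≠ j →
        (ρ : Perm (Fin n)) (f3 hn4 i) ≠ (ρ : Perm (Fin n)) (f3 hn4 j) := fun ρ _ _ h =>
      (ρ : Perm (Fin n)).injective.ne ((f3 hn4).injective.ne h)
    obtain ⟨σ, hσD, hσ, hσz⟩ := exists_move_triple D (ne π₀ (show (0 : Fin 3) ≠ 1 by decide))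
      (ne π₀ (show (0 : Fin 3) ≠ 2 by decide)) (ne π₀ (show (1 : Fin 3) ≠ 2 by decide))
      (ne π (show (0 : Fin 3) ≠ 1 by decide)) (ne π (show (0 : Fin 3) ≠ 2 by decide))
      (ne π (show (1 : Fin 3) ≠ 2 by decide)) (h0D 0) (h0D 1) (h0D 2) (hD 0) (hD 1) (hD 2)
    have hm' : ∀ i j : Fin 3, (σ : Perm (Fin n)) ((π₀ : Perm (Fin n)) (f3 hn4 i)) =
        (π : Perm (Fin n)) (f3 hn4 j) → (π₀⁻¹ * σ⁻¹ * π : alternatingGroup (Fin n)).1 (f3 hn4 j) = f3 hn4 i := by
      intro i j e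
      simp only [Subgroup.coe_mul, Perm.mul_apply]
      rw [← e, hinv rfl, hinv rfl]
    obtain ⟨v', hv'⟩ := norm (π₀⁻¹ * σ⁻¹ * π) (by
      rcases hσ with ⟨a, b⟩ | ⟨a, b⟩
      · exact Or.inl ⟨hm' 0 0 a, hm' 1 1 b⟩
      · exact Or.inr ⟨hm' 1 0 b, hm' 0 1 a⟩) (hm' 2 2 hσz) v
    have e : R π * β (blk hm v) * (R π)⁻¹ =
        R σ * (R π₀ * β (blk hm v') * (R π₀)⁻¹) * (R σ)⁻¹ := by
      rw [← hv', map_mul, map_mul, map_inv, map_inv]
      group
    rw [e]
    exact ((hU σ hσD).symm.mul_right (hcom v')).mul_right (hU σ hσD).inv_left.symm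
  refine injective_of_base hF hm h5n hn4 (fun _ => le_rfl) φ β R hβ hR gen link stab
    (fun _ => vstab) (fun _ π hπ u hu v => ?_) (fun _ π hπ v v' => ?_)
  · refine spread {cd hn4 0, cd hn4 1} (upN h5n pi5) π _
      (fun σ hσ => stab σ (hσ _ (by simp)) (hσ _ (by simp)) u hu) (fun i => ?_) (fun i => by
        simp [(hπ i).1, (hπ i).2]) (fun v => ?_) v
    · rw [show f3 hn4 i = Fin.castLE h5n ⟨i, by omega⟩ from Fin.ext rfl, upN_castLE]
      rw [pi5_apply, Finset.mem_insert, Finset.mem_singleton, Fin.ext_iff, Fin.ext_iff, c5]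
      show ¬ ((i : ℕ) + 2 = 0 ∨ (i : ℕ) + 2 = 1)
      omega
    · rw [link, ← map_inv, ← map_mul, ← map_mul]
      exact (commute_of_disjoint hF (pi5_disjoint hm) (blk_W_mem_Sp hm hu) (conj_perm_Sp (blk_mem_Sp hm v))).map β
  · refine spread {cd hn4 0, cd hn4 1, cd hn4 2} P0 π _
      (fun σ hσ => vstab σ (fun i => hσ _ (by fin_cases i <;> simp [f3_0, f3_1, f3_2])) v)
      (fun i => ?_) (fun i => ?_) (fun z => ?_) v'
    · rw [hP0, Finset.mem_insert, Finset.mem_insert, Finset.mem_singleton, Fin.ext_iff, Fin.ext_iff,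
        Fin.ext_iff, c6]
      show ¬ ((i : ℕ) + 3 = 0 ∨ (i : ℕ) + 3 = 1 ∨ (i : ℕ) + 3 = 2)
      omega
    · simp only [Finset.mem_insert, Finset.mem_singleton]
      rintro (h | h | h)
      · exact hπ i 0 h
      · exact hπ i 1 h
      · exact hπ i 2 h
    · refine (commute_closure (β.comp (blk hm)) ?_ (hS3 v)).symm
      intro a ha
      refine (commute_closure ((MulAut.conj (R P0)).toMonoidHom.comp (β.comp (blk hm))) ?_ (hS3 z)).symm
      intro b hb
      exact h₂ (blk hm a, P0, blk hm b) (by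
        simp only [l₂, List.mem_flatten, List.mem_map]
        exact ⟨_, ⟨a, ha, rfl⟩, List.mem_map.2 ⟨b, hb, rfl⟩⟩)

end CfsgLib.SUnPres
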