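import Cfsg.Agent.Lib.SUnPres.Perms

/-!
The block on three coordinates and its generation by two pieces.
-/

set_option autoImplicit false
set_option linter.unusedSectionVars false

namespace CfsgLib.SUnPres

open CfsgLib.Classical.Herm
open Finset Equiv

attribute [-simp] qPow_apply

variable {F : Type*} [Field F] [Fintype F] {q n : ℕ}

/-- The pair piece of the block. -/
def W (F : Type*) [Field F] [Fintype F] (q : ℕ) : Subgroup (Cfsg.SU 3 F q) := Sp {0, 1}

/-- The cycle of the block. -/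
noncomputable def C3 (F : Type*) [Field F] [Fintype F] (q : ℕ) : Cfsg.SU 3 F q :=
  permSU (tri 0 1 2 (by decide) (by decide))

theorem act_C3_ev (i : Fin 3) : act (C3 F q) (ev i) = ev (i + 1) := by
  rw [C3, act_permSU_ev]
  congr 1
  fin_cases i <;> decide

/-- The block embedding. -/
def f3 (hn : 4 ≤ n) : Fin 3 ↪ Fin n := Fin.castLEEmb (by omega)

theorem f3_apply (hn : 4 ≤ n) (i : Fin 3) : f3 hn i = cd hn i.castSucc := rfl

theorem f3_0 (hn : 4 ≤ n) : f3 hn 0 = cd hn 0 := rfl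

theorem f3_1 (hn : 4 ≤ n) : f3 hn 1 = cd hn 1 := rfl

theorem f3_2 (hn : 4 ≤ n) : f3 hn 2 = cd hn 2 := rfl

/-- The block in the big group. -/
noncomputable abbrev blk (hn : 4 ≤ n) : Cfsg.SU 3 F q →* Cfsg.SU n F q := emb (f3 hn)

theorem conj_Sp {m : ℕ} {g h : Cfsg.SU m F q} {S : Finset (Fin m)} (σ : Perm (Fin m))
    (hσ : ∀ i, act g (ev i) = ev (σ i)) (hh : h ∈ Sp S) : g * h * g⁻¹ ∈ Sp (S.map σ.toEmbedding) := by
  intro o ho
  have h1 : act g⁻¹ (ev o) = ev (σ.symm o) := by
    apply act_injective g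
    rw [act_act_inv, hσ, Equiv.apply_symm_apply]
  rw [act_mul, act_mul, h1, hh _ fun hs => ho (by
    rw [Finset.mem_map]; exact ⟨_, hs, by simp⟩), hσ, Equiv.apply_symm_apply]

theorem conj_perm_Sp {π : alternatingGroup (Fin n)} {h : Cfsg.SU n F q} {S : Finset (Fin n)}
    (hh : h ∈ Sp S) : permSU π * h * (permSU π)⁻¹ ∈ Sp (S.map (π : Perm (Fin n)).toEmbedding) :=
  conj_Sp _ (act_permSU_ev π) hh

theorem permSU_cN (hn : 4 ≤ n) : (permSU (cN hn) : Cfsg.SU n F q) = blk hn (C3 F q) := by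
  refine ext_ev fun i => ?_
  rw [act_permSU_ev]
  by_cases hi : i ∈ Set.range (f3 hn)
  · obtain ⟨x, rfl⟩ := hi
    funext o
    by_cases ho : o ∈ Set.range (f3 hn)
    · obtain ⟨y, rfl⟩ := ho
      rw [blk, act_emb_in,
        show (fun z => (ev (f3 hn x) : Fin n → F) (f3 hn z)) = ev x from funext fun z => by simp [Pi.single_apply],
        act_C3_ev]
      have : (cN hn : Perm (Fin n)) (f3 hn x) = f3 hn (x + 1) := by
        fin_cases x
        · exact cN_0 hn
        · exact cN_1 hn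
        · exact cN_2 hn
      rw [this]
      simp [Pi.single_apply]
    · rw [blk, act_emb_out _ _ _ ho]
      have h1 : o ≠ f3 hn x := fun e => ho ⟨x, e.symm⟩
      have h2 : o ≠ (cN hn : Perm (Fin n)) (f3 hn x) := by
        fin_cases x
        · exact fun e => ho ⟨1, (e.trans (cN_0 hn)).symm⟩
        · exact fun e => ho ⟨2, (e.trans (cN_1 hn)).symm⟩
        · exact fun e => ho ⟨0, (e.trans (cN_2 hn)).symm⟩
      simp [h1, h2]
  · have h0 : i ≠ cd hn 0 := fun e => hi ⟨0, e.symm⟩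
    have h1 : i ≠ cd hn 1 := fun e => hi ⟨1, e.symm⟩
    have h2 : i ≠ cd hn 2 := fun e => hi ⟨2, e.symm⟩
    rw [show (cN hn : Perm (Fin n)) i = i by
      simp [cN, tri, swap_apply_of_ne_of_ne h0 h1, swap_apply_of_ne_of_ne h1 h2]]
    refine ((emb_mem_Sp (f3 hn) (C3 F q) (S := univ.map (f3 hn)) fun x => by simp) i ?_).symm
    simpa using hi

theorem blk_mem_Sp (hn : 4 ≤ n) (a : Cfsg.SU 3 F q) :
    blk hn a ∈ Sp ({cd hn 0, cd hn 1, cd hn 2} : Finset (Fin n)) :=
  emb_mem_Sp _ _ fun x => by fin_cases x <;> simp [f3_0, f3_1, f3_2]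

theorem blk_W_mem_Sp (hn : 4 ≤ n) {u : Cfsg.SU 3 F q} (hu : u ∈ W F q) :
    blk hn u ∈ Sp ({cd hn 0, cd hn 1} : Finset (Fin n)) := by
  intro o ho
  by_cases h2 : o = cd hn 2
  · subst h2
    funext i
    by_cases hi : i ∈ Set.range (f3 hn)
    · obtain ⟨x, rfl⟩ := hi
      rw [blk, act_emb_in, show (fun z => (ev (cd hn 2) : Fin n → F) (f3 hn z)) = ev 2 from
        funext fun z => by rw [← f3_2]; simp [Pi.single_apply], hu 2 (by decide), ← f3_2]
      simp [Pi.single_apply]
    · rw [blk, act_emb_out _ _ _ hi]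
  · exact blk_mem_Sp hn u o (by simp at ho ⊢; exact ⟨ho.1, ho.2, h2⟩)

theorem exists_W_of_mem (hF : Fintype.card F = q ^ 2) (hn : 4 ≤ n) {g : Cfsg.SU n F q}
    (hg : g ∈ Sp ({cd hn 0, cd hn 1} : Finset (Fin n))) : ∃ u ∈ W F q, blk hn u = g := by
  obtain ⟨u, hu⟩ := exists_emb_eq hF (f3 hn) (S := {cd hn 0, cd hn 1}) (fun i hi => by
    simp only [Finset.mem_insert, Finset.mem_singleton] at hi
    rcases hi with rfl | rfl
    · exact ⟨0, rfl⟩
    · exact ⟨1, rfl⟩) hg
  refine ⟨u, fun o ho => ?_, hu⟩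
  obtain rfl : o = 2 := by revert ho; revert o; decide
  have e := hg (f3 hn 2) (by
    rw [f3_2]; simp [cd_ne hn (show (2 : Fin 4) ≠ 0 by decide), cd_ne hn (show (2 : Fin 4) ≠ 1 by decide)])
  funext x
  have e' := congrFun e (f3 hn x)
  rw [← hu, act_emb_in, show (fun z => (ev (f3 hn 2) : Fin n → F) (f3 hn z)) = ev 2 from
    funext fun z => by simp [Pi.single_apply]] at e'
  rw [e']
  simp [Pi.single_apply]

/-- The block is generated by two conjugate pair pieces. -/
theorem block_gen (hF : Fintype.card F = q ^ 2) (h2 : q ≠ 2) :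
    Subgroup.closure ((W F q : Set (Cfsg.SU 3 F q)) ∪
      (fun u => C3 F q * u * (C3 F q)⁻¹) '' (W F q : Set (Cfsg.SU 3 F q))) = ⊤ := by
  set H := Subgroup.closure ((W F q : Set (Cfsg.SU 3 F q)) ∪
      (fun u => C3 F q * u * (C3 F q)⁻¹) '' (W F q : Set (Cfsg.SU 3 F q))) with hH
  have h01 : W F q ≤ H := fun u hu => Subgroup.subset_closure (Or.inl hu)
  have h12 : (Sp ({1, 2} : Finset (Fin 3)) : Subgroup (Cfsg.SU 3 F q)) ≤ H := by
    intro g hg
    have hu : (C3 F q)⁻¹ * g * C3 F q ∈ W F q := by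
      intro o ho
      rw [act_mul, act_mul, act_C3_ev]
      apply act_injective (C3 F q)
      rw [act_act_inv, act_C3_ev]
      exact hg _ (by revert ho; revert o; decide)
    exact Subgroup.subset_closure (Or.inr ⟨_, hu, by group⟩)
  have hh : nm hF (0 : F) + nm hF (1 : F) = 1 := by simp
  set M := two hF (0 : Fin 3) 1 (by decide) 0 1 hh with hM
  have hMH : M ∈ H := h01 (two_mem hF _ hh)
  have h02 : (Sp ({0, 2} : Finset (Fin 3)) : Subgroup (Cfsg.SU 3 F q)) ≤ H := by
    intro g hg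
    have hMe : act M (ev 0) = ev 1 := by
      funext i
      fin_cases i
      · show act M (ev 0) 0 = _
        rw [hM, act_two_fst]; simp
      · show act M (ev 0) 1 = _
        rw [hM, act_two_snd]; simp
      · show act M (ev 0) 2 = _
        rw [hM, act_two_out hF _ hh _ (by decide) (by decide)]; simp
    have hu : M⁻¹ * g * M ∈ Sp ({1, 2} : Finset (Fin 3)) := by
      intro o ho
      obtain rfl : o = 0 := by revert ho; revert o; decide
      rw [act_mul, act_mul, hMe, hg 1 (by decide), ← hMe, act_inv_act]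
    have := mul_mem (mul_mem hMH (h12 hu)) (inv_mem hMH)
    simpa [mul_assoc] using this
  have hG : Gen H univ := by
    refine ⟨fun P _ hP => ?_, fun hq => absurd hq h2⟩
    have hPc : P = ({0, 1} : Finset (Fin 3)) ∨ P = {1, 2} ∨ P = {0, 2} := by
      revert hP; revert P; decide
    rcases hPc with rfl | rfl | rfl
    · exact h01
    · exact h12
    · exact h02
  exact eq_top_iff.2 fun g _ => Sp_le hF hG fun o ho => absurd (mem_univ o) ho

end CfsgLib.SUnPres
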