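import Cfsg.Agent.Lib.Classical.Herm.SU2

/-!
Norms and traces in the field of `q ^ 2` elements.
-/

set_option autoImplicit false

namespace CfsgLib.SUnPres

open CfsgLib.Classical.Herm

variable {F : Type*} [Field F] [Fintype F] {q : ℕ} (hF : Fintype.card F = q ^ 2)

/-- The norm to the fixed field. -/
def nm (x : F) : F := x * qPow hF x

theorem nm_mul (x y : F) : nm hF (x * y) = nm hF x * nm hF y := by
  simp only [nm, map_mul]; ring

@[simp] theorem nm_zero : nm hF (0 : F) = 0 := by simp [nm]

@[simp] theorem nm_one : nm hF (1 : F) = 1 := by simp [nm]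

theorem nm_inv (x : F) : nm hF x⁻¹ = (nm hF x)⁻¹ := by
  simp only [nm, map_inv₀, mul_inv]

theorem nm_div (x y : F) : nm hF (x / y) = nm hF x / nm hF y := by
  simp only [div_eq_mul_inv, nm_mul, nm_inv]

theorem nm_neg (x : F) : nm hF (-x) = nm hF x := by simp only [nm, map_neg]; ring

theorem nm_fixed (x : F) : qPow hF (nm hF x) = nm hF x := by
  simp only [nm, map_mul, qPow_qPow]; ring

theorem nm_conj (x : F) : nm hF (qPow hF x) = nm hF x := by
  simp only [nm, qPow_qPow]; ring

theorem nm_eq_zero {x : F} : nm hF x = 0 ↔ x = 0 := by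
  simp only [nm, mul_eq_zero, map_eq_zero, or_self]

theorem nm_ne_zero {x : F} (hx : x ≠ 0) : nm hF x ≠ 0 := fun h => hx ((nm_eq_zero hF).1 h)

theorem exists_nm_eq (c : F) (hc : qPow hF c = c) : ∃ x, nm hF x = c := by
  obtain ⟨x, hx⟩ := exists_norm_eq hF c hc
  exact ⟨x, by simpa [nm, mul_comm] using hx⟩

theorem exists_trace_one : ∃ t : F, t + qPow hF t = 1 := by
  by_cases h2 : (2 : F) = 0
  · obtain ⟨a, ha⟩ := exists_qPow_ne hF
    have hs : a + qPow hF a ≠ 0 := by
      intro h
      apply ha
      linear_combination h - a * h2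
    refine ⟨a / (a + qPow hF a), ?_⟩
    rw [map_div₀, map_add, qPow_qPow, add_comm (qPow hF a) a, ← add_div, div_self hs]
  · refine ⟨1 / 2, ?_⟩
    rw [map_div₀, map_one, map_ofNat]
    field_simp
    ring

/-- A fixed nonzero element avoiding a small finite set. -/
theorem exists_fixed_avoid [DecidableEq F] (s : Finset F) (hs : s.card + 1 < q) :
    ∃ a : F, qPow hF a = a ∧ a ≠ 0 ∧ a ∉ s := by
  classical
  by_contra hcon
  push Not at hcon
  have hsub : ((fixedField hF : Subfield F) : Set F) ⊆ ↑(insert (0 : F) s) := by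
    intro a ha
    by_cases h0 : a = 0
    · simp [h0]
    · simpa using Or.inr (hcon a (mem_fixedField.1 ha) h0)
  have h1 := Set.ncard_le_ncard hsub (Finset.finite_toSet _)
  rw [Set.ncard_coe_finset, ← Nat.card_coe_set_eq] at h1
  have h2 := card_fixedField hF
  have h3 := Finset.card_insert_le (0 : F) s
  simp only [SetLike.coe_sort_coe] at h1
  omega

/-- The elements of norm one span the field. -/
theorem mem_closure_normOne (x : F) : x ∈ AddSubgroup.closure {z : F | nm hF z = 1} := by
  classical
  let M : Submonoid F :=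
    { carrier := {z : F | nm hF z = 1}
      one_mem' := nm_one hF
      mul_mem' := fun {a b} ha hb => by
        rw [Set.mem_setOf_eq] at ha hb ⊢
        rw [nm_mul, ha, hb, mul_one] }
  let R : Subring F := Subring.closure (M : Set F)
  suffices hR : R = ⊤ by
    have h : x ∈ R := hR ▸ Subring.mem_top x
    rw [Subring.mem_closure_iff, Submonoid.closure_eq] at h
    exact h
  haveI : Finite R := inferInstance
  let K : Subfield F :=
    { R with
      inv_mem' := fun a ha => by
        by_cases h0 : a = 0
        · rw [h0, inv_zero]; exact R.zero_mem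
        · have hfin : IsOfFinOrder a := by
            obtain ⟨n, hn, h⟩ := (isOfFinOrder_iff_pow_eq_one).1 (isOfFinOrder_of_finite (Units.mk0 a h0))
            exact isOfFinOrder_iff_pow_eq_one.2 ⟨n, hn, by simpa using congrArg Units.val h⟩
          obtain ⟨n, hn, h⟩ := isOfFinOrder_iff_pow_eq_one.1 hfin
          have : a⁻¹ = a ^ (n - 1) := by
            apply inv_eq_of_mul_eq_one_right
            rw [← pow_succ', Nat.sub_add_cancel hn, h]
          rw [this]
          exact R.pow_mem ha _ }
  have hK : q + 1 ≤ Nat.card K := by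
    rw [← card_normOne_units hF]
    refine Nat.card_le_card_of_injective
      (fun u => (⟨((u : Fˣ) : F), ?_⟩ : K)) (fun u v h => Subtype.ext (Units.ext (congrArg Subtype.val h)))
    show ((u : Fˣ) : F) ∈ R
    refine Subring.subset_closure ?_
    show nm hF ((u : Fˣ) : F) = 1
    have h1 := congrArg Units.val (MonoidHom.mem_ker.1 u.2)
    simp only [powMonoidHom_apply, Units.val_pow_eq_pow_val, Units.val_one, pow_succ'] at h1
    simpa [nm] using h1
  letI : Fintype K := Fintype.ofFinite K
  have hpow := Module.card_eq_pow_finrank (K := K) (V := F)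
  rw [hF] at hpow
  rw [Nat.card_eq_fintype_card] at hK
  have hr : Module.finrank K F = 1 := by
    rcases Nat.lt_trichotomy (Module.finrank K F) 1 with h | h | h
    · rw [Nat.lt_one_iff.1 h] at hpow
      have := two_le_of_card hF
      nlinarith
    · exact h
    · exfalso
      have h4 : (q + 1) ^ 2 ≤ q ^ 2 := by
        rw [hpow]
        exact le_trans (Nat.pow_le_pow_left hK 2) (Nat.pow_le_pow_right (by omega) h)
      nlinarith
  rw [hr, pow_one] at hpow
  refine eq_top_iff.2 fun y _ => ?_
  have hbij : Function.Bijective (fun k : K => (k : F)) :=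
    (Fintype.bijective_iff_injective_and_card _).2 ⟨Subtype.val_injective, by rw [hF, hpow]⟩
  obtain ⟨k, rfl⟩ := hbij.2 y
  exact k.2

end CfsgLib.SUnPres
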