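import Cfsg.Agent.Lib.SUnPres.SmallFourDataThree

/-!
The certificate for `SU(4,3)` holds.
-/

set_option autoImplicit false
set_option maxRecDepth 100000

namespace CfsgLib.SUnPres.SmallFour

theorem cert_three : Three.cert.check 0xfedcba9867452301 8 [[0], [2], [4]] Three.rels = true := by decide +kernel

end CfsgLib.SUnPres.SmallFour
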