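import Cfsg.Agent.Lib.SUnPres.SmallFourCore
import Cfsg.Agent.Lib.SUnPres.SmallFourDataTwo
import Cfsg.Agent.Lib.SUnPres.SmallFourDataTwoFive
import Cfsg.Agent.Lib.SUnPres.SmallFourCheckThree

/-!
Presentations of `SU(4,2)`, `SU(5,2)` and `SU(4,3)`.
-/

set_option autoImplicit false
set_option maxRecDepth 100000
set_option linter.unusedSectionVars false

namespace CfsgLib.SUnPres.SmallFour

open CfsgLib.CosetEnum Equiv
open CfsgLib.BoundedPres (PresOn Kills)
open CfsgLib.Classical.Herm
open SmallThree (Root dataTwo dataThree valid_two valid_three)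

attribute [-simp] qPow_apply

theorem cert_two : Two.cert.check 0xfedcba9876452301 6 [[0], [2]] Two.rels = true := by decide +kernel

theorem cert_twoFive : TwoFive.cert.check 0xfedcba9867452301 8 [[0], [2], [4]] TwoFive.rels = true := by
  decide +kernel

theorem ip_three : ∀ x < 16, linv 0xfedcba9876452301 x = partner 3 x := by decide +kernel

theorem ip_four : ∀ x < 16, linv 0xfedcba9867452301 x = partner 4 x := by decide +kernel

/-! ### Bounds on the orders -/

theorem lets_castSucc {G : Type*} [Group G] {k : ℕ} (f : Fin (k + 1) → G) {x : ℕ} (hx : x < 2 * k) :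
    lets (fun i => f i.castSucc) x = lets f x := by
  have h : x / 2 < k := by omega
  have h' : x / 2 < k + 1 := by omega
  simp only [lets, dif_pos h, dif_pos h']
  rfl

theorem sub_rel {G : Type} [Group G] {k : ℕ} (f : Fin (k + 1) → G) {l : List ℕ}
    (hl : ∀ x ∈ l, x < 2 * k) (h : (l.map (lets f)).prod = 1) :
    (l.map (lets fun i : Fin k => (⟨f i.castSucc, Subgroup.subset_closure ⟨i, rfl⟩⟩ :
      Subgroup.closure (Set.range fun j : Fin k => f j.castSucc)))).prod = 1 := by
  apply Subgroup.subtype_injective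
  rw [map_list_prod, List.map_map, map_one, ← h]
  congr 1
  refine List.map_congr_left fun x hx => ?_
  rw [Function.comp_apply, map_lets]
  exact lets_castSucc f (hl x hx)

theorem bound_two {G : Type} [Group G] (f : Fin 2 → G) (hgen : Subgroup.closure (Set.range f) = ⊤)
    (hrel : ∀ l ∈ SmallThree.Two.rels1, (l.map (lets f)).prod = 1) : Finite G ∧ Nat.card G ≤ 216 := by
  have h := SmallThree.Data.core valid_two (G := G) ![f 0, f 1, 1] ?_ ?_
  · exact ⟨h.1, h.2.trans (le_of_eq (by decide +kernel))⟩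
  · rw [eq_top_iff, ← hgen, Subgroup.closure_le]
    rintro _ ⟨i, rfl⟩
    fin_cases i
    · exact Subgroup.subset_closure ⟨0, rfl⟩
    · exact Subgroup.subset_closure ⟨1, rfl⟩
  · intro w hw
    obtain ⟨l, hl, rfl⟩ := List.mem_map.1 hw
    rw [SmallThree.lift_wordF]
    rcases List.mem_append.1 hl with hl | hl
    · refine (congrArg List.prod (List.map_congr_left fun x hx => ?_)).trans (hrel l hl)
      have h4 : ∀ l ∈ SmallThree.Two.rels1, ∀ x ∈ l, x < 4 := by decide +kernel
      have := h4 l hl x hx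
      interval_cases x <;> rfl
    · have hr : dataTwo.rels2 = [[4]] := rfl
      rw [hr, List.mem_singleton] at hl
      subst hl
      simp [SmallThree.letters]

theorem bound_three {G : Type} [Group G] (f : Fin 3 → G) (hgen : Subgroup.closure (Set.range f) = ⊤)
    (hrel : ∀ l ∈ SmallThree.Three.rels1 ++ SmallThree.Three.rels2, (l.map (lets f)).prod = 1) :
    Finite G ∧ Nat.card G ≤ 6048 := by
  have h := SmallThree.Data.core valid_three (G := G) f hgen ?_
  · exact ⟨h.1, h.2.trans (le_of_eq (by decide +kernel))⟩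
  · intro w hw
    obtain ⟨l, hl, rfl⟩ := List.mem_map.1 hw
    rw [SmallThree.lift_wordF]
    refine (congrArg List.prod (List.map_congr_left fun x hx => ?_)).trans (hrel l hl)
    have h6 : ∀ l ∈ SmallThree.Three.rels1 ++ SmallThree.Three.rels2, ∀ x ∈ l, x < 6 := by decide +kernel
    have := h6 l hl x hx
    interval_cases x <;> rfl

theorem bound_fourTwo {G : Type} [Group G] (f : Fin 3 → G) (hgen : Subgroup.closure (Set.range f) = ⊤)
    (hrel : ∀ l ∈ Two.rels, (l.map (lets f)).prod = 1) : Finite G ∧ Nat.card G ≤ 25920 := by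
  have h := step (k := 2) (c := 216) (by norm_num) f hgen Two.cert Two.rels [[0], [2]] cert_two ip_three hrel
    (by decide +kernel) (fun l hl => ?_) (bound_two _ (closure_subtype _) fun l hl => ?_)
  · exact ⟨h.1, h.2.trans (le_of_eq (by decide +kernel))⟩
  · simp only [List.mem_cons, List.not_mem_nil, or_false] at hl
    rcases hl with rfl | rfl
    exacts [⟨0, rfl⟩, ⟨1, rfl⟩]
  · exact sub_rel f
      (fun x hx => (show ∀ l ∈ SmallThree.Two.rels1, ∀ x ∈ l, x < 2 * 2 by decide +kernel) l hl x hx)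
      (hrel l ((show ∀ l ∈ SmallThree.Two.rels1, l ∈ Two.rels by decide +kernel) l hl))

theorem bound_fiveTwo {G : Type} [Group G] (f : Fin 4 → G) (hgen : Subgroup.closure (Set.range f) = ⊤)
    (hrel : ∀ l ∈ TwoFive.rels, (l.map (lets f)).prod = 1) : Finite G ∧ Nat.card G ≤ 13685760 := by
  have h := step (k := 3) (c := 25920) (by norm_num) f hgen TwoFive.cert TwoFive.rels [[0], [2], [4]]
    cert_twoFive ip_four hrel (by decide +kernel) (fun l hl => ?_)
    (bound_fourTwo _ (closure_subtype _) fun l hl => ?_)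
  · exact ⟨h.1, h.2.trans (le_of_eq (by decide +kernel))⟩
  · simp only [List.mem_cons, List.not_mem_nil, or_false] at hl
    rcases hl with rfl | rfl | rfl
    exacts [⟨0, rfl⟩, ⟨1, rfl⟩, ⟨2, rfl⟩]
  · exact sub_rel f (fun x hx => (show ∀ l ∈ Two.rels, ∀ x ∈ l, x < 2 * 3 by decide +kernel) l hl x hx)
      (hrel l ((show ∀ l ∈ Two.rels, l ∈ TwoFive.rels by decide +kernel) l hl))

theorem bound_fourThree {G : Type} [Group G] (f : Fin 4 → G) (hgen : Subgroup.closure (Set.range f) = ⊤)
    (hrel : ∀ l ∈ Three.rels, (l.map (lets f)).prod = 1) : Finite G ∧ Nat.card G ≤ 13063680 := by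
  have h := step (k := 3) (c := 6048) (by norm_num) f hgen Three.cert Three.rels [[0], [2], [4]]
    cert_three ip_four hrel (by decide +kernel) (fun l hl => ?_)
    (bound_three _ (closure_subtype _) fun l hl => ?_)
  · exact ⟨h.1, h.2.trans (le_of_eq (by decide +kernel))⟩
  · simp only [List.mem_cons, List.not_mem_nil, or_false] at hl
    rcases hl with rfl | rfl | rfl
    exacts [⟨0, rfl⟩, ⟨1, rfl⟩, ⟨2, rfl⟩]
  · exact sub_rel f
      (fun x hx => (show ∀ l ∈ SmallThree.Three.rels1 ++ SmallThree.Three.rels2, ∀ x ∈ l, x < 2 * 3 by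
        decide +kernel) l hl x hx)
      (hrel l ((show ∀ l ∈ SmallThree.Three.rels1 ++ SmallThree.Three.rels2, l ∈ Three.rels by
        decide +kernel) l hl))

/-! ### The alternating groups on four and five points -/

theorem h45 : 4 ≤ 5 := by norm_num

/-- The extra double transposition. -/
def dblFive : alternatingGroup (Fin 5) := dbl 0 1 3 4 (by decide) (by decide)

/-- Words for all even permutations of four points. -/
def words4 : List (List (Fin 2)) :=
  [[], [0], [1], [0, 0], [0, 1], [1, 0], [0, 0, 1], [0, 1, 0], [1, 0, 0], [1, 0, 1], [0, 0, 1, 0], [0, 1, 0, 0]]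

/-- Words for all even permutations of five points. -/
def words5 : List (List (Fin 3)) :=
  [[], [0], [1], [2], [0, 0], [0, 1], [0, 2], [1, 0], [1, 2], [2, 0], [2, 1], [0, 0, 1], [0, 1, 0], [0, 1, 2], [0, 2, 1], [1, 0, 0], [1, 0, 1], [1, 0, 2], [1, 2, 0], [1, 2, 1], [2, 0, 1], [2, 1, 0], [0, 0, 1, 0], [0, 0, 1, 2], [0, 1, 0, 0], [0, 1, 0, 2], [0, 1, 2, 0], [0, 1, 2, 1], [0, 2, 1, 0], [1, 0, 1, 2], [1, 0, 2, 1], [1, 2, 0, 1], [1, 2, 1, 0], [2, 0, 1, 0], [2, 0, 1, 2], [2, 1, 0, 0], [2, 1, 0, 1], [2, 1, 0, 2], [0, 0, 1, 0, 2], [0, 1, 0, 2, 1], [0, 1, 2, 0, 1], [0, 1, 2, 1, 0], [0, 2, 1, 0, 1], [0, 2, 1, 0, 2], [1, 0, 1, 2, 1], [1, 0, 2, 1, 0], [1, 2, 0, 1, 0], [1, 2, 1, 0, 1], [2, 0, 1, 0, 2], [2, 0, 1, 2, 0], [0, 0, 1, 0, 2, 1], [0, 1, 0, 2, 1, 0], [0, 1, 2, 0, 1, 0], [0, 1, 2, 1, 0, 1], [1, 0, 1, 2, 1, 0], [1, 0, 2, 1, 0, 1], [1, 0, 2, 1, 0, 2], [2, 0, 1, 2, 0, 1], [0, 0, 1, 0, 2, 1, 0], [0, 1, 0, 2, 1, 0, 1]]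

theorem alt4_words : ∀ π : Perm (Fin 4), Perm.sign π = 1 →
    π ∈ words4.map fun w => (w.map ![(cN (le_refl 4) : Perm (Fin 4)), eN (le_refl 4)]).prod := by
  decide +kernel

theorem alt5_words : ∀ π : Perm (Fin 5), Perm.sign π = 1 →
    π ∈ words5.map fun w => (w.map ![(cN h45 : Perm (Fin 5)), eN h45, dblFive]).prod := by
  decide +kernel

variable {F : Type*} [Field F] [Fintype F]

theorem perm_mem {m r : ℕ} {q : ℕ} (H : Subgroup (Cfsg.SU m F q)) (g : Fin r → alternatingGroup (Fin m))
    (ws : List (List (Fin r)))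
    (hw : ∀ π : Perm (Fin m), Perm.sign π = 1 → π ∈ ws.map fun w => (w.map fun i => (g i : Perm (Fin m))).prod)
    (hg : ∀ i, permSU (g i) ∈ H) (π : alternatingGroup (Fin m)) : permSU π ∈ H := by
  obtain ⟨w, -, hw⟩ := List.mem_map.1 (hw π (Perm.mem_alternatingGroup.1 π.2))
  have : π = (w.map g).prod := Subtype.ext (by
    rw [← hw, ← Subgroup.coe_subtype, map_list_prod, List.map_map]
    rfl)
  rw [this, map_list_prod, List.map_map]
  exact list_prod_mem fun x hx => by
    obtain ⟨i, -, rfl⟩ := List.mem_map.1 hx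
    exact hg i

theorem card_fourTwo (hF : Fintype.card F = 2 ^ 2) : 25920 ≤ Nat.card (Cfsg.SU 4 F 2) := by
  have h := card_unit_eq_mul_su hF (show 1 ≤ 4 by norm_num)
  rw [card_unit hF 4] at h
  norm_num [Finset.prod_range_succ, show ¬ Even 1 by decide, show Even 2 by decide, show ¬ Even 3 by decide,
    show Even 4 by decide] at h
  omega

theorem card_fiveTwo (hF : Fintype.card F = 2 ^ 2) : 13685760 ≤ Nat.card (Cfsg.SU 5 F 2) := by
  have h := card_unit_eq_mul_su hF (show 1 ≤ 5 by norm_num)
  rw [card_unit hF 5] at h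
  norm_num [Finset.prod_range_succ, show ¬ Even 1 by decide, show Even 2 by decide, show ¬ Even 3 by decide,
    show Even 4 by decide, show ¬ Even 5 by decide] at h
  omega

theorem card_fourThree (hF : Fintype.card F = 3 ^ 2) : 13063680 ≤ Nat.card (Cfsg.SU 4 F 3) := by
  have h := card_unit_eq_mul_su hF (show 1 ≤ 4 by norm_num)
  rw [card_unit hF 4] at h
  norm_num [Finset.prod_range_succ, show ¬ Even 1 by decide, show Even 2 by decide, show ¬ Even 3 by decide,
    show Even 4 by decide] at h
  omega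

theorem span_two (R : Root dataTwo.P F) (hF : Fintype.card F = 2 ^ 2) :
    SmallThree.Data.span (D := dataTwo) R hF valid_two = ⊤ := by
  haveI : Finite (Cfsg.SU 3 F 2) := Finite.of_injective _ SmallThree.matOf_injective
  refine Subgroup.eq_top_of_le_card _ (le_trans ?_ (SmallThree.Data.card_le_card_span R hF valid_two))
  have h := SmallThree.card_su hF
  norm_num at h
  show Nat.card (Cfsg.SU 3 F 2) ≤ 27 * SmallThree.Two.stab.length
  rw [show SmallThree.Two.stab.length = 8 by decide +kernel]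
  omega

theorem span_three (R : Root dataThree.P F) (hF : Fintype.card F = 3 ^ 2) :
    SmallThree.Data.span (D := dataThree) R hF valid_three = ⊤ := by
  haveI : Finite (Cfsg.SU 3 F 3) := Finite.of_injective _ SmallThree.matOf_injective
  refine Subgroup.eq_top_of_le_card _ (le_trans ?_ (SmallThree.Data.card_le_card_span R hF valid_three))
  have h := SmallThree.card_su hF
  norm_num at h
  show Nat.card (Cfsg.SU 3 F 3) ≤ 224 * SmallThree.Three.stab.length
  rw [show SmallThree.Three.stab.length = 27 by decide +kernel]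
  omega

theorem mat_blk_inv {P : SmallThree.Par} (R : Root P F) {q m : ℕ} (hm : 4 ≤ m) (a : Cfsg.SU 3 F q) {X : List ℕ}
    (h : SmallThree.matOf a⁻¹ = R.evM X) : mat (blk hm a)⁻¹ = evN R (blkN m X) := by
  rw [← map_inv]
  exact mat_blk R hm h

theorem mat_perm_inv {P : SmallThree.Par} (R : Root P F) {q m : ℕ} (π : alternatingGroup (Fin m)) (h : π⁻¹ = π) :
    mat (permSU π : Cfsg.SU m F q)⁻¹ = evN R (permN m (π : Perm (Fin m))) := by
  rw [← map_inv, h]
  exact mat_permSU R π

/-- The coded generators of `SU(4, 2)`. -/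
def gensFourTwo : List (List ℕ) :=
  [blkN 4 (dataTwo.gen 0), blkN 4 (dataTwo.gen 1), blkN 4 (dataTwo.gen 2), blkN 4 (dataTwo.gen 3),
    permN 4 (eN (le_refl 4) : Perm (Fin 4)), permN 4 (eN (le_refl 4) : Perm (Fin 4))]

/-- The coded generators of `SU(5, 2)`. -/
def gensFiveTwo : List (List ℕ) :=
  [blkN 5 (dataTwo.gen 0), blkN 5 (dataTwo.gen 1), blkN 5 (dataTwo.gen 2), blkN 5 (dataTwo.gen 3),
    permN 5 (eN h45 : Perm (Fin 5)), permN 5 (eN h45 : Perm (Fin 5)),
    permN 5 (dblFive : Perm (Fin 5)), permN 5 (dblFive : Perm (Fin 5))]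

/-- The coded generators of `SU(4, 3)`. -/
def gensFourThree : List (List ℕ) :=
  [blkN 4 (dataThree.gen 0), blkN 4 (dataThree.gen 1), blkN 4 (dataThree.gen 2), blkN 4 (dataThree.gen 3),
    blkN 4 (dataThree.gen 4), blkN 4 (dataThree.gen 5),
    permN 4 (eN (le_refl 4) : Perm (Fin 4)), permN 4 (eN (le_refl 4) : Perm (Fin 4))]

theorem rels_fourTwo : relsOK dataTwo.P 4 3 gensFourTwo Two.rels = true := by decide +kernel

theorem rels_fiveTwo : relsOK dataTwo.P 5 4 gensFiveTwo TwoFive.rels = true := by decide +kernel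

theorem rels_fourThree : relsOK dataThree.P 4 4 gensFourThree Three.rels = true := by decide +kernel

theorem blk_mem_two {m : ℕ} (R : Root dataTwo.P F) (hF : Fintype.card F = 2 ^ 2) (hm : 4 ≤ m)
    (H : Subgroup (Cfsg.SU m F 2)) (h0 : blk hm (SmallThree.Data.v R hF valid_two 0) ∈ H)
    (h1 : blk hm (SmallThree.Data.v R hF valid_two 1) ∈ H) (a : Cfsg.SU 3 F 2) : blk hm a ∈ H := by
  have e2 : SmallThree.Data.v R hF valid_two 2 = 1 := SmallThree.matOf_injective (R.evM_one.trans rfl)
  have ha : a ∈ SmallThree.Data.span (D := dataTwo) R hF valid_two := by rw [span_two]; trivial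
  refine (Subgroup.closure_le (H.comap (blk hm))).2 ?_ ha
  rintro _ ⟨i, rfl⟩
  fin_cases i
  · exact h0
  · exact h1
  · show blk hm (SmallThree.Data.v R hF valid_two 2) ∈ H
    rw [e2, map_one]
    exact one_mem H

/-- `SU(4, 2)` on three generators. -/
theorem presOn_fourTwo (hF : Fintype.card F = 2 ^ 2) : PresOn (Fin 3) (Cfsg.SU 4 F 2) 8 := by
  obtain ⟨R⟩ := SmallThree.exists_root_two hF
  let w := SmallThree.Data.v R hF valid_two
  let v : Fin 3 → Cfsg.SU 4 F 2 := ![blk (le_refl 4) (w 0), blk (le_refl 4) (w 1), permSU (eN (le_refl 4))]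
  have hm := SmallThree.Data.matOf_letters R hF valid_two
  refine (presOn_of_card R v gensFourTwo Two.rels ?_ rels_fourTwo ?_ (card_fourTwo hF)
    fun G _ f hf hk => bound_fourTwo f hf hk).mono (by decide +kernel)
  · intro x hx
    interval_cases x
    · exact mat_blk R _ (hm 0 (by norm_num))
    · exact mat_blk_inv R _ _ (hm 1 (by norm_num))
    · exact mat_blk R _ (hm 2 (by norm_num))
    · exact mat_blk_inv R _ _ (hm 3 (by norm_num))
    · exact mat_permSU R _
    · exact mat_perm_inv R _ (by decide)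
  · have hi : ∀ i, v i ∈ Subgroup.closure (Set.range v) := fun i => Subgroup.subset_closure ⟨i, rfl⟩
    have hb := blk_mem_two R hF (le_refl 4) _ (hi 0) (hi 1)
    refine gen_top hF (le_refl 4) _ hb (perm_mem _ ![cN (le_refl 4), eN (le_refl 4)] words4 ?_ ?_)
    · intro π hπ
      rw [show (fun i => ((![cN (le_refl 4), eN (le_refl 4)] i : alternatingGroup (Fin 4)) : Perm (Fin 4))) =
        ![(cN (le_refl 4) : Perm (Fin 4)), eN (le_refl 4)] from funext fun i => by fin_cases i <;> rfl]
      exact alt4_words π hπ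
    · intro i
      fin_cases i
      · show permSU (cN (le_refl 4)) ∈ _; rw [permSU_cN]; exact hb _
      · exact hi 2

/-- `SU(5, 2)` on four generators. -/
theorem presOn_fiveTwo (hF : Fintype.card F = 2 ^ 2) : PresOn (Fin 4) (Cfsg.SU 5 F 2) 12 := by
  obtain ⟨R⟩ := SmallThree.exists_root_two hF
  let w := SmallThree.Data.v R hF valid_two
  let v : Fin 4 → Cfsg.SU 5 F 2 := ![blk h45 (w 0), blk h45 (w 1), permSU (eN h45), permSU dblFive]
  have hm := SmallThree.Data.matOf_letters R hF valid_two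
  refine (presOn_of_card R v gensFiveTwo TwoFive.rels ?_ rels_fiveTwo ?_ (card_fiveTwo hF)
    fun G _ f hf hk => bound_fiveTwo f hf hk).mono (by decide +kernel)
  · intro x hx
    interval_cases x
    · exact mat_blk R _ (hm 0 (by norm_num))
    · exact mat_blk_inv R _ _ (hm 1 (by norm_num))
    · exact mat_blk R _ (hm 2 (by norm_num))
    · exact mat_blk_inv R _ _ (hm 3 (by norm_num))
    · exact mat_permSU R _
    · exact mat_perm_inv R _ (by decide)
    · exact mat_permSU R _
    · exact mat_perm_inv R _ (by decide)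
  · have hi : ∀ i, v i ∈ Subgroup.closure (Set.range v) := fun i => Subgroup.subset_closure ⟨i, rfl⟩
    have hb := blk_mem_two R hF h45 _ (hi 0) (hi 1)
    refine gen_top hF h45 _ hb (perm_mem _ ![cN h45, eN h45, dblFive] words5 ?_ ?_)
    · intro π hπ
      rw [show (fun i => ((![cN h45, eN h45, dblFive] i : alternatingGroup (Fin 5)) : Perm (Fin 5))) =
        ![(cN h45 : Perm (Fin 5)), eN h45, dblFive] from funext fun i => by fin_cases i <;> rfl]
      exact alt5_words π hπ
    · intro i
      fin_cases i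
      · show permSU (cN h45) ∈ _; rw [permSU_cN]; exact hb _
      · exact hi 2
      · exact hi 3

/-- `SU(4, 3)` on four generators. -/
theorem presOn_fourThree (hF : Fintype.card F = 3 ^ 2) : PresOn (Fin 4) (Cfsg.SU 4 F 3) 13 := by
  obtain ⟨R⟩ := SmallThree.exists_root_three hF
  let w := SmallThree.Data.v R hF valid_three
  let v : Fin 4 → Cfsg.SU 4 F 3 :=
    ![blk (le_refl 4) (w 0), blk (le_refl 4) (w 1), blk (le_refl 4) (w 2), permSU (eN (le_refl 4))]
  have hm := SmallThree.Data.matOf_letters R hF valid_three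
  refine (presOn_of_card R v gensFourThree Three.rels ?_ rels_fourThree ?_ (card_fourThree hF)
    fun G _ f hf hk => bound_fourThree f hf hk).mono (by decide +kernel)
  · intro x hx
    interval_cases x
    · exact mat_blk R _ (hm 0 (by norm_num))
    · exact mat_blk_inv R _ _ (hm 1 (by norm_num))
    · exact mat_blk R _ (hm 2 (by norm_num))
    · exact mat_blk_inv R _ _ (hm 3 (by norm_num))
    · exact mat_blk R _ (hm 4 (by norm_num))
    · exact mat_blk_inv R _ _ (hm 5 (by norm_num))
    · exact mat_permSU R _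
    · exact mat_perm_inv R _ (by decide)
  · have hi : ∀ i, v i ∈ Subgroup.closure (Set.range v) := fun i => Subgroup.subset_closure ⟨i, rfl⟩
    have hb : ∀ a, blk (le_refl 4) a ∈ Subgroup.closure (Set.range v) := by
      intro a
      have ha : a ∈ SmallThree.Data.span (D := dataThree) R hF valid_three := by rw [span_three]; trivial
      refine (Subgroup.closure_le ((Subgroup.closure (Set.range v)).comap (blk (le_refl 4)))).2 ?_ ha
      rintro _ ⟨i, rfl⟩
      fin_cases i
      · exact hi 0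
      · exact hi 1
      · exact hi 2
    refine gen_top hF (le_refl 4) _ hb (perm_mem _ ![cN (le_refl 4), eN (le_refl 4)] words4 ?_ ?_)
    · intro π hπ
      rw [show (fun i => ((![cN (le_refl 4), eN (le_refl 4)] i : alternatingGroup (Fin 4)) : Perm (Fin 4))) =
        ![(cN (le_refl 4) : Perm (Fin 4)), eN (le_refl 4)] from funext fun i => by fin_cases i <;> rfl]
      exact alt4_words π hπ
    · intro i
      fin_cases i
      · show permSU (cN (le_refl 4)) ∈ _; rw [permSU_cN]; exact hb _
      · exact hi 3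

end CfsgLib.SUnPres.SmallFour
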