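import Cfsg.Agent.Lib.SUnPres.BaseTwo
import Cfsg.Agent.Lib.SUnPres.SmallFour

/-!
Bounded presentations of all special and projective special unitary groups.
-/

set_option autoImplicit false

namespace CfsgLib.SUnPres

open CfsgLib.BoundedPres (PresOn Pres)

variable {F : Type*} [Field F] [Fintype F] {q n : ℕ}

theorem alt_two_gens_pres (hn : 5 ≤ n) :
    PresOn (Fin 2) (alternatingGroup (Fin n)) (if n = 5 then 3 else 7) := by
  by_cases h5 : n = 5
  · subst h5
    exact presOn_alt_five.mono (by simp)
  · rw [if_neg h5]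
    exact (CfsgLib.SymPres.alt_presentations (by omega)).2

/-- Six generators. -/
theorem presOn_six (hF : Fintype.card F = q ^ 2) (hn : 4 ≤ n) :
    PresOn (Fin 6) (Cfsg.SU n F q) (if n ≤ 5 then 35 else 39) := by
  have p2 : ∀ {T : Type _} [Group T] {r : ℕ}, PresOn (Fin 4) T r → PresOn (Fin 6) T (r + 2) := fun h => by
    simpa using (h.pad (Fin 2)).reindex finSumFinEquiv
  have p3 : ∀ {T : Type _} [Group T] {r : ℕ}, PresOn (Fin 3) T r → PresOn (Fin 6) T (r + 3) := fun h => by
    simpa using (h.pad (Fin 3)).reindex finSumFinEquiv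
  by_cases h2 : q = 2
  · subst h2
    by_cases h4 : n = 4
    · subst h4
      exact (p3 (SmallFour.presOn_fourTwo hF)).mono (by norm_num)
    by_cases h5 : n = 5
    · subst h5
      exact (p2 (SmallFour.presOn_fiveTwo hF)).mono (by norm_num)
    refine ((presOn_two hF rfl (show 6 ≤ n by omega) (SmallFour.presOn_fiveTwo hF)
      (alt_two_gens_pres (by omega))).reindex finSumFinEquiv).mono ?_
    rw [if_neg h5, if_neg (show ¬ n ≤ 5 by omega)]
    norm_num
  by_cases h3 : q = 3
  · subst h3
    by_cases h4 : n = 4
    · subst h4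
      exact (p2 (SmallFour.presOn_fourThree hF)).mono (by norm_num)
    refine ((presOn_three hF hn h2 (SmallFour.presOn_fourThree hF)
      (alt_two_gens_pres (show 5 ≤ n by omega))).reindex finSumFinEquiv).mono ?_
    split_ifs <;> omega
  refine (presOn_large hF hn h2 h3).mono ?_
  split_ifs <;> omega

/-- The projective group: one more relation. -/
theorem presOn_psu_six (hF : Fintype.card F = q ^ 2) (hn : 4 ≤ n) :
    PresOn (Fin 6) (Cfsg.PSU n F q) ((if n ≤ 5 then 35 else 39) + 1) := by
  obtain ⟨z, hz⟩ := center_normalClosure (n := n) hF (by omega)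
  exact (presOn_six hF hn).quotient _ z hz

/-- Every group in question has a presentation with at most 78 relations. -/
theorem pres_psu (hF : Fintype.card F = q ^ 2) (hn : 3 ≤ n) (h32 : ¬ (n = 3 ∧ q = 2)) :
    Pres (Cfsg.PSU n F q) 78 := by
  by_cases h3 : n = 3
  · subst h3
    have h2 : q ≠ 2 := fun h => h32 ⟨rfl, h⟩
    obtain ⟨z, hz⟩ := center_normalClosure (n := 3) hF le_rfl
    by_cases hq : q = 3
    · subst hq
      exact (((SmallThree.presOn_three hF).quotient _ z hz).mono (by norm_num)).pres
    · exact (((presOn_three_gens hF h2 hq).quotient _ z hz).mono (by norm_num)).pres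
  · exact ((presOn_psu_six hF (show 4 ≤ n by omega)).mono (by split_ifs <;> omega)).pres

end CfsgLib.SUnPres
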