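import Cfsg.Agent.Lib.SUnPres.Move

/-!
Frames: groups over the special unitary group with injective pieces on proper sets of coordinates,
and the points over vectors with a zero entry.
-/

set_option autoImplicit false
set_option linter.unusedSectionVars false

namespace CfsgLib.SUnPres

open CfsgLib.Classical.Herm
open Finset Equiv

theorem exists_even_map {n : ℕ} (τ : Perm (Fin n)) {a b : Fin n} (hab : a ≠ b) :
    ∃ π : alternatingGroup (Fin n), ∀ i, i ≠ a → i ≠ b → (π : Perm (Fin n)) i = τ i := by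
  by_cases h : Perm.sign τ = 1
  · exact ⟨⟨τ, Perm.mem_alternatingGroup.2 h⟩, fun i _ _ => rfl⟩
  · refine ⟨⟨τ * swap a b, Perm.mem_alternatingGroup.2 ?_⟩, fun i ha hb => ?_⟩
    · rw [map_mul, Perm.sign_swap hab]
      rcases Int.units_eq_one_or (Perm.sign τ) with e | e
      · exact absurd e h
      · rw [e]; simp
    · simp [Equiv.swap_apply_of_ne_of_ne ha hb]

theorem exists_third {n : ℕ} (hn : 4 ≤ n) (s : Finset (Fin n)) (hs : s.card < n) : ∃ o, o ∉ s := by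
  by_contra h
  push Not at h
  rw [Finset.eq_univ_iff_forall.2 h, Finset.card_univ, Fintype.card_fin] at hs
  omega

theorem ne_univ_of_card {n : ℕ} {s : Finset (Fin n)} (hs : s.card < n) : s ≠ univ := by
  rintro rfl
  simp at hs

/-- The base coordinate. -/
def k0 {n : ℕ} (hn : 4 ≤ n) : Fin n := ⟨0, Nat.lt_of_lt_of_le (Nat.succ_pos 3) hn⟩

theorem exists_pi {n : ℕ} (hn : 4 ≤ n) (k : Fin n) : ∃ π : alternatingGroup (Fin n), (π : Perm (Fin n)) (k0 hn) = k := by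
  obtain ⟨a, ha⟩ := exists_third hn {k0 hn} (by simp; omega)
  obtain ⟨b, hb⟩ := exists_third hn {k0 hn, a} (lt_of_le_of_lt Finset.card_le_two (by omega))
  simp only [Finset.mem_singleton] at ha
  simp only [Finset.mem_insert, Finset.mem_singleton, not_or] at hb
  obtain ⟨π, hπ⟩ := exists_even_map (swap (k0 hn) k) (a := a) (b := b) (fun e => hb.2 e.symm)
  exact ⟨π, by rw [hπ _ (fun e => ha e.symm) (fun e => hb.1 e.symm), swap_apply_left]⟩

/-- A group over `SU_n` with pieces indexed by sets of coordinates. -/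
structure Frame (G : Type*) [Group G] (F : Type*) [Field F] [Fintype F] (q n : ℕ) where
  φ : G →* Cfsg.SU n F q
  L : Finset (Fin n) → Subgroup G
  R : alternatingGroup (Fin n) →* G
  mono : ∀ {S T : Finset (Fin n)}, S ⊆ T → L S ≤ L T
  conj : ∀ (π : alternatingGroup (Fin n)) {S : Finset (Fin n)} {x : G}, x ∈ L S →
    R π * x * (R π)⁻¹ ∈ L (S.map (π : Perm (Fin n)).toEmbedding)
  hR : ∀ π, φ (R π) = permSU π
  Rmem : ∀ (π : alternatingGroup (Fin n)) (S : Finset (Fin n)), 3 ≤ S.card →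
    (∀ o ∉ S, (π : Perm (Fin n)) o = o) → R π ∈ L S
  supp : ∀ {S : Finset (Fin n)} {x : G}, x ∈ L S → φ x ∈ Sp S
  lift : ∀ (S : Finset (Fin n)), 2 ≤ S.card → S ≠ univ → ∀ g ∈ Sp S, ∃ x ∈ L S, φ x = g
  inj : ∀ {S : Finset (Fin n)}, S ≠ univ → ∀ {x : G}, x ∈ L S → φ x = 1 → x = 1
  comm : ∀ {S T : Finset (Fin n)}, Disjoint S T → 2 ≤ S.card → 2 ≤ T.card →
    ∀ {x y : G}, x ∈ L S → y ∈ L T → Commute x y
  gen : ⊤ ≤ Subgroup.closure
    {x : G | ∃ S : Finset (Fin n), (S.card = 2 ∨ (S.card = 3 ∧ q = 2)) ∧ x ∈ L S}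

namespace Frame

variable {G : Type*} [Group G] {F : Type*} [Field F] [Fintype F] {q n : ℕ} (Φ : Frame G F q n)
  (hF : Fintype.card F = q ^ 2) (hn : 4 ≤ n)

/-- The action through the map. -/
def A (x : G) (v : Fin n → F) : Fin n → F := act (Φ.φ x) v

theorem A_mul (x y : G) (v : Fin n → F) : Φ.A (x * y) v = Φ.A x (Φ.A y v) := by
  simp [A, act_mul]

theorem A_one (v : Fin n → F) : Φ.A 1 v = v := by simp [A]

theorem A_inv_A (x : G) (v : Fin n → F) : Φ.A x⁻¹ (Φ.A x v) = v := by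
  rw [← A_mul, inv_mul_cancel, A_one]

theorem A_A_inv (x : G) (v : Fin n → F) : Φ.A x (Φ.A x⁻¹ v) = v := by
  rw [← A_mul, mul_inv_cancel, A_one]

theorem A_apply_notMem (hF : Fintype.card F = q ^ 2) {S : Finset (Fin n)} {x : G} (hx : x ∈ Φ.L S)
    (v : Fin n → F) {o : Fin n} (ho : o ∉ S) : Φ.A x v o = v o :=
  act_apply_of_notMem hF (Φ.supp hx) v ho

theorem A_eq_self {S : Finset (Fin n)} {x : G} (hx : x ∈ Φ.L S) (v : Fin n → F)
    (hv : ∀ i ∈ S, v i = 0) : Φ.A x v = v := act_eq_self (Φ.supp hx) v hv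

theorem A_R_ev (π : alternatingGroup (Fin n)) (k : Fin n) :
    Φ.A (Φ.R π) (ev k) = ev ((π : Perm (Fin n)) k) := by
  rw [A, Φ.hR, act_permSU_ev]

theorem eq_of_image {S : Finset (Fin n)} (hS : S ≠ univ) {x y : G} (hx : x ∈ Φ.L S) (hy : y ∈ Φ.L S)
    (h : Φ.φ x = Φ.φ y) : x = y := by
  have : y⁻¹ * x = 1 := Φ.inj hS (mul_mem (inv_mem hy) hx) (by rw [map_mul, map_inv, h, inv_mul_cancel])
  exact (inv_mul_eq_one.1 this).symm

include hF in
theorem mem_of_image {S T : Finset (Fin n)} (hT : T ≠ univ) (hST : S ⊆ T) {x : G} (hx : x ∈ Φ.L T)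
    (h : Φ.φ x ∈ Sp S) : x ∈ Φ.L S := by
  by_cases hS : 2 ≤ S.card
  · obtain ⟨y, hy, hyx⟩ := Φ.lift S hS (fun e => hT (Finset.univ_subset_iff.1 (e ▸ hST))) _ h
    rwa [Φ.eq_of_image hT hx (Φ.mono hST hy) hyx.symm]
  · rw [Φ.inj hT hx (Sp_eq_one hF (by omega) h)]
    exact one_mem _

/-- The stabiliser of the base point. -/
abbrev Hs : Subgroup G := Φ.L (univ.erase (k0 hn))

/-- The point over a coordinate vector. -/
noncomputable def pt (k : Fin n) : G ⧸ Φ.Hs hn :=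
  Φ.R (exists_pi hn k).choose • (QuotientGroup.mk 1 : G ⧸ Φ.Hs hn)

theorem R_smul_base (π : alternatingGroup (Fin n)) :
    Φ.R π • (QuotientGroup.mk 1 : G ⧸ Φ.Hs hn) = Φ.pt hn ((π : Perm (Fin n)) (k0 hn)) := by
  set π' := (exists_pi hn ((π : Perm (Fin n)) (k0 hn))).choose with hπ'
  have h' := (exists_pi hn ((π : Perm (Fin n)) (k0 hn))).choose_spec
  rw [← hπ'] at h'
  show _ = Φ.R π' • _
  rw [MulAction.Quotient.smul_mk, MulAction.Quotient.smul_mk, smul_eq_mul, smul_eq_mul, mul_one, mul_one,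
    QuotientGroup.eq, ← map_inv, ← map_mul]
  refine Φ.Rmem _ _ (by rw [card_erase_of_mem (mem_univ _), Finset.card_univ, Fintype.card_fin]; omega) ?_
  intro o ho
  obtain rfl : o = k0 hn := by simpa using ho
  simp only [Subgroup.coe_mul, Subgroup.coe_inv, Perm.mul_apply]
  rw [h', Perm.inv_def, Equiv.symm_apply_apply]

theorem R_pt (π : alternatingGroup (Fin n)) (k : Fin n) :
    Φ.R π • Φ.pt hn k = Φ.pt hn ((π : Perm (Fin n)) k) := by
  show Φ.R π • Φ.R (exists_pi hn k).choose • _ = _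
  rw [smul_smul, ← map_mul, R_smul_base]
  simp only [Subgroup.coe_mul, Perm.mul_apply, (exists_pi hn k).choose_spec]

theorem smul_pt_of_notMem {S : Finset (Fin n)} {x : G} (hx : x ∈ Φ.L S) {k : Fin n} (hk : k ∉ S) :
    x • Φ.pt hn k = Φ.pt hn k := by
  obtain ⟨π, hπ⟩ := exists_pi hn k
  rw [← hπ, ← R_smul_base]
  rw [MulAction.Quotient.smul_mk, MulAction.Quotient.smul_mk, smul_eq_mul, smul_eq_mul, mul_one]
  rw [eq_comm, QuotientGroup.eq]
  have h := Φ.conj π⁻¹ hx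
  rw [map_inv, inv_inv] at h
  rw [← mul_assoc]
  refine Φ.mono ?_ h
  intro i hi
  rw [Finset.mem_map] at hi
  obtain ⟨j, hj, rfl⟩ := hi
  refine Finset.mem_erase.2 ⟨fun e => hk ?_, mem_univ _⟩
  simp only [Equiv.coe_toEmbedding, Subgroup.coe_inv] at e
  rw [← hπ, ← e, Perm.inv_def, Equiv.apply_symm_apply]
  exact hj

include hF in
theorem transporter {S : Finset (Fin n)} (hS : S ≠ univ) {x : G} (hx : x ∈ Φ.L S) {k l : Fin n}
    (hk : k ∈ S) (hl : l ∈ S) (h : Φ.A x (ev k) = ev l) : x • Φ.pt hn k = Φ.pt hn l := by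
  rcases eq_or_ne k l with rfl | hkl
  · exact Φ.smul_pt_of_notMem hn (Φ.mem_of_image hF hS (Finset.erase_subset k S) hx
      (mem_Sp_erase hF (Φ.supp hx) h)) (Finset.notMem_erase k S)
  obtain ⟨T, o, hST, hT, hok, hol, hoT⟩ : ∃ T o, S ⊆ T ∧ T ≠ univ ∧ o ≠ k ∧ o ≠ l ∧ o ∈ T := by
    by_cases h3 : 3 ≤ S.card
    · obtain ⟨o, hoS, ho⟩ : ∃ o ∈ S, o ∉ ({k, l} : Finset (Fin n)) := by
        by_contra hc
        push Not at hc
        have := Finset.card_le_card hc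
        have := Finset.card_le_two (a := k) (b := l)
        omega
      simp only [Finset.mem_insert, Finset.mem_singleton, not_or] at ho
      exact ⟨S, o, subset_rfl, hS, ho.1, ho.2, hoS⟩
    · obtain ⟨o, ho⟩ := exists_third hn S (by omega)
      refine ⟨insert o S, o, Finset.subset_insert _ _, ne_univ_of_card ?_, fun e => ho (e ▸ hk),
        fun e => ho (e ▸ hl), Finset.mem_insert_self _ _⟩
      rw [Finset.card_insert_of_notMem ho]; omega
  have hsgn : Perm.sign (swap k l * swap l o) = 1 := by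
    rw [map_mul, Perm.sign_swap hkl, Perm.sign_swap hol.symm]; decide
  set π : alternatingGroup (Fin n) := ⟨swap k l * swap l o, Perm.mem_alternatingGroup.2 hsgn⟩ with hπ
  have hπk : (π : Perm (Fin n)) k = l := by
    simp [hπ, swap_apply_of_ne_of_ne hkl hok.symm]
  have h3T : 3 ≤ T.card := Finset.two_lt_card.2 ⟨k, hST hk, l, hST hl, o, hoT, hkl, hok.symm, hol.symm⟩
  have hz : Φ.R π ∈ Φ.L T := Φ.Rmem _ _ h3T fun i hi => by
    have h1 : i ≠ k := fun e => hi (e ▸ hST hk)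
    have h2 : i ≠ l := fun e => hi (e ▸ hST hl)
    have h3 : i ≠ o := fun e => hi (e ▸ hoT)
    simp [hπ, swap_apply_of_ne_of_ne h1 h2, swap_apply_of_ne_of_ne h2 h3]
  have hy : x * (Φ.R π)⁻¹ ∈ Φ.L T := mul_mem (Φ.mono hST hx) (inv_mem hz)
  have hyl : Φ.A (x * (Φ.R π)⁻¹) (ev l) = ev l := by
    rw [A_mul, ← hπk, ← Φ.A_R_ev π k, Φ.A_inv_A, h, Φ.A_R_ev, hπk]
  have hy' := Φ.mem_of_image hF hT (Finset.erase_subset l T) hy (mem_Sp_erase hF (Φ.supp hy) hyl)
  have := Φ.smul_pt_of_notMem hn hy' (Finset.notMem_erase l T)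
  rwa [mul_smul, inv_smul_eq_iff.2 (show Φ.pt hn l = Φ.R π • Φ.pt hn k by rw [R_pt, hπk])] at this

/-- The relation between vectors with a zero entry and points. -/
def Rep (v : Fin n → F) (ξ : G ⧸ Φ.Hs hn) : Prop :=
  ∃ S : Finset (Fin n), S ≠ univ ∧ 2 ≤ S.card ∧ ∃ k ∈ S, ∃ x ∈ Φ.L S,
    Φ.A x (ev k) = v ∧ ξ = x • Φ.pt hn k

/-- The relation through a given set. -/
def RepOn (S : Finset (Fin n)) (v : Fin n → F) (ξ : G ⧸ Φ.Hs hn) : Prop :=
  ∃ k ∈ S, ∃ x ∈ Φ.L S, Φ.A x (ev k) = v ∧ ξ = x • Φ.pt hn k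

include hF in
theorem exists_repOn {S : Finset (Fin n)} (hS : S ≠ univ) (h2 : 2 ≤ S.card) {v : Fin n → F}
    (hu : IsU1 (q := q) v) (hs : ∀ i ∉ S, v i = 0) {k : Fin n} (hk : k ∈ S) :
    ∃ x ∈ Φ.L S, Φ.A x (ev k) = v := by
  obtain ⟨g, -, hg, hgv⟩ := exists_move hF (gen_Sp S) hk h2 hu hs
  obtain ⟨x, hx, hxg⟩ := Φ.lift S h2 hS g⁻¹ (inv_mem hg)
  exact ⟨x, hx, by rw [A, hxg, ← hgv, act_inv_act]⟩

include hF in
theorem repOn_supp {S : Finset (Fin n)} {v : Fin n → F} {ξ : G ⧸ Φ.Hs hn} (h : Φ.RepOn hn S v ξ) :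
    IsU1 (q := q) v ∧ ∀ i ∉ S, v i = 0 := by
  obtain ⟨k, hk, x, hx, rfl, -⟩ := h
  refine ⟨(isU1_ev hF k).act _, fun i hi => ?_⟩
  rw [Φ.A_apply_notMem hF hx _ hi]
  exact Pi.single_eq_of_ne (fun e : i = k => hi (e ▸ hk)) _

include hF in
theorem repOn_unique_of_sub {S D : Finset (Fin n)} (hS : S ≠ univ) (hD : D ⊆ S) (h2 : 2 ≤ D.card)
    {v : Fin n → F} (hs : ∀ i ∉ D, v i = 0) {ξ η : G ⧸ Φ.Hs hn}
    (h : Φ.RepOn hn S v ξ) (h' : Φ.RepOn hn D v η) : ξ = η := by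
  obtain ⟨k, hk, x, hx, hxv, rfl⟩ := h
  obtain ⟨l, hl, y, hy, hyv, rfl⟩ := h'
  have h3 := Φ.transporter hF hn hS (mul_mem (inv_mem (Φ.mono hD hy)) hx) hk (hD hl)
    (by rw [A_mul, hxv, ← hyv, A_inv_A])
  rw [mul_smul, inv_smul_eq_iff] at h3
  exact h3

include hF in
theorem repOn_unique {S T : Finset (Fin n)} (hS : S ≠ univ) (hT : T ≠ univ) (h2S : 2 ≤ S.card)
    (h2T : 2 ≤ T.card) {v : Fin n → F} {ξ η : G ⧸ Φ.Hs hn}
    (h : Φ.RepOn hn S v ξ) (h' : Φ.RepOn hn T v η) : ξ = η := by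
  obtain ⟨hu, hsS⟩ := Φ.repOn_supp hF hn h
  obtain ⟨-, hsT⟩ := Φ.repOn_supp hF hn h'
  have key : ∀ D : Finset (Fin n), D ≠ univ → 2 ≤ D.card → (∀ i ∉ D, v i = 0) → ∃ ζ, Φ.RepOn hn D v ζ := by
    intro D hD hD2 hDs
    obtain ⟨k, hk⟩ := Finset.card_pos.1 (show 0 < D.card by omega)
    obtain ⟨x, hx, hxv⟩ := Φ.exists_repOn hF hD hD2 hu hDs hk
    exact ⟨_, k, hk, x, hx, hxv, rfl⟩
  have hsI : ∀ i ∉ S ∩ T, v i = 0 := fun i hi => by
    by_cases hiS : i ∈ S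
    · exact hsT i fun hiT => hi (Finset.mem_inter.2 ⟨hiS, hiT⟩)
    · exact hsS i hiS
  by_cases hI : 2 ≤ (S ∩ T).card
  · obtain ⟨ζ, hζ⟩ := key _ (fun e => hS (Finset.univ_subset_iff.1 (e ▸ Finset.inter_subset_left))) hI hsI
    rw [Φ.repOn_unique_of_sub hF hn hS Finset.inter_subset_left hI hsI h hζ,
      Φ.repOn_unique_of_sub hF hn hT Finset.inter_subset_right hI hsI h' hζ]
  · have hne : (S ∩ T).Nonempty := by
      by_contra hc
      rw [Finset.not_nonempty_iff_eq_empty] at hc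
      have h0 := sum_nm_of_supp hF hu (fun i hi => hsI i hi)
      rw [hc, Finset.sum_empty] at h0
      exact zero_ne_one h0
    obtain ⟨i, hi⟩ := hne
    have hI1 : S ∩ T = {i} := Finset.eq_singleton_iff_unique_mem.2 ⟨hi, fun j hj => by
      by_contra hji
      exact hI (Finset.one_lt_card.2 ⟨j, hj, i, hi, hji⟩)⟩
    rw [hI1] at hsI
    rw [Finset.mem_inter] at hi
    obtain ⟨j, hj, hji⟩ := Finset.exists_mem_ne (show 1 < S.card by omega) i
    obtain ⟨j', hj', hji'⟩ := Finset.exists_mem_ne (show 1 < T.card by omega) i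
    have hP : ({i, j} : Finset (Fin n)) ⊆ S := by simp [Finset.insert_subset_iff, hi.1, hj]
    have hP' : ({i, j'} : Finset (Fin n)) ⊆ T := by simp [Finset.insert_subset_iff, hi.2, hj']
    have cP := Finset.card_pair hji.symm
    have cP' := Finset.card_pair hji'.symm
    have sP : ∀ l ∉ ({i, j} : Finset (Fin n)), v l = 0 := fun l hl => hsI l fun e => hl (by simp_all)
    have sP' : ∀ l ∉ ({i, j'} : Finset (Fin n)), v l = 0 := fun l hl => hsI l fun e => hl (by simp_all)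
    set W : Finset (Fin n) := {i, j, j'} with hW
    have hWc : W.card ≤ 3 := Finset.card_le_three
    have hPW : ({i, j} : Finset (Fin n)) ⊆ W := by simp [hW, Finset.insert_subset_iff]
    have hP'W : ({i, j'} : Finset (Fin n)) ⊆ W := by simp [hW, Finset.insert_subset_iff]
    have hWu : W ≠ univ := ne_univ_of_card (by omega)
    have hW2 : 2 ≤ W.card := cP ▸ Finset.card_le_card hPW
    obtain ⟨α, hα⟩ := key _ (fun e => hS (Finset.univ_subset_iff.1 (e ▸ hP))) cP.ge sP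
    obtain ⟨β, hβ⟩ := key _ (fun e => hT (Finset.univ_subset_iff.1 (e ▸ hP'))) cP'.ge sP'
    obtain ⟨γ, hγ⟩ := key W hWu hW2 fun l hl => sP l fun h => hl (hPW h)
    rw [Φ.repOn_unique_of_sub hF hn hS hP cP.ge sP h hα,
      Φ.repOn_unique_of_sub hF hn hT hP' cP'.ge sP' h' hβ,
      ← Φ.repOn_unique_of_sub hF hn hWu hPW cP.ge sP hγ hα,
      ← Φ.repOn_unique_of_sub hF hn hWu hP'W cP'.ge sP' hγ hβ]

/-- The point over a vector with a zero entry. -/
noncomputable def s0 (v : Fin n → F) : G ⧸ Φ.Hs hn :=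
  @Classical.epsilon _ ⟨QuotientGroup.mk 1⟩ (Φ.Rep hn v)

include hF in
theorem s0_eq {S : Finset (Fin n)} (hS : S ≠ univ) {k : Fin n} (hk : k ∈ S) {x : G} (hx : x ∈ Φ.L S)
    {v : Fin n → F} (h : Φ.A x (ev k) = v) : Φ.s0 hn v = x • Φ.pt hn k := by
  have main : ∀ {S : Finset (Fin n)}, S ≠ univ → 2 ≤ S.card → ∀ {k : Fin n}, k ∈ S → ∀ {x : G},
      x ∈ Φ.L S → Φ.A x (ev k) = v → Φ.s0 hn v = x • Φ.pt hn k := by
    intro S hS h2 k hk x hx h
    have hrep : Φ.Rep hn v (x • Φ.pt hn k) := ⟨S, hS, h2, k, hk, x, hx, h, rfl⟩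
    obtain ⟨T, hT, h2T, h'⟩ := @Classical.epsilon_spec _ (Φ.Rep hn v) ⟨_, hrep⟩
    exact Φ.repOn_unique hF hn hT hS h2T h2 h' ⟨k, hk, x, hx, h, rfl⟩
  by_cases h2 : 2 ≤ S.card
  · exact main hS h2 hk hx h
  · obtain ⟨j, hj⟩ := exists_third hn S (by omega)
    refine main (S := insert j S) (ne_univ_of_card ?_) ?_ (Finset.mem_insert_of_mem hk)
      (Φ.mono (Finset.subset_insert _ _) hx) h <;> rw [Finset.card_insert_of_notMem hj]
    · omega
    · have : 0 < S.card := Finset.card_pos.2 ⟨k, hk⟩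
      omega

include hF in
theorem s0_ev (k : Fin n) : Φ.s0 hn (ev k) = Φ.pt hn k := by
  rw [Φ.s0_eq hF hn (S := {k}) (ne_univ_of_card (by simp; omega)) (Finset.mem_singleton_self k)
    (one_mem _) (Φ.A_one _), one_smul]

/-- Equivariance at a vector. -/
def Eqv (x : G) (v : Fin n → F) : Prop := Φ.s0 hn (Φ.A x v) = x • Φ.s0 hn v

theorem eqv_one (v : Fin n → F) : Φ.Eqv hn 1 v := by rw [Eqv, A_one, one_smul]

theorem Eqv.mul {x y : G} {v : Fin n → F} (hy : Φ.Eqv hn y v) (hx : Φ.Eqv hn x (Φ.A y v)) :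
    Φ.Eqv hn (x * y) v := by
  unfold Eqv at *
  rw [A_mul, hx, hy, mul_smul]

theorem Eqv.symm {x : G} {v : Fin n → F} (h : Φ.Eqv hn x v) : Φ.Eqv hn x⁻¹ (Φ.A x v) := by
  unfold Eqv at *
  rw [A_inv_A, h, inv_smul_smul]

theorem Eqv.of_comm {y z : G} {v : Fin n → F} (hc : Commute y z) (hz : Φ.Eqv hn z v)
    (hz' : Φ.Eqv hn z (Φ.A y v)) (hy : Φ.Eqv hn y (Φ.A z v)) : Φ.Eqv hn y v := by
  unfold Eqv at *
  rw [← A_mul, hc.eq, A_mul, hz, smul_smul, hc.eq, ← smul_smul, hz'] at hy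
  exact smul_left_cancel z hy

include hF in
theorem eqv_of_zero_out {T : Finset (Fin n)} {x : G} (hx : x ∈ Φ.L T) {w : Fin n → F}
    (hu : IsU1 (q := q) w) {i : Fin n} (hi : i ∉ T) (hwi : w i = 0) : Φ.Eqv hn x w := by
  have hS : (univ.erase i : Finset (Fin n)) ≠ univ := fun e =>
    Finset.notMem_erase i univ (e.symm ▸ mem_univ i)
  have hc : 2 ≤ (univ.erase i : Finset (Fin n)).card := by
    rw [card_erase_of_mem (mem_univ _), Finset.card_univ, Fintype.card_fin]; omega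
  obtain ⟨k, hk⟩ := Finset.card_pos.1 (show 0 < (univ.erase i : Finset (Fin n)).card by omega)
  obtain ⟨y, hy, hyw⟩ := Φ.exists_repOn hF hS hc hu (fun j hj => by
    obtain rfl : j = i := by simpa using hj
    exact hwi) hk
  have hxS : x ∈ Φ.L (univ.erase i) :=
    Φ.mono (fun j hj => Finset.mem_erase.2 ⟨ne_of_mem_of_not_mem hj hi, mem_univ _⟩) hx
  unfold Eqv
  rw [Φ.s0_eq hF hn hS hk hy hyw, Φ.s0_eq hF hn hS hk (mul_mem hxS hy) (by rw [A_mul, hyw]), mul_smul]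

include hF in
theorem eqv_of_zero_in {S : Finset (Fin n)} (h2 : 2 ≤ S.card) (h2' : 2 ≤ Sᶜ.card) {x : G}
    (hx : x ∈ Φ.L S) {w : Fin n → F} (hu : IsU1 (q := q) w) (hw : ∀ i ∈ S, w i = 0) :
    Φ.Eqv hn x w := by
  obtain ⟨k, hk⟩ := Finset.card_pos.1 (show 0 < Sᶜ.card by omega)
  have hSc : Sᶜ ≠ univ := fun e => by
    have := congrArg Finset.card e
    rw [Finset.card_compl, Finset.card_univ, Fintype.card_fin] at this
    omega
  obtain ⟨y, hy, hyw⟩ := Φ.exists_repOn hF hSc h2' hu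
    (fun i hi => hw i (by simpa using hi)) hk
  unfold Eqv
  rw [Φ.A_eq_self hx w hw, Φ.s0_eq hF hn hSc hk hy hyw, smul_smul,
    (Φ.comm disjoint_compl_right h2 h2' hx hy).eq, mul_smul,
    Φ.smul_pt_of_notMem hn hx (Finset.mem_compl.1 hk)]

include hF in
theorem eqv_R (π : alternatingGroup (Fin n)) {w : Fin n → F} (hu : IsU1 (q := q) w) {i : Fin n}
    (hwi : w i = 0) : Φ.Eqv hn (Φ.R π) w := by
  have hS : (univ.erase i : Finset (Fin n)) ≠ univ := fun e =>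
    Finset.notMem_erase i univ (e.symm ▸ mem_univ i)
  have hc : 2 ≤ (univ.erase i : Finset (Fin n)).card := by
    rw [card_erase_of_mem (mem_univ _), Finset.card_univ, Fintype.card_fin]; omega
  obtain ⟨k, hk⟩ := Finset.card_pos.1 (show 0 < (univ.erase i : Finset (Fin n)).card by omega)
  obtain ⟨y, hy, hyw⟩ := Φ.exists_repOn hF hS hc hu (fun j hj => by
    obtain rfl : j = i := by simpa using hj
    exact hwi) hk
  have hS' : (univ.erase i).map (π : Perm (Fin n)).toEmbedding ≠ univ := by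
    apply ne_univ_of_card
    rw [Finset.card_map, card_erase_of_mem (mem_univ _), Finset.card_univ, Fintype.card_fin]
    omega
  unfold Eqv
  rw [Φ.s0_eq hF hn hS hk hy hyw, Φ.s0_eq hF hn hS' (Finset.mem_map_of_mem _ hk) (Φ.conj π hy)
      (by rw [Equiv.coe_toEmbedding, ← Φ.A_R_ev π k, A_mul, A_mul, A_inv_A, hyw]),
    mul_smul, mul_smul, Equiv.coe_toEmbedding, ← R_pt, inv_smul_smul]

end Frame

end CfsgLib.SUnPres
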