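import Cfsg.Agent.Lib.SUnPres.Zero

/-!
The points over all vectors of norm one, and injectivity of the map of a frame.
-/

set_option autoImplicit false
set_option linter.unusedSectionVars false

namespace CfsgLib.SUnPres

open CfsgLib.Classical.Herm
open Finset Equiv

namespace Frame

attribute [-simp] qPow_apply

variable {G : Type*} [Group G] {F : Type*} [Field F] [Fintype F] {q n : ℕ} (Φ : Frame G F q n)
  (hF : Fintype.card F = q ^ 2) (hn : 4 ≤ n)

/-- Every piece on three coordinates is equivariant between vectors with a zero entry. -/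
def TripleHyp : Prop :=
  ∀ {S : Finset (Fin n)}, S.card = 3 → ∀ {y : G}, y ∈ Φ.L S → ∀ {w : Fin n → F},
    IsU1 (q := q) w → (∃ i, w i = 0) → (∃ i, Φ.A y w i = 0) → Φ.Eqv hn y w

/-- Equivariance for the pieces on a given set. -/
def OK (S : Finset (Fin n)) : Prop :=
  ∀ {y : G}, y ∈ Φ.L S → ∀ {w : Fin n → F},
    IsU1 (q := q) w → (∃ i, w i = 0) → (∃ i, Φ.A y w i = 0) → Φ.Eqv hn y w

/-- A value read off through a given set. -/
def Val (S : Finset (Fin n)) (v : Fin n → F) (ξ : G ⧸ Φ.Hs hn) : Prop :=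
  ∃ g ∈ Φ.L S, (∃ i, Φ.A g v i = 0) ∧ g • ξ = Φ.s0 hn (Φ.A g v)

variable {Φ hn}

theorem Val.mono {S T : Finset (Fin n)} (hST : S ⊆ T) {v : Fin n → F} {ξ : G ⧸ Φ.Hs hn}
    (h : Φ.Val hn S v ξ) : Φ.Val hn T v ξ := by
  obtain ⟨g, hg, h⟩ := h
  exact ⟨g, Φ.mono hST hg, h⟩

theorem Val.smul {S : Finset (Fin n)} {x : G} (hx : x ∈ Φ.L S) {v : Fin n → F} {ξ : G ⧸ Φ.Hs hn}
    (h : Φ.Val hn S v ξ) : Φ.Val hn S (Φ.A x v) (x • ξ) := by
  obtain ⟨g, hg, hz, he⟩ := h
  refine ⟨g * x⁻¹, mul_mem hg (inv_mem hx), ?_, ?_⟩ <;> rw [A_mul, A_inv_A]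
  · exact hz
  · rw [smul_smul, inv_mul_cancel_right, he]

theorem Val.unique {S : Finset (Fin n)} (hS : Φ.OK hn S) {v : Fin n → F} (hu : IsU1 (q := q) v)
    {ξ η : G ⧸ Φ.Hs hn} (h : Φ.Val hn S v ξ) (h' : Φ.Val hn S v η) : ξ = η := by
  obtain ⟨g, hg, hz, he⟩ := h
  obtain ⟨g', hg', hz', he'⟩ := h'
  have e := hS (mul_mem hg' (inv_mem hg)) (w := Φ.A g v) (hu.act _) hz
    (by rw [← A_mul, inv_mul_cancel_right]; exact hz')
  unfold Eqv at e
  rw [← A_mul, inv_mul_cancel_right, ← he, smul_smul, inv_mul_cancel_right, ← he'] at e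
  exact (smul_left_cancel g' e).symm

include hF in
theorem Val.exists {S : Finset (Fin n)} (hS : S ≠ univ) {v : Fin n → F}
    (h : (2 ≤ S.card ∧ ∑ i ∈ S, nm hF (v i) ≠ 0) ∨ 3 ≤ S.card) : ∃ ξ, Φ.Val hn S v ξ := by
  obtain ⟨z, hz, i, -, hi⟩ := Φ.exists_zero_lift hF hS h
  exact ⟨z⁻¹ • Φ.s0 hn (Φ.A z v), z, hz, ⟨i, hi⟩, smul_inv_smul _ _⟩

include hF in
theorem Val.exists_three {S : Finset (Fin n)} (hS : S.card = 3) (v : Fin n → F) :
    ∃ ξ, Φ.Val hn S v ξ :=
  Val.exists hF (ne_univ_of_card (by omega)) (Or.inr hS.ge)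

include hF in
/-- Disjoint sets give the same value. -/
theorem Val.disjoint {S T : Finset (Fin n)} (hST : Disjoint S T) (h2 : 2 ≤ S.card) (h2' : 2 ≤ T.card)
    (hS : Φ.OK hn S) (hT : Φ.OK hn T) {v : Fin n → F} (hu : IsU1 (q := q) v) (hfull : ∀ i, v i ≠ 0)
    {ξ η : G ⧸ Φ.Hs hn} (h : Φ.Val hn S v ξ) (h' : Φ.Val hn T v η) : ξ = η := by
  obtain ⟨g, hg, ⟨i, hi⟩, he⟩ := h
  obtain ⟨g', hg', ⟨i', hi'⟩, he'⟩ := h'
  have hiS : i ∈ S := by
    by_contra hc
    rw [Φ.A_apply_notMem hF hg v hc] at hi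
    exact hfull i hi
  have hi'T : i' ∈ T := by
    by_contra hc
    rw [Φ.A_apply_notMem hF hg' v hc] at hi'
    exact hfull i' hi'
  have e1 := Φ.eqv_of_zero_out hF hn hg' (hu.act (Φ.φ g)) (Finset.disjoint_left.1 hST hiS) hi
  have e2 := Φ.eqv_of_zero_out hF hn hg (hu.act (Φ.φ g')) (Finset.disjoint_right.1 hST hi'T) hi'
  have hc := Φ.comm hST h2 h2' hg hg'
  unfold Eqv at e1 e2
  change Φ.s0 hn (Φ.A g' (Φ.A g v)) = _ at e1
  change Φ.s0 hn (Φ.A g (Φ.A g' v)) = _ at e2
  rw [← A_mul, ← hc.eq, A_mul, e2] at e1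
  change g • Φ.s0 hn (Φ.A g' v) = g' • Φ.s0 hn (Φ.A g v) at e1
  rw [← he, ← he', smul_smul, smul_smul, hc.eq] at e1
  exact (smul_left_cancel _ e1).symm

variable (Φ hn)

theorem isU1_A {v : Fin n → F} (hv : IsU1 (q := q) v) (x : G) : IsU1 (q := q) (Φ.A x v) := hv.act _

/-- Value on a set, as a specific point. -/
noncomputable def valOf (S : Finset (Fin n)) (v : Fin n → F) : G ⧸ Φ.Hs hn :=
  @Classical.epsilon _ ⟨QuotientGroup.mk 1⟩ (Φ.Val hn S v)

include hF in
theorem valOf_spec {S : Finset (Fin n)} (hS : S.card = 3) (v : Fin n → F) :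
    Φ.Val hn S v (Φ.valOf hn S v) :=
  @Classical.epsilon_spec _ (Φ.Val hn S v) (Val.exists_three hF hS v)

include hF in
theorem valOf_eq (hT : Φ.TripleHyp hn) {S : Finset (Fin n)} (hS : S.card = 3) {v : Fin n → F}
    (hu : IsU1 (q := q) v) {ξ : G ⧸ Φ.Hs hn} (h : Φ.Val hn S v ξ) : Φ.valOf hn S v = ξ :=
  Val.unique (fun hy _ => hT hS hy) hu (Φ.valOf_spec hF hn hS v) h

include hF in
theorem valOf_zero (hT : Φ.TripleHyp hn) {S : Finset (Fin n)} (hS : S.card = 3) {v : Fin n → F}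
    (hu : IsU1 (q := q) v) (hz : ∃ i, v i = 0) : Φ.valOf hn S v = Φ.s0 hn v :=
  Φ.valOf_eq hF hn hT hS hu ⟨1, one_mem _, by rw [A_one]; exact hz, by rw [A_one, one_smul]⟩

include hF in
theorem valOf_adjacent (hP : Φ.PairHyp hn) (hT : Φ.TripleHyp hn) (h6 : q = 2 → 6 ≤ n)
    {a b c d : Fin n} (hab : a ≠ b) (hac : a ≠ c) (hbc : b ≠ c) (had : a ≠ d) (hbd : b ≠ d) (hcd : c ≠ d)
    {v : Fin n → F} (hu : IsU1 (q := q) v) (hfull : ∀ i, v i ≠ 0) :
    Φ.valOf hn {a, b, c} v = Φ.valOf hn {a, b, d} v := by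
  classical
  have c3 : ∀ {x y z : Fin n}, x ≠ y → x ≠ z → y ≠ z → ({x, y, z} : Finset (Fin n)).card = 3 :=
    fun h1 h2 h3 => Finset.card_eq_three.2 ⟨_, _, _, h1, h2, h3, rfl⟩
  have hT1 := c3 hab hac hbc
  have hT2 := c3 hab had hbd
  have okP : ∀ {x y : Fin n}, x ≠ y → Φ.OK hn ({x, y} : Finset (Fin n)) := fun h =>
    fun hy _ => Φ.eqv_pair hF hn hP (Finset.card_pair h) hy
  have okT : ∀ {S : Finset (Fin n)}, S.card = 3 → Φ.OK hn S := fun h => fun hy _ => hT h hy
  -- a pair with a non-zero sum gives the value of every triple around it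
  have pairVal : ∀ {x y : Fin n} {v : Fin n → F}, x ≠ y → nm hF (v x) + nm hF (v y) ≠ 0 →
      ∃ ξ, Φ.Val hn ({x, y} : Finset (Fin n)) v ξ := fun {x y v} hxy h =>
    Val.exists hF (ne_univ_of_card (by rw [Finset.card_pair hxy]; omega))
      (Or.inl ⟨(Finset.card_pair hxy).ge, by rwa [Finset.sum_pair hxy]⟩)
  by_cases h0 : nm hF (v a) + nm hF (v b) ≠ 0
  · obtain ⟨ξ, hξ⟩ := pairVal hab h0
    rw [Φ.valOf_eq hF hn hT hT1 hu (hξ.mono (by simp [Finset.insert_subset_iff])),
      Φ.valOf_eq hF hn hT hT2 hu (hξ.mono (by simp [Finset.insert_subset_iff]))]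
  push Not at h0
  by_cases hq : q = 2
  · have h6' := h6 hq
    by_cases h7 : 7 ≤ n
    · have hR : 3 ≤ ({a, b, c, d} : Finset (Fin n))ᶜ.card := by
        rw [Finset.card_compl, Fintype.card_fin]
        have := Finset.card_le_four (a := a) (b := b) (c := c) (d := d)
        omega
      obtain ⟨W, hW, hW3⟩ := Finset.exists_subset_card_eq hR
      have hd1 : Disjoint ({a, b, c} : Finset (Fin n)) W := Finset.disjoint_left.2 fun x hx hxW =>
        Finset.mem_compl.1 (hW hxW) (by simp at hx ⊢; tauto)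
      have hd2 : Disjoint ({a, b, d} : Finset (Fin n)) W := Finset.disjoint_left.2 fun x hx hxW =>
        Finset.mem_compl.1 (hW hxW) (by simp at hx ⊢; tauto)
      rw [Val.disjoint hF hd1 (by omega) (by omega) (okT hT1) (okT hW3) hu hfull
          (Φ.valOf_spec hF hn hT1 v) (Φ.valOf_spec hF hn hW3 v),
        Val.disjoint hF hd2 (by omega) (by omega) (okT hT2) (okT hW3) hu hfull
          (Φ.valOf_spec hF hn hT2 v) (Φ.valOf_spec hF hn hW3 v)]
    · exfalso
      have h1 := hu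
      rw [IsU1, herm_self hF, Finset.sum_congr rfl fun i _ => eq_zero_of_q_two hF hq (v i) (hfull i),
        Finset.sum_const, Finset.card_univ, Fintype.card_fin, nsmul_one,
        show n = 6 by omega] at h1
      have h20 := two_zero_of_q_two hF hq
      push_cast at h1
      exact one_ne_zero (by linear_combination -h1 + 3 * h20 : (1 : F) = 0)
  -- crossed pairs are disjoint
  have cross : ∀ {v : Fin n → F}, IsU1 (q := q) v → (∀ i, v i ≠ 0) →
      ∀ {x y z w : Fin n}, x ≠ z → y ≠ w → Disjoint ({x, z} : Finset (Fin n)) {y, w} →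
      ({x, z} : Finset (Fin n)) ⊆ {a, b, c} → ({y, w} : Finset (Fin n)) ⊆ {a, b, d} →
      nm hF (v x) + nm hF (v z) ≠ 0 → nm hF (v y) + nm hF (v w) ≠ 0 →
      Φ.valOf hn {a, b, c} v = Φ.valOf hn {a, b, d} v := by
    intro v hu hfull x y z w hxz hyw hdis hs1 hs2 e1 e2
    obtain ⟨ξ, hξ⟩ := pairVal hxz e1
    obtain ⟨η, hη⟩ := pairVal hyw e2
    rw [Φ.valOf_eq hF hn hT hT1 hu (hξ.mono hs1), Φ.valOf_eq hF hn hT hT2 hu (hη.mono hs2)]
    exact Val.disjoint hF hdis (Finset.card_pair hxz).ge (Finset.card_pair hyw).ge (okP hxz) (okP hyw)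
      hu hfull hξ hη
  have common : ∀ {x : Fin n}, x ≠ c → x ≠ d → (x = a ∨ x = b) → nm hF (v x) + nm hF (v c) ≠ 0 →
      nm hF (v x) + nm hF (v d) ≠ 0 → Φ.valOf hn {a, b, c} v = Φ.valOf hn {a, b, d} v := by
    intro x hxc hxd hx e1 e2
    have hW := c3 hxc hxd hcd
    obtain ⟨ξ, hξ⟩ := pairVal hxc e1
    obtain ⟨η, hη⟩ := pairVal hxd e2
    rw [Φ.valOf_eq hF hn hT hT1 hu (hξ.mono (by rcases hx with rfl | rfl <;> simp [Finset.insert_subset_iff])),
      Φ.valOf_eq hF hn hT hT2 hu (hη.mono (by rcases hx with rfl | rfl <;> simp [Finset.insert_subset_iff])),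
      ← Φ.valOf_eq hF hn hT hW hu (hξ.mono (by simp [Finset.insert_subset_iff])),
      ← Φ.valOf_eq hF hn hT hW hu (hη.mono (by simp [Finset.insert_subset_iff]))]
  by_cases h20 : (2 : F) = 0
  · have hq4 : 2 + 1 < q := by
      have := two_le_of_card hF
      by_contra hlt
      have h3 : q = 3 := by omega
      have hc : (Fintype.card F : F) = 0 := FiniteField.cast_card_eq_zero F
      rw [hF, h3] at hc
      push_cast at hc
      exact one_ne_zero (by linear_combination hc - 4 * h20 : (1 : F) = 0)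
    obtain ⟨y, hy, hy0, hys⟩ := exists_fixed_avoid hF {nm hF (v c), nm hF (v d)}
      (lt_of_le_of_lt (Nat.add_le_add_right Finset.card_le_two 1) hq4)
    simp only [Finset.mem_insert, Finset.mem_singleton, not_or] at hys
    obtain ⟨x', rfl⟩ := exists_nm_eq hF y hy
    obtain ⟨g, hg, hga⟩ := pair_iso_move hF hab h0 (hfull a) (x := x') (fun e => hy0 (by rw [e, nm_zero]))
    obtain ⟨z, hz, rfl⟩ := Φ.lift _ (Finset.card_pair hab).ge (ne_univ_of_card (by
      rw [Finset.card_pair hab]; omega)) g hg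
    have hzc : Φ.A z v c = v c := Φ.A_apply_notMem hF hz v (by simp [hac.symm, hbc.symm])
    have hzd : Φ.A z v d = v d := Φ.A_apply_notMem hF hz v (by simp [had.symm, hbd.symm])
    have hza : Φ.A z v a = x' := hga
    have hsum := Φ.sum_nm_A hF hz v
    rw [Finset.sum_pair hab, Finset.sum_pair hab, h0, hza] at hsum
    have hzfull : ∀ i, Φ.A z v i ≠ 0 := by
      intro i
      rcases eq_or_ne i a with rfl | hia
      · rw [hza]; exact fun e => hy0 (by rw [e, nm_zero])
      rcases eq_or_ne i b with rfl | hib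
      · intro e
        rw [e, nm_zero, add_zero] at hsum
        exact hy0 hsum
      rw [Φ.A_apply_notMem hF hz v (by simp [hia, hib])]
      exact hfull i
    have hagree := cross (Φ.isU1_A hu z) hzfull (x := a) (y := b) hac hbd
      (by simp [hab, hab.symm, had, had.symm, hcd, hcd.symm, hbc, hbc.symm, hac, hac.symm, hbd, hbd.symm]) (by simp [Finset.insert_subset_iff])
      (by simp [Finset.insert_subset_iff])
      (by
        intro e
        change nm hF (Φ.A z v a) + nm hF (Φ.A z v c) = 0 at e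
        rw [hza, hzc] at e
        exact hys.1 (by linear_combination e - nm hF (v c) * h20))
      (by
        intro e
        change nm hF (Φ.A z v b) + nm hF (Φ.A z v d) = 0 at e
        rw [hzd] at e
        exact hys.2 (by linear_combination hsum - e))
    have hs1 : ({a, b} : Finset (Fin n)) ⊆ {a, b, c} := by simp [Finset.insert_subset_iff]
    have hs2 : ({a, b} : Finset (Fin n)) ⊆ {a, b, d} := by simp [Finset.insert_subset_iff]
    change Φ.valOf hn _ (Φ.A z v) = Φ.valOf hn _ (Φ.A z v) at hagree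
    rw [Φ.valOf_eq hF hn hT hT1 (Φ.isU1_A hu z) ((Φ.valOf_spec hF hn hT1 v).smul (Φ.mono hs1 hz)),
      Φ.valOf_eq hF hn hT hT2 (Φ.isU1_A hu z) ((Φ.valOf_spec hF hn hT2 v).smul (Φ.mono hs2 hz))] at hagree
    exact smul_left_cancel z hagree
  · have hna := nm_ne_zero hF (hfull a)
    have two_a : ∀ {e : F}, nm hF (v a) + e = 0 → nm hF (v b) + e ≠ 0 := by
      intro e h1 h2
      have : nm hF (v a) * 2 = 0 := by linear_combination h1 - h2 + h0
      exact h20 ((mul_eq_zero.1 this).resolve_left hna)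
    by_cases hac0 : nm hF (v a) + nm hF (v c) = 0
    · by_cases had0 : nm hF (v a) + nm hF (v d) = 0
      · exact common hbc hbd (Or.inr rfl) (two_a hac0) (two_a had0)
      · exact cross hu hfull (x := b) (y := a) hbc had (by simp [hab, hab.symm, had, had.symm, hcd, hcd.symm, hbc, hbc.symm, hac, hac.symm, hbd, hbd.symm])
          (by simp [Finset.insert_subset_iff]) (by simp [Finset.insert_subset_iff]) (two_a hac0) had0
    · by_cases had0 : nm hF (v a) + nm hF (v d) = 0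
      · exact cross hu hfull (x := a) (y := b) hac hbd (by simp [hab, hab.symm, had, had.symm, hcd, hcd.symm, hbc, hbc.symm, hac, hac.symm, hbd, hbd.symm])
          (by simp [Finset.insert_subset_iff]) (by simp [Finset.insert_subset_iff]) hac0 (two_a had0)
      · exact common hac had (Or.inl rfl) hac0 had0

include hF in
theorem valOf_agree (hP : Φ.PairHyp hn) (hT : Φ.TripleHyp hn) (h6 : q = 2 → 6 ≤ n)
    {S T : Finset (Fin n)} (hS : S.card = 3) (hT3 : T.card = 3) {v : Fin n → F} (hu : IsU1 (q := q) v) :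
    Φ.valOf hn S v = Φ.valOf hn T v := by
  classical
  by_cases hz : ∃ i, v i = 0
  · rw [Φ.valOf_zero hF hn hT hS hu hz, Φ.valOf_zero hF hn hT hT3 hu hz]
  push Not at hz
  induction hm : (S \ T).card using Nat.strong_induction_on generalizing S with
  | _ m ih =>
    rcases Nat.eq_zero_or_pos m with rfl | hpos
    · rw [Finset.card_eq_zero, Finset.sdiff_eq_empty_iff_subset] at hm
      rw [Finset.eq_of_subset_of_card_le hm (by omega)]
    obtain ⟨c, hc⟩ := Finset.card_pos.1 (hm ▸ hpos)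
    rw [Finset.mem_sdiff] at hc
    obtain ⟨d, hdT, hdS⟩ : ∃ d ∈ T, d ∉ S := by
      by_contra hcon
      push Not at hcon
      exact hc.2 (by rw [Finset.eq_of_subset_of_card_le hcon (by omega)]; exact hc.1)
    obtain ⟨a, b, hab, hE⟩ := Finset.card_eq_two.1 (show (S.erase c).card = 2 by
      rw [Finset.card_erase_of_mem hc.1]; omega)
    have ha : a ∈ S.erase c := by rw [hE]; simp
    have hb : b ∈ S.erase c := by rw [hE]; simp
    rw [Finset.mem_erase] at ha hb
    have hSeq : S = {a, b, c} := by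
      rw [← Finset.insert_erase hc.1, hE]
      ext x; simp; tauto
    have hS' : ({a, b, d} : Finset (Fin n)).card = 3 :=
      Finset.card_eq_three.2 ⟨a, b, d, hab, ne_of_mem_of_not_mem ha.2 hdS, ne_of_mem_of_not_mem hb.2 hdS, rfl⟩
    have hlt : (({a, b, d} : Finset (Fin n)) \ T).card < m := by
      rw [← hm]
      refine Finset.card_lt_card ((Finset.ssubset_iff_of_subset ?_).2 ⟨c, Finset.mem_sdiff.2 hc, ?_⟩)
      · intro x hx
        simp only [Finset.mem_sdiff, Finset.mem_insert, Finset.mem_singleton] at hx ⊢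
        rcases hx.1 with rfl | rfl | rfl
        · exact ⟨ha.2, hx.2⟩
        · exact ⟨hb.2, hx.2⟩
        · exact absurd hdT hx.2
      · simp only [Finset.mem_sdiff, Finset.mem_insert, Finset.mem_singleton, not_and, not_not]
        rintro (rfl | rfl | rfl)
        · exact absurd rfl ha.1
        · exact absurd rfl hb.1
        · exact absurd hdT hc.2
    rw [← ih _ hlt hS' rfl, hSeq]
    exact Φ.valOf_adjacent hF hn hP hT h6 hab ha.1 hb.1 (ne_of_mem_of_not_mem ha.2 hdS) (ne_of_mem_of_not_mem hb.2 hdS)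
      (ne_of_mem_of_not_mem hc.1 hdS) hu hz

include hF in
/-- The map of a frame is injective. -/
theorem injective (hP : Φ.PairHyp hn) (hT : Φ.TripleHyp hn) (h6 : q = 2 → 6 ≤ n) :
    Function.Injective Φ.φ := by
  classical
  obtain ⟨T₀, -, hT₀⟩ := Finset.exists_subset_card_eq (s := (univ : Finset (Fin n))) (n := 3)
    (by rw [Finset.card_univ, Fintype.card_fin]; omega)
  let P : G → Prop := fun x => ∀ v : Fin n → F, IsU1 (q := q) v →
    Φ.valOf hn T₀ (Φ.A x v) = x • Φ.valOf hn T₀ v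
  let Eq : Subgroup G :=
    { carrier := {x | P x}
      one_mem' := fun v _ => by rw [A_one, one_smul]
      mul_mem' := fun {x y} hx hy v hv => by rw [A_mul, hx _ (Φ.isU1_A hv _), hy v hv, mul_smul]
      inv_mem' := fun {x} hx v hv => by
        rw [eq_inv_smul_iff]
        have h := hx (Φ.A x⁻¹ v) (Φ.isU1_A hv _)
        rw [A_A_inv] at h
        exact h.symm }
  have hall : ∀ x, P x := by
    intro x
    have hgen := Φ.gen (Subgroup.mem_top x)
    refine (Subgroup.closure_le Eq).2 ?_ hgen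
    rintro g ⟨S, hS, hg⟩ v hv
    obtain ⟨T, hT3, hgT⟩ : ∃ T : Finset (Fin n), T.card = 3 ∧ g ∈ Φ.L T := by
      rcases hS with hS | ⟨hS, -⟩
      · obtain ⟨T, hST, hT3⟩ := Finset.exists_superset_card_eq (s := S) (n := 3) (by omega)
          (by rw [Fintype.card_fin]; omega)
        exact ⟨T, hT3, Φ.mono hST hg⟩
      · exact ⟨S, hS, hg⟩
    rw [Φ.valOf_agree hF hn hP hT h6 hT₀ hT3 (Φ.isU1_A hv _), Φ.valOf_agree hF hn hP hT h6 hT₀ hT3 hv]
    exact Φ.valOf_eq hF hn hT hT3 (Φ.isU1_A hv _) ((Φ.valOf_spec hF hn hT3 v).smul hgT)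
  rw [injective_iff_map_eq_one]
  intro g hg
  have hbase : Φ.valOf hn T₀ (ev (k0 hn)) = QuotientGroup.mk 1 := by
    obtain ⟨o, ho⟩ := exists_third hn {k0 hn} (by simp; omega)
    rw [Φ.valOf_zero hF hn hT hT₀ (isU1_ev hF _) ⟨o, Pi.single_eq_of_ne (by simpa using ho) _⟩,
      Φ.s0_ev hF hn]
    have := Φ.R_smul_base hn 1
    rw [map_one, one_smul, Subgroup.coe_one, Perm.one_apply] at this
    exact this.symm
  have h := hall g (ev (k0 hn)) (isU1_ev hF _)
  rw [A, hg, act_one, hbase, MulAction.Quotient.smul_mk, smul_eq_mul, mul_one, QuotientGroup.eq,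
    inv_one, one_mul] at h
  exact Φ.inj (ne_univ_of_card (by rw [card_erase_of_mem (mem_univ _), Finset.card_univ, Fintype.card_fin]; omega)) h hg

end Frame

end CfsgLib.SUnPres
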