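import Cfsg.Agent.Lib.SUnPres.Block
import Cfsg.Agent.Lib.BoundedPres.SpPres
import Cfsg.Agent.Lib.Present.BinIcosahedral
import Cfsg.Agent.Lib.Present.Icosahedral
import Cfsg.Agent.Lib.SymPres.Final

/-!
Generators of the small pieces and presentations of the small alternating groups.
-/

set_option autoImplicit false

namespace CfsgLib.SUnPres

open Finset Equiv
open CfsgLib.BoundedPres (PresOn Kills)
open CfsgLib.Classical.Herm

attribute [-simp] qPow_apply

theorem presOn_alt_five : PresOn (Fin 2) (alternatingGroup (Fin 5)) 3 := by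
  obtain ⟨a, b, ha, hb, hab, hgen⟩ := CfsgLib.Present.ico_pair
  let R : List (FreeGroup (Fin 2)) :=
    [FreeGroup.of 0 ^ 3, FreeGroup.of 1 ^ 5, (FreeGroup.of 0 * FreeGroup.of 1) ^ 2]
  show PresOn (Fin 2) _ R.length
  refine PresOn.of_bound ![a, b] R ?_ (by rw [Matrix.range_cons_cons_empty]; exact hgen) ?_
  · intro w hw
    simp only [R, List.mem_cons, List.not_mem_nil, or_false] at hw
    rcases hw with rfl | rfl | rfl <;> simp only [map_pow, map_mul, FreeGroup.lift_apply_of,
      Matrix.cons_val_zero, Matrix.cons_val_one]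
    · exact (congrArg (a ^ ·) ha.symm).trans (pow_orderOf_eq_one a)
    · exact (congrArg (b ^ ·) hb.symm).trans (pow_orderOf_eq_one b)
    · exact (congrArg ((a * b) ^ ·) hab.symm).trans (pow_orderOf_eq_one (a * b))
  · intro G _ φ f _ hgen' hk
    have k1 := hk (FreeGroup.of 0 ^ 3) (by simp [R])
    have k2 := hk (FreeGroup.of 1 ^ 5) (by simp [R])
    have k3 := hk ((FreeGroup.of 0 * FreeGroup.of 1) ^ 2) (by simp [R])
    simp only [map_pow, map_mul, FreeGroup.lift_apply_of] at k1 k2 k3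
    have h : Subgroup.closure ({f 0, f 1} : Set G) = ⊤ := by
      rw [← hgen']; congr 1; ext z; simp [Fin.exists_fin_two, eq_comm]
    obtain ⟨hfin, hle⟩ := CfsgLib.Present.icosahedral_card_le (f 0) (f 1) k1 k2 k3 h
    refine ⟨hfin, hle.trans (le_of_eq ?_)⟩
    rw [Nat.card_eq_fintype_card]
    have h5 := two_mul_card_alternatingGroup (α := Fin 5)
    rw [Fintype.card_perm, Fintype.card_fin, show Nat.factorial 5 = 120 from rfl] at h5
    omega

theorem presOn_alt_three_gens {n : ℕ} (hn : 4 ≤ n) :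
    PresOn (Fin 3) (alternatingGroup (Fin n)) (if n ≤ 5 then 4 else 7) := by
  have pad : ∀ {T : Type} [Group T], PresOn (Fin 2) T 3 → PresOn (Fin 3) T 4 := fun h => by
    have := (h.pad Unit).reindex ((Equiv.sumCongr (Equiv.refl (Fin 2)) finOneEquiv.symm).trans finSumFinEquiv)
    exact this.mono (by simp)
  by_cases h5 : n ≤ 5
  · rw [if_pos h5]
    rcases (show n = 4 ∨ n = 5 by omega) with rfl | rfl
    · exact pad CfsgLib.SymPres.presOn_alt_four
    · exact pad presOn_alt_five
  · rw [if_neg h5]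
    exact (CfsgLib.SymPres.alt_presentations (by omega)).1

theorem alt_two_gen (k : ℕ) :
    ∃ a b : alternatingGroup (Fin k), Subgroup.closure {a, b} = (⊤ : Subgroup (alternatingGroup (Fin k))) := by
  have h : ∃ r, PresOn (Fin 2) (alternatingGroup (Fin k)) r := by
    rcases Nat.lt_or_ge k 5 with h | h
    · obtain ⟨rels, -, ⟨e⟩⟩ := CfsgLib.SymPres.alt_small (n := k) (by omega)
      exact ⟨_, PresOn.of_iso rels le_rfl e⟩
    · exact ⟨7, (CfsgLib.SymPres.alt_presentations h).2⟩
  obtain ⟨r, v, -, -, -, hgen, -⟩ := h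
  refine ⟨v 0, v 1, ?_⟩
  rw [← hgen]; congr 1; ext z; simp [Fin.exists_fin_two, eq_comm]

/-- Generators of the even permutations fixing the first two coordinates. -/
theorem exists_stab_gens {n : ℕ} (hn : 4 ≤ n) :
    ∃ l : List (alternatingGroup (Fin n)), l.length ≤ (if n = 4 then 0 else if n = 5 then 1 else 2) ∧
      (∀ σ ∈ l, (σ : Perm (Fin n)) (cd hn 0) = cd hn 0 ∧ (σ : Perm (Fin n)) (cd hn 1) = cd hn 1) ∧
      ∀ σ : alternatingGroup (Fin n), (σ : Perm (Fin n)) (cd hn 0) = cd hn 0 →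
        (σ : Perm (Fin n)) (cd hn 1) = cd hn 1 → σ ∈ Subgroup.closure {x | x ∈ l} := by
  by_cases h4 : n = 4
  · subst h4
    refine ⟨[], by simp, by simp, fun σ h0 h1 => ?_⟩
    have key : ∀ τ : Perm (Fin 4), Perm.sign τ = 1 → τ 0 = 0 → τ 1 = 1 → τ = 1 := by decide
    rw [show σ = 1 from Subtype.ext (key σ.1 σ.2 h0 h1)]
    exact one_mem _
  by_cases h5 : n = 5
  · subst h5
    refine ⟨[tri 2 3 4 (by decide) (by decide)], by simp, ?_, fun σ h0 h1 => ?_⟩
    · intro σ hσ
      rw [List.mem_singleton] at hσ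
      subst hσ
      exact ⟨(by decide : (tri (2 : Fin 5) 3 4 (by decide) (by decide) : Perm (Fin 5)) 0 = 0),
        (by decide : (tri (2 : Fin 5) 3 4 (by decide) (by decide) : Perm (Fin 5)) 1 = 1)⟩
    have key : ∀ τ : Perm (Fin 5), Perm.sign τ = 1 → τ 0 = 0 → τ 1 = 1 →
        τ = 1 ∨ τ = swap 2 3 * swap 3 4 ∨ τ = swap 2 3 * swap 3 4 * (swap 2 3 * swap 3 4) := by decide +kernel
    have hmem : tri (2 : Fin 5) 3 4 (by decide) (by decide) ∈
        Subgroup.closure {x | x ∈ [tri (2 : Fin 5) 3 4 (by decide) (by decide)]} :=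
      Subgroup.subset_closure (by simp)
    rcases key σ.1 σ.2 h0 h1 with h | h | h
    · rw [show σ = 1 from Subtype.ext h]; exact one_mem _
    · rw [show σ = tri (2 : Fin 5) 3 4 (by decide) (by decide) from Subtype.ext h]; exact hmem
    · rw [show σ = tri (2 : Fin 5) 3 4 (by decide) (by decide) * tri (2 : Fin 5) 3 4 (by decide) (by decide) from Subtype.ext h]
      exact mul_mem hmem hmem
  obtain ⟨m, rfl⟩ : ∃ m, n = 2 + m := ⟨n - 2, by omega⟩
  let e : Fin m ↪ Fin (2 + m) := Fin.natAddEmb 2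
  let hom : alternatingGroup (Fin m) →* alternatingGroup (Fin (2 + m)) :=
    ((Perm.extendDomainHom e.toEquivRange).comp (alternatingGroup (Fin m)).subtype).codRestrict _ fun a => by
      rw [Perm.mem_alternatingGroup]
      exact (Perm.sign_extendDomain _ _).trans (Perm.mem_alternatingGroup.1 a.2)
  have hfix : ∀ (a : alternatingGroup (Fin m)) (i : Fin (2 + m)), (i : ℕ) < 2 →
      (hom a : Perm (Fin (2 + m))) i = i := fun a i hi =>
    Perm.extendDomain_apply_not_subtype _ _ (by
      rintro ⟨x, hx⟩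
      have := congrArg Fin.val hx
      simp [e] at this
      omega)
  have happ : ∀ (a : alternatingGroup (Fin m)) (x : Fin m),
      (hom a : Perm (Fin (2 + m))) (e x) = e ((a : Perm (Fin m)) x) := fun a x =>
    Perm.extendDomain_apply_image _ e.toEquivRange x
  obtain ⟨a, b, hab⟩ := alt_two_gen m
  refine ⟨[hom a, hom b], by simp [h4, h5], ?_, fun σ h0 h1 => ?_⟩
  · intro σ hσ
    simp only [List.mem_cons, List.not_mem_nil, or_false] at hσ
    rcases hσ with rfl | rfl <;> exact ⟨hfix _ _ (by simp [cd]), hfix _ _ (by simp [cd])⟩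
  have hset : ({x | x ∈ [hom a, hom b]} : Set (alternatingGroup (Fin (2 + m)))) = hom '' {a, b} := by
    ext z; simp [eq_comm]
  rw [hset, ← MonoidHom.map_closure, hab]
  have hlow : ∀ i : Fin (2 + m), (i : ℕ) < 2 → (σ : Perm (Fin (2 + m))) i = i := by
    intro i hi
    rcases (show (i : ℕ) = 0 ∨ (i : ℕ) = 1 by omega) with h | h
    · rw [show i = cd hn 0 from Fin.ext h]; exact h0
    · rw [show i = cd hn 1 from Fin.ext h]; exact h1
  have hp : ∀ i, ((σ : Perm (Fin (2 + m))) i ∈ Set.range e) ↔ i ∈ Set.range e := by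
    have hmem : ∀ i : Fin (2 + m), i ∈ Set.range e ↔ 2 ≤ (i : ℕ) := by
      intro i
      constructor
      · rintro ⟨x, rfl⟩; simp [e]
      · intro h
        exact ⟨⟨i - 2, by omega⟩, Fin.ext (by simp [e]; omega)⟩
    intro i
    rw [hmem, hmem]
    constructor
    · intro h
      by_contra hc
      rw [hlow i (by omega)] at h
      omega
    · intro h
      by_contra hc
      have := (σ : Perm (Fin (2 + m))).injective (hlow _ (show ((σ : Perm (Fin (2 + m))) i : ℕ) < 2 by omega))
      omega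
  let τ : Perm (Fin m) := (e.toEquivRange.trans
    (((σ : Perm (Fin (2 + m))).subtypePerm (p := fun i => i ∈ Set.range e) hp).trans e.toEquivRange.symm))
  have hτ : Perm.extendDomainHom e.toEquivRange τ = (σ : Perm (Fin (2 + m))) := by
    refine Equiv.ext fun i => ?_
    by_cases hi : i ∈ Set.range e
    · obtain ⟨x, rfl⟩ := hi
      refine (Perm.extendDomain_apply_image _ e.toEquivRange x).trans ?_
      show ((e.toEquivRange (τ x) : Set.range e) : Fin (2 + m)) = _
      simp [τ]
    · refine (Perm.extendDomain_apply_not_subtype _ _ hi).trans (hlow i ?_).symm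
      by_contra hc
      exact hi ⟨⟨i - 2, by omega⟩, Fin.ext (by simp [e]; omega)⟩
  have hsign : Perm.sign τ = 1 := by
    rw [← Perm.mem_alternatingGroup.1 σ.2, ← hτ]
    exact (Perm.sign_extendDomain _ _).symm
  exact ⟨⟨τ, Perm.mem_alternatingGroup.2 hsign⟩, trivial, Subtype.ext hτ⟩

/-- The pair piece of the block is generated by two elements. -/
theorem exists_W_gens {F : Type*} [Field F] [Fintype F] {q : ℕ} (hF : Fintype.card F = q ^ 2) :
    ∃ a b : Cfsg.SU 3 F q, a ∈ W F q ∧ b ∈ W F q ∧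
      ∀ u ∈ W F q, u ∈ Subgroup.closure ({a, b} : Set (Cfsg.SU 3 F q)) := by
  obtain ⟨e⟩ := su_two_equiv hF
  letI := Fintype.ofFinite (fixedField hF)
  obtain ⟨x, y, hxy⟩ := CfsgLib.SpPres.SL2_two_gen (F := fixedField hF)
  let hom : Matrix.SpecialLinearGroup (Fin 2) (fixedField hF) →* Cfsg.SU 3 F q :=
    (emb (pairEmb (0 : Fin 3) 1 (by decide))).comp e.symm.toMonoidHom
  have hmem : ∀ z, hom z ∈ W F q := fun z => emb_mem_Sp _ _ fun i => by fin_cases i <;> simp
  refine ⟨hom x, hom y, hmem x, hmem y, fun u hu => ?_⟩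
  obtain ⟨a, ha⟩ := exists_emb_eq hF (pairEmb (0 : Fin 3) 1 (by decide)) (S := {0, 1})
    (fun i hi => by rw [range_pairEmb]; simpa using hi) hu
  rw [← Set.image_pair, ← MonoidHom.map_closure, hxy]
  exact ⟨e a, trivial, by simp [hom, ha]⟩

end CfsgLib.SUnPres
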