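import Cfsg.Agent.Lib.SUnPres.Iso
import Cfsg.Agent.Lib.SUnPres.Block

/-!
Gluing a block on three coordinates with the even permutations: the frame.
-/

set_option autoImplicit false
set_option linter.unusedSectionVars false

namespace CfsgLib.SUnPres

open CfsgLib.Classical.Herm
open Finset Equiv

attribute [-simp] qPow_apply

/-- Data and relations gluing `SU₃` and the alternating group over `SU_n`. -/
structure Glue (G : Type*) [Group G] (F : Type*) [Field F] [Fintype F] (q n : ℕ) (hn : 4 ≤ n) where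
  φ : G →* Cfsg.SU n F q
  ψ : Cfsg.SU 3 F q →* G
  R : alternatingGroup (Fin n) →* G
  hψ : ∀ a, φ (ψ a) = blk hn a
  hR : ∀ π, φ (R π) = permSU π
  gen : ⊤ ≤ Subgroup.closure (Set.range ψ ∪ Set.range R)
  r1 : R (cN hn) = ψ (C3 F q)
  stab : ∀ σ : alternatingGroup (Fin n), (σ : Perm (Fin n)) (cd hn 0) = cd hn 0 →
    (σ : Perm (Fin n)) (cd hn 1) = cd hn 1 → ∀ u ∈ W F q, Commute (R σ) (ψ u)
  r4 : ∀ u ∈ W F q, ∃ u' ∈ W F q, R (eN hn) * ψ u * (R (eN hn))⁻¹ = ψ u'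
  disj : ∀ u ∈ W F q, ∀ u' ∈ W F q, Commute (ψ u) (R (kN hn) * ψ u' * (R (kN hn))⁻¹)
  vstab₂ : q = 2 → ∀ σ : alternatingGroup (Fin n), (∀ i : Fin 3, (σ : Perm (Fin n)) (f3 hn i) = f3 hn i) →
    ∀ v, Commute (R σ) (ψ v)
  uv₂ : q = 2 → ∀ π : alternatingGroup (Fin n),
    (∀ i : Fin 3, (π : Perm (Fin n)) (f3 hn i) ≠ cd hn 0 ∧ (π : Perm (Fin n)) (f3 hn i) ≠ cd hn 1) →
    ∀ u ∈ W F q, ∀ v, Commute (ψ u) (R π * ψ v * (R π)⁻¹)
  vv₂ : q = 2 → ∀ π : alternatingGroup (Fin n),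
    (∀ i j : Fin 3, (π : Perm (Fin n)) (f3 hn i) ≠ f3 hn j) →
    ∀ v v', Commute (ψ v) (R π * ψ v' * (R π)⁻¹)

namespace Glue

variable {G : Type*} [Group G] {F : Type*} [Field F] [Fintype F] {q n : ℕ} {hn : 4 ≤ n}
  (Γ : Glue G F q n hn) (hF : Fintype.card F = q ^ 2)

/-- Conjugation by a permutation. -/
def cj (π : alternatingGroup (Fin n)) : G →* G := (MulAut.conj (Γ.R π)).toMonoidHom

theorem cj_apply (π : alternatingGroup (Fin n)) (x : G) : Γ.cj π x = Γ.R π * x * (Γ.R π)⁻¹ := rfl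

theorem cj_mul (π ρ : alternatingGroup (Fin n)) (x : G) : Γ.cj (π * ρ) x = Γ.cj π (Γ.cj ρ x) := by
  simp only [cj_apply, map_mul]; group

theorem cj_one (x : G) : Γ.cj 1 x = x := by simp [cj_apply]

theorem commute_cj_iff (π : alternatingGroup (Fin n)) {x y : G} :
    Commute (Γ.cj π x) (Γ.cj π y) ↔ Commute x y :=
  ⟨fun h => (MulAut.conj (Γ.R π)).injective ((map_mul (Γ.cj π) x y).trans (h.eq.trans (map_mul (Γ.cj π) y x).symm)),
    fun h => h.map _⟩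

theorem cj_of_commute {π : alternatingGroup (Fin n)} {x : G} (h : Commute (Γ.R π) x) : Γ.cj π x = x := by
  rw [cj_apply, h.eq, mul_inv_cancel_right]

theorem cj_stab {σ : alternatingGroup (Fin n)} (h0 : (σ : Perm (Fin n)) (cd hn 0) = cd hn 0)
    (h1 : (σ : Perm (Fin n)) (cd hn 1) = cd hn 1) {u : Cfsg.SU 3 F q} (hu : u ∈ W F q) :
    Γ.cj σ (Γ.ψ u) = Γ.ψ u := Γ.cj_of_commute (Γ.stab σ h0 h1 u hu)

theorem cj_congr {π ρ : alternatingGroup (Fin n)}
    (h0 : (π : Perm (Fin n)) (cd hn 0) = (ρ : Perm (Fin n)) (cd hn 0))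
    (h1 : (π : Perm (Fin n)) (cd hn 1) = (ρ : Perm (Fin n)) (cd hn 1)) {u : Cfsg.SU 3 F q}
    (hu : u ∈ W F q) : Γ.cj π (Γ.ψ u) = Γ.cj ρ (Γ.ψ u) := by
  have e : π = ρ * (ρ⁻¹ * π) := by group
  rw [e, cj_mul, Γ.cj_stab ?_ ?_ hu] <;>
    simp [h0, h1, Subgroup.coe_mul, Subgroup.coe_inv]

theorem cj_setwise {σ : alternatingGroup (Fin n)}
    (h0 : (σ : Perm (Fin n)) (cd hn 0) = cd hn 0 ∨ (σ : Perm (Fin n)) (cd hn 0) = cd hn 1)
    (h1 : (σ : Perm (Fin n)) (cd hn 1) = cd hn 0 ∨ (σ : Perm (Fin n)) (cd hn 1) = cd hn 1)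
    {u : Cfsg.SU 3 F q} (hu : u ∈ W F q) : ∃ u' ∈ W F q, Γ.cj σ (Γ.ψ u) = Γ.ψ u' := by
  have h01 : cd hn (0 : Fin 4) ≠ cd hn 1 := cd_ne hn (by decide)
  rcases h0 with h0 | h0
  · rcases h1 with h1 | h1
    · exact absurd ((σ : Perm (Fin n)).injective (h1.trans h0.symm)).symm h01
    · exact ⟨u, hu, Γ.cj_stab h0 h1 hu⟩
  · rcases h1 with h1 | h1
    · obtain ⟨u', hu', he⟩ := Γ.r4 u hu
      exact ⟨u', hu', (Γ.cj_congr (ρ := eN hn) (by rw [h0, eN_0]) (by rw [h1, eN_1]) hu).trans he⟩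
    · exact absurd ((σ : Perm (Fin n)).injective (h1.trans h0.symm)).symm h01

/-- Two disjoint pairs. -/
theorem uu {π : alternatingGroup (Fin n)}
    (h00 : (π : Perm (Fin n)) (cd hn 0) ≠ cd hn 0) (h01 : (π : Perm (Fin n)) (cd hn 0) ≠ cd hn 1)
    (h10 : (π : Perm (Fin n)) (cd hn 1) ≠ cd hn 0) (h11 : (π : Perm (Fin n)) (cd hn 1) ≠ cd hn 1)
    {u u' : Cfsg.SU 3 F q} (hu : u ∈ W F q) (hu' : u' ∈ W F q) :
    Commute (Γ.ψ u) (Γ.cj π (Γ.ψ u')) := by
  set c := (π : Perm (Fin n)) (cd hn 0) with hc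
  set d := (π : Perm (Fin n)) (cd hn 1) with hd
  have hcd : c ≠ d := (π : Perm (Fin n)).injective.ne (cd_ne hn (by decide))
  set t1 := swap (cd hn 2) c with ht1
  have e0 : t1 (cd hn 0) = cd hn 0 := swap_apply_of_ne_of_ne (cd_ne hn (by decide)) (Ne.symm h00)
  have e1 : t1 (cd hn 1) = cd hn 1 := swap_apply_of_ne_of_ne (cd_ne hn (by decide)) (Ne.symm h01)
  have e2 : t1 (cd hn 2) = c := swap_apply_left _ _
  set τ := swap (t1 (cd hn 3)) d * t1 with hτ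
  have n30 : t1 (cd hn 3) ≠ cd hn 0 := fun e =>
    cd_ne hn (show (3 : Fin 4) ≠ 0 by decide) (t1.injective (e.trans e0.symm))
  have n31 : t1 (cd hn 3) ≠ cd hn 1 := fun e =>
    cd_ne hn (show (3 : Fin 4) ≠ 1 by decide) (t1.injective (e.trans e1.symm))
  have n32 : t1 (cd hn 3) ≠ c := fun e =>
    cd_ne hn (show (3 : Fin 4) ≠ 2 by decide) (t1.injective (e.trans e2.symm))
  have t0 : τ (cd hn 0) = cd hn 0 := by
    rw [hτ, Perm.mul_apply, e0]; exact swap_apply_of_ne_of_ne (Ne.symm n30) (Ne.symm h10)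
  have t1' : τ (cd hn 1) = cd hn 1 := by
    rw [hτ, Perm.mul_apply, e1]; exact swap_apply_of_ne_of_ne (Ne.symm n31) (Ne.symm h11)
  have t2 : τ (cd hn 2) = c := by
    rw [hτ, Perm.mul_apply, e2]; exact swap_apply_of_ne_of_ne (Ne.symm n32) hcd
  have t3 : τ (cd hn 3) = d := by rw [hτ, Perm.mul_apply]; exact swap_apply_left _ _
  obtain ⟨σ, hσ⟩ := exists_even_map τ (cd_ne hn (show (0 : Fin 4) ≠ 1 by decide))
  have hset : ∀ i : Fin n, i = cd hn 0 ∨ i = cd hn 1 →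
      (σ : Perm (Fin n)) i = cd hn 0 ∨ (σ : Perm (Fin n)) i = cd hn 1 := by
    intro i hi
    by_contra hcon
    push Not at hcon
    obtain ⟨o, ho⟩ : ∃ o, (σ : Perm (Fin n)) i = τ o := ⟨τ.symm _, (Equiv.apply_symm_apply _ _).symm⟩
    by_cases h0 : o = cd hn 0
    · exact hcon.1 (by rw [ho, h0, t0])
    by_cases h1 : o = cd hn 1
    · exact hcon.2 (by rw [ho, h1, t1'])
    rw [← hσ o h0 h1] at ho
    have := (σ : Perm (Fin n)).injective ho
    subst this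
    rcases hi with hi | hi
    · exact h0 hi
    · exact h1 hi
  have s2 : (σ : Perm (Fin n)) (cd hn 2) = c := by
    rw [hσ _ (cd_ne hn (by decide)) (cd_ne hn (by decide)), t2]
  have s3 : (σ : Perm (Fin n)) (cd hn 3) = d := by
    rw [hσ _ (cd_ne hn (by decide)) (cd_ne hn (by decide)), t3]
  have hinv : ∀ i : Fin n, i = cd hn 0 ∨ i = cd hn 1 →
      (σ⁻¹ : alternatingGroup (Fin n)).1 i = cd hn 0 ∨ (σ⁻¹ : alternatingGroup (Fin n)).1 i = cd hn 1 := by
    intro i hi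
    rw [Subgroup.coe_inv, Perm.inv_def]
    rcases hset (cd hn 0) (Or.inl rfl) with h | h <;> rcases hset (cd hn 1) (Or.inr rfl) with h' | h'
    · exact absurd ((σ : Perm (Fin n)).injective (h.trans h'.symm)) (cd_ne hn (by decide))
    · rcases hi with rfl | rfl
      · exact Or.inl ((Equiv.symm_apply_eq _).2 h.symm)
      · exact Or.inr ((Equiv.symm_apply_eq _).2 h'.symm)
    · rcases hi with rfl | rfl
      · exact Or.inr ((Equiv.symm_apply_eq _).2 h'.symm)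
      · exact Or.inl ((Equiv.symm_apply_eq _).2 h.symm)
    · exact absurd ((σ : Perm (Fin n)).injective (h.trans h'.symm)) (cd_ne hn (by decide))
  obtain ⟨v, hv, hve⟩ := Γ.cj_setwise (hinv _ (Or.inl rfl)) (hinv _ (Or.inr rfl)) hu
  have hu2 : Γ.ψ u = Γ.cj σ (Γ.ψ v) := by rw [← hve, ← cj_mul, mul_inv_cancel, cj_one]
  have hπ : Γ.cj π (Γ.ψ u') = Γ.cj σ (Γ.cj (kN hn) (Γ.ψ u')) := by
    rw [← cj_mul]
    refine Γ.cj_congr ?_ ?_ hu'
    · rw [Subgroup.coe_mul, Perm.mul_apply, kN_0, s2]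
    · rw [Subgroup.coe_mul, Perm.mul_apply, kN_1, s3]
  rw [hu2, hπ]
  exact (Γ.commute_cj_iff σ).2 (Γ.disj v hv u' hu')

include hF in
theorem block_induction (h2 : q ≠ 2) (P : Cfsg.SU 3 F q → Prop) (h1 : P 1)
    (hmul : ∀ a b, P a → P b → P (a * b)) (hinv : ∀ a, P a → P a⁻¹) (hW : ∀ u ∈ W F q, P u)
    (hC : ∀ u ∈ W F q, P (C3 F q * u * (C3 F q)⁻¹)) (v : Cfsg.SU 3 F q) : P v := by
  let S : Subgroup (Cfsg.SU 3 F q) :=
    { carrier := {a | P a}
      one_mem' := h1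
      mul_mem' := fun {a b} ha hb => hmul a b ha hb
      inv_mem' := fun {a} ha => hinv a ha }
  have hle : Subgroup.closure ((W F q : Set (Cfsg.SU 3 F q)) ∪
      (fun u => C3 F q * u * (C3 F q)⁻¹) '' (W F q : Set (Cfsg.SU 3 F q))) ≤ S := by
    rw [Subgroup.closure_le]
    rintro a (ha | ⟨u, hu, rfl⟩)
    · exact hW a ha
    · exact hC u hu
  exact hle (block_gen hF h2 ▸ Subgroup.mem_top v)

theorem psi_conj_C3 (u : Cfsg.SU 3 F q) : Γ.ψ (C3 F q * u * (C3 F q)⁻¹) = Γ.cj (cN hn) (Γ.ψ u) := by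
  rw [cj_apply, Γ.r1, map_mul, map_mul, map_inv]

include hF in
theorem vstab (σ : alternatingGroup (Fin n)) (hσ : ∀ i : Fin 3, (σ : Perm (Fin n)) (f3 hn i) = f3 hn i)
    (v : Cfsg.SU 3 F q) : Commute (Γ.R σ) (Γ.ψ v) := by
  by_cases h2 : q = 2
  · exact Γ.vstab₂ h2 σ hσ v
  refine block_induction hF h2 (fun v => Commute (Γ.R σ) (Γ.ψ v)) ?_ ?_ ?_ ?_ ?_ v
  · simpa using Commute.one_right _
  · intro a b ha hb; rw [map_mul]; exact ha.mul_right hb
  · intro a ha; rw [map_inv]; exact ha.inv_right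
  · exact fun u hu => Γ.stab σ (hσ 0) (hσ 1) u hu
  · intro u hu
    have hfix := Γ.stab ((cN hn)⁻¹ * σ * cN hn) ?_ ?_ u hu
    · have := hfix.map (Γ.cj (cN hn))
      rwa [cj_apply, ← map_inv, ← map_mul, ← map_mul,
        show cN hn * ((cN hn)⁻¹ * σ * cN hn) * (cN hn)⁻¹ = σ by group, ← psi_conj_C3] at this
    · simp only [Subgroup.coe_mul, Subgroup.coe_inv, Perm.mul_apply, cN_0]
      rw [← f3_1 hn, hσ, f3_1, Perm.inv_def, Equiv.symm_apply_eq, cN_0]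
    · simp only [Subgroup.coe_mul, Subgroup.coe_inv, Perm.mul_apply, cN_1]
      rw [← f3_2 hn, hσ, f3_2, Perm.inv_def, Equiv.symm_apply_eq, cN_1]

include hF in
theorem uv {π : alternatingGroup (Fin n)}
    (h : ∀ i : Fin 3, (π : Perm (Fin n)) (f3 hn i) ≠ cd hn 0 ∧ (π : Perm (Fin n)) (f3 hn i) ≠ cd hn 1)
    {u : Cfsg.SU 3 F q} (hu : u ∈ W F q) (v : Cfsg.SU 3 F q) : Commute (Γ.ψ u) (Γ.cj π (Γ.ψ v)) := by
  by_cases h2 : q = 2
  · exact Γ.uv₂ h2 π h u hu v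
  refine block_induction hF h2 (fun v => Commute (Γ.ψ u) (Γ.cj π (Γ.ψ v))) ?_ ?_ ?_ ?_ ?_ v
  · simpa using Commute.one_right _
  · intro a b ha hb; rw [map_mul, map_mul]; exact ha.mul_right hb
  · intro a ha; rw [map_inv, map_inv]; exact ha.inv_right
  · exact fun u' hu' => Γ.uu (h 0).1 (h 0).2 (h 1).1 (h 1).2 hu hu'
  · intro u' hu'
    rw [psi_conj_C3, ← cj_mul]
    refine Γ.uu ?_ ?_ ?_ ?_ hu hu' <;> simp only [Subgroup.coe_mul, Perm.mul_apply, cN_0, cN_1]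
    · exact (h 1).1
    · exact (h 1).2
    · exact (h 2).1
    · exact (h 2).2

include hF in
theorem vv {π : alternatingGroup (Fin n)}
    (h : ∀ i j : Fin 3, (π : Perm (Fin n)) (f3 hn i) ≠ f3 hn j) (v v' : Cfsg.SU 3 F q) :
    Commute (Γ.ψ v) (Γ.cj π (Γ.ψ v')) := by
  by_cases h2 : q = 2
  · exact Γ.vv₂ h2 π h v v'
  refine block_induction hF h2 (fun v => Commute (Γ.ψ v) (Γ.cj π (Γ.ψ v'))) ?_ ?_ ?_ ?_ ?_ v
  · simpa using Commute.one_left _
  · intro a b ha hb; rw [map_mul]; exact ha.mul_left hb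
  · intro a ha; rw [map_inv]; exact ha.inv_left
  · exact fun u hu => Γ.uv hF (fun i => ⟨h i 0, h i 1⟩) hu v'
  · intro u hu
    rw [psi_conj_C3]
    have hc := Γ.uv hF (π := (cN hn)⁻¹ * π) (fun i => ?_) hu v'
    · have := hc.map (Γ.cj (cN hn))
      rwa [← cj_mul, mul_inv_cancel_left] at this
    · simp only [Subgroup.coe_mul, Subgroup.coe_inv, Perm.mul_apply]
      exact ⟨fun e => h i 1 (by rw [f3_1, ← cN_0 hn, ← e, Perm.inv_def, Equiv.apply_symm_apply]),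
        fun e => h i 2 (by rw [f3_2, ← cN_1 hn, ← e, Perm.inv_def, Equiv.apply_symm_apply])⟩

/-- The conjugates of the pair piece inside a set. -/
def genU (S : Finset (Fin n)) : Set G :=
  {x | ∃ π : alternatingGroup (Fin n), (π : Perm (Fin n)) (cd hn 0) ∈ S ∧
    (π : Perm (Fin n)) (cd hn 1) ∈ S ∧ ∃ u ∈ W F q, x = Γ.cj π (Γ.ψ u)}

/-- The conjugates of the block inside a set. -/
def genV (S : Finset (Fin n)) : Set G :=
  {x | ∃ π : alternatingGroup (Fin n), (∀ i : Fin 3, (π : Perm (Fin n)) (f3 hn i) ∈ S) ∧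
    ∃ v, x = Γ.cj π (Γ.ψ v)}

/-- The pieces. -/
def L (S : Finset (Fin n)) : Subgroup G := Subgroup.closure (Γ.genU S ∪ Γ.genV S)

theorem genU_mono {S T : Finset (Fin n)} (h : S ⊆ T) : Γ.genU S ⊆ Γ.genU T := by
  rintro x ⟨π, h0, h1, hx⟩
  exact ⟨π, h h0, h h1, hx⟩

theorem L_mono {S T : Finset (Fin n)} (h : S ⊆ T) : Γ.L S ≤ Γ.L T := by
  refine Subgroup.closure_mono (Set.union_subset_union (Γ.genU_mono h) ?_)
  rintro x ⟨π, hπ, hx⟩
  exact ⟨π, fun i => h (hπ i), hx⟩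

theorem L_conj (π : alternatingGroup (Fin n)) {S : Finset (Fin n)} {x : G} (hx : x ∈ Γ.L S) :
    Γ.cj π x ∈ Γ.L (S.map (π : Perm (Fin n)).toEmbedding) := by
  refine (Subgroup.closure_le ((Γ.L (S.map (π : Perm (Fin n)).toEmbedding)).comap (Γ.cj π))).2 ?_ hx
  rintro y (⟨ρ, h0, h1, u, hu, rfl⟩ | ⟨ρ, hρ, v, rfl⟩)
  · exact Subgroup.subset_closure (Or.inl ⟨π * ρ, Finset.mem_map_of_mem _ h0, Finset.mem_map_of_mem _ h1,
      u, hu, (Γ.cj_mul π ρ _).symm⟩)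
  · exact Subgroup.subset_closure (Or.inr ⟨π * ρ, fun i => Finset.mem_map_of_mem _ (hρ i), v,
      (Γ.cj_mul π ρ _).symm⟩)

theorem phi_cj (π : alternatingGroup (Fin n)) (a : Cfsg.SU 3 F q) :
    Γ.φ (Γ.cj π (Γ.ψ a)) = permSU π * blk hn a * (permSU π)⁻¹ := by
  rw [cj_apply, map_mul, map_mul, map_inv, Γ.hR, Γ.hψ]

theorem L_supp {S : Finset (Fin n)} {x : G} (hx : x ∈ Γ.L S) : Γ.φ x ∈ Sp S := by
  refine (Subgroup.closure_le ((Sp S).comap Γ.φ)).2 ?_ hx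
  rintro y (⟨ρ, h0, h1, u, hu, rfl⟩ | ⟨ρ, hρ, v, rfl⟩)
  · rw [SetLike.mem_coe, Subgroup.mem_comap, phi_cj]
    refine Sp_mono ?_ (conj_perm_Sp (blk_W_mem_Sp hn hu))
    simp [Finset.insert_subset_iff, h0, h1]
  · rw [SetLike.mem_coe, Subgroup.mem_comap, phi_cj]
    refine Sp_mono ?_ (conj_perm_Sp (blk_mem_Sp hn v))
    have a0 := hρ 0
    have a1 := hρ 1
    have a2 := hρ 2
    rw [f3_0] at a0
    rw [f3_1] at a1
    rw [f3_2] at a2
    simp [Finset.insert_subset_iff, a0, a1, a2]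

theorem L_Rmem (π : alternatingGroup (Fin n)) (S : Finset (Fin n))
    (hπ : ∀ o ∉ S, (π : Perm (Fin n)) o = o) : Γ.R π ∈ Γ.L S := by
  refine alt_induction ((Γ.L S).comap Γ.R) (fun a b c hab hbc hac ha hb hc => ?_) π hπ
  obtain ⟨ρ, hρ, h0, h1, h2⟩ := exists_conj_cN hn hab hbc hac
  have hsub : ({a, b, c} : Finset (Fin n)) ⊆ S := by simp [Finset.insert_subset_iff, ha, hb, hc]
  have hm : Γ.R (ρ * cN hn * ρ⁻¹) ∈ Γ.L S := by
    rw [map_mul, map_mul, map_inv, Γ.r1]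
    refine Subgroup.subset_closure (Or.inr ⟨ρ, fun i => hsub ?_, C3 F q, rfl⟩)
    fin_cases i
    · exact h0
    · exact h1
    · exact h2
  rw [Subgroup.mem_comap]
  rcases hρ with hρ | hρ
  · rwa [hρ]
  · rw [← inv_inv (tri a b c hab hbc), hρ, map_inv]
    exact inv_mem hm

include hF in
theorem L_le_genU (h2 : q ≠ 2) (S : Finset (Fin n)) : Γ.L S ≤ Subgroup.closure (Γ.genU S) := by
  rw [L, Subgroup.closure_le]
  rintro x (hx | ⟨π, hπ, v, rfl⟩)
  · exact Subgroup.subset_closure hx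
  refine block_induction hF h2 (fun v => Γ.cj π (Γ.ψ v) ∈ Subgroup.closure (Γ.genU S)) ?_ ?_ ?_ ?_ ?_ v
  · simp
  · intro a b ha hb; rw [map_mul, map_mul]; exact mul_mem ha hb
  · intro a ha; rw [map_inv, map_inv]; exact inv_mem ha
  · exact fun u hu => Subgroup.subset_closure ⟨π, hπ 0, hπ 1, u, hu, rfl⟩
  · intro u hu
    rw [psi_conj_C3, ← cj_mul]
    refine Subgroup.subset_closure ⟨π * cN hn, ?_, ?_, u, hu, rfl⟩ <;>
      simp only [Subgroup.coe_mul, Perm.mul_apply, cN_0, cN_1]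
    · exact hπ 1
    · exact hπ 2

include hF in
theorem L_lift (S : Finset (Fin n)) {g : Cfsg.SU n F q} (hg : g ∈ Sp S) :
    ∃ x ∈ Γ.L S, Γ.φ x = g := by
  classical
  have hG : Gen ((Γ.L S).map Γ.φ) S := by
    constructor
    · intro P hP hc g hg
      obtain ⟨a, b, hab, rfl⟩ := Finset.card_eq_two.1 hc
      obtain ⟨π, h0, h1⟩ := exists_even_pair hn hab
      have hu : (permSU π : Cfsg.SU n F q)⁻¹ * g * permSU π ∈ Sp ({cd hn 0, cd hn 1} : Finset (Fin n)) := by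
        intro o ho
        rw [act_mul, act_mul, act_permSU_ev, hg _ ?_, ← act_permSU_ev π o, act_inv_act]
        simp only [Finset.mem_insert, Finset.mem_singleton, not_or] at ho ⊢
        exact ⟨fun e => ho.1 ((π : Perm (Fin n)).injective (e.trans h0.symm)),
          fun e => ho.2 ((π : Perm (Fin n)).injective (e.trans h1.symm))⟩
      obtain ⟨u, hu', he⟩ := exists_W_of_mem hF hn hu
      refine ⟨Γ.cj π (Γ.ψ u), Subgroup.subset_closure (Or.inl ⟨π, ?_, ?_, u, hu', rfl⟩), ?_⟩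
      · rw [h0]; exact hP (by simp)
      · rw [h1]; exact hP (by simp)
      · rw [phi_cj, he]; group
    · intro hq T hT hc g hg
      obtain ⟨a, b, c, hab, hac, hbc, rfl⟩ := Finset.card_eq_three.1 hc
      obtain ⟨π, -, h0, h1, h2⟩ := exists_conj_cN hn hab hbc hac
      have hmem : ∀ i : Fin 3, (π : Perm (Fin n)) (f3 hn i) ∈ ({a, b, c} : Finset (Fin n)) := by
        intro i; fin_cases i
        · exact h0
        · exact h1
        · exact h2
      have him : (univ.map (f3 hn)).map (π : Perm (Fin n)).toEmbedding = ({a, b, c} : Finset (Fin n)) := by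
        refine Finset.eq_of_subset_of_card_le (fun x hx => ?_) (by rw [hc]; simp)
        simp only [Finset.mem_map, Finset.mem_univ, true_and] at hx
        obtain ⟨_, ⟨i, rfl⟩, rfl⟩ := hx
        exact hmem i
      obtain ⟨v, hv⟩ := exists_emb_eq hF (f3 hn) (S := univ.map (f3 hn)) (fun i hi => by simpa using hi)
        (g := (permSU π : Cfsg.SU n F q)⁻¹ * g * permSU π) fun o ho => by
          rw [act_mul, act_mul, act_permSU_ev, hg _ ?_, ← act_permSU_ev π o, act_inv_act]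
          rw [← him]
          intro hmm
          rw [show (π : Perm (Fin n)) o = (π : Perm (Fin n)).toEmbedding o from rfl, Finset.mem_map'] at hmm
          exact ho hmm
      refine ⟨Γ.cj π (Γ.ψ v), Subgroup.subset_closure (Or.inr ⟨π, fun i => hT (hmem i), v, rfl⟩), ?_⟩
      rw [phi_cj, blk, hv]; group
  exact Sp_le hF hG hg

include hF in
theorem L_comm {S T : Finset (Fin n)} (hST : Disjoint S T) {x y : G} (hx : x ∈ Γ.L S) (hy : y ∈ Γ.L T) :
    Commute x y := by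
  have key : ∀ a ∈ Γ.genU S ∪ Γ.genV S, ∀ b ∈ Γ.genU T ∪ Γ.genV T, Commute a b := by
    have hne : ∀ {i j : Fin n}, i ∈ S → j ∈ T → i ≠ j := fun hi hj e =>
      Finset.disjoint_left.1 hST hi (e ▸ hj)
    have hrw : ∀ (π ρ : alternatingGroup (Fin n)) (z : G), Γ.cj ρ z = Γ.cj π (Γ.cj (π⁻¹ * ρ) z) := by
      intro π ρ z; rw [← cj_mul, mul_inv_cancel_left]
    have hmv : ∀ {π ρ : alternatingGroup (Fin n)} {i j : Fin n}, (π : Perm (Fin n)) i ∈ S →
        (ρ : Perm (Fin n)) j ∈ T → (π⁻¹ * ρ : alternatingGroup (Fin n)).1 j ≠ i := by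
      intro π ρ i j hi hj e
      refine hne hi hj ?_
      rw [← e]
      simp [Subgroup.coe_mul, Subgroup.coe_inv]
    rintro a (⟨π, p0, p1, u, hu, rfl⟩ | ⟨π, hp, v, rfl⟩) b (⟨ρ, r0, r1, u', hu', rfl⟩ | ⟨ρ, hr, v', rfl⟩)
    · rw [hrw π ρ, Γ.commute_cj_iff]
      exact Γ.uu (hmv p0 r0) (hmv p1 r0) (hmv p0 r1) (hmv p1 r1) hu hu'
    · rw [hrw π ρ, Γ.commute_cj_iff]
      exact Γ.uv hF (fun i => ⟨hmv p0 (hr i), hmv p1 (hr i)⟩) hu v'
    · rw [hrw ρ π, Γ.commute_cj_iff]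
      refine (Γ.uv hF (π := ρ⁻¹ * π) (fun i => ?_) hu' v).symm
      have key2 : ∀ {j : Fin n}, (ρ : Perm (Fin n)) j ∈ T → (ρ⁻¹ * π : alternatingGroup (Fin n)).1 (f3 hn i) ≠ j := by
        intro j hj e
        refine hne (hp i) hj ?_
        rw [← e]
        simp [Subgroup.coe_mul, Subgroup.coe_inv]
      exact ⟨key2 r0, key2 r1⟩
    · rw [hrw π ρ, Γ.commute_cj_iff]
      exact Γ.vv hF (fun i j => hmv (hp j) (hr i)) v v'
  have h1 : ∀ a ∈ Γ.genU S ∪ Γ.genV S, Commute a y := fun a ha =>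
    (Subgroup.closure_le (Subgroup.centralizer {a})).2 (fun b hb => Subgroup.mem_centralizer_singleton_iff.2
      (key a ha b hb).eq.symm) hy |> fun h => (Subgroup.mem_centralizer_singleton_iff.1 h).symm
  exact ((Subgroup.closure_le (Subgroup.centralizer {y})).2 (fun a ha =>
    Subgroup.mem_centralizer_singleton_iff.2 (h1 a ha).eq) hx |> fun h =>
      Subgroup.mem_centralizer_singleton_iff.1 h)

include hF in
theorem L_gen : ⊤ ≤ Subgroup.closure
    {x : G | ∃ S : Finset (Fin n), (S.card = 2 ∨ (S.card = 3 ∧ q = 2)) ∧ x ∈ Γ.L S} := by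
  set E := Subgroup.closure
    {x : G | ∃ S : Finset (Fin n), (S.card = 2 ∨ (S.card = 3 ∧ q = 2)) ∧ x ∈ Γ.L S}
  have hU : Γ.genU univ ⊆ (E : Set G) := by
    rintro x ⟨π, -, -, u, hu, rfl⟩
    refine Subgroup.subset_closure ⟨{(π : Perm (Fin n)) (cd hn 0), (π : Perm (Fin n)) (cd hn 1)},
      Or.inl (Finset.card_pair ((π : Perm (Fin n)).injective.ne (cd_ne hn (by decide)))),
      Subgroup.subset_closure (Or.inl ⟨π, by simp, by simp, u, hu, rfl⟩)⟩
  have hL : Γ.L univ ≤ E := by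
    by_cases h2 : q = 2
    · rw [L, Subgroup.closure_le]
      rintro x (hx | ⟨π, hπ, v, rfl⟩)
      · exact hU hx
      refine Subgroup.subset_closure ⟨(univ.map (f3 hn)).map (π : Perm (Fin n)).toEmbedding,
        Or.inr ⟨by simp, h2⟩, Subgroup.subset_closure (Or.inr ⟨π, fun i => ?_, v, rfl⟩)⟩
      simp
    · exact le_trans (Γ.L_le_genU hF h2 univ) ((Subgroup.closure_le E).2 hU)
  refine le_trans Γ.gen ((Subgroup.closure_le E).2 (Set.union_subset ?_ ?_))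
  · rintro x ⟨v, rfl⟩
    exact hL (Subgroup.subset_closure (Or.inr ⟨1, fun i => mem_univ _, v, (Γ.cj_one _).symm⟩))
  · rintro x ⟨π, rfl⟩
    exact hL (Γ.L_Rmem π univ fun (o : Fin n) (ho : o ∉ univ) => absurd (mem_univ o) ho)

/-- The last coordinate. -/
def last {m : ℕ} (h : 4 ≤ m) : Fin m :=
  ⟨m - 1, Nat.sub_lt (Nat.lt_of_lt_of_le (Nat.succ_pos 3) h) Nat.one_pos⟩

include hF in
/-- The frame of a gluing whose piece off the last coordinate maps injectively. -/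
def frame (hsub : ∀ x ∈ Γ.L (univ.erase (last hn)), Γ.φ x = 1 → x = 1) : Frame G F q n where
  φ := Γ.φ
  L := Γ.L
  R := Γ.R
  mono := Γ.L_mono
  conj π {S x} hx := Γ.L_conj π hx
  hR := Γ.hR
  Rmem π S _ hπ := Γ.L_Rmem π S hπ
  supp {S x} hx := Γ.L_supp hx
  lift S _ _ g hg := Γ.L_lift hF S hg
  inj {S} hS {x} hx h := by
    obtain ⟨i, hi⟩ : ∃ i, i ∉ S := by
      by_contra hc
      push Not at hc
      exact hS (Finset.eq_univ_iff_forall.2 hc)
    obtain ⟨a, ha⟩ := exists_third hn {i, last hn} (lt_of_le_of_lt Finset.card_le_two (by omega))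
    obtain ⟨b, hb⟩ := exists_third hn {i, last hn, a} (lt_of_le_of_lt Finset.card_le_three (by omega))
    simp only [Finset.mem_insert, Finset.mem_singleton, not_or] at ha hb
    obtain ⟨π, hπ⟩ := exists_even_map (swap i (last hn)) (Ne.symm hb.2.2)
    have hπi : (π : Perm (Fin n)) i = last hn := by
      rw [hπ i (Ne.symm ha.1) (Ne.symm hb.1), swap_apply_left]
    have h1 := hsub (Γ.cj π x) (Γ.L_mono (fun j hj => ?_) (Γ.L_conj π hx))
      (by rw [cj_apply, map_mul, map_mul, map_inv, h, mul_one, mul_inv_cancel])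
    · exact (map_eq_one_iff (Γ.cj π) (MulAut.conj (Γ.R π)).injective).1 h1
    · simp only [Finset.mem_map, Equiv.coe_toEmbedding] at hj
      obtain ⟨k, hk, rfl⟩ := hj
      refine Finset.mem_erase.2 ⟨fun e => hi ?_, mem_univ _⟩
      rw [← hπi] at e
      rwa [← (π : Perm (Fin n)).injective e]
  comm {S T} hST _ _ {x y} hx hy := Γ.L_comm hF hST hx hy
  gen := Γ.L_gen hF

end Glue

end CfsgLib.SUnPres
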