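import Cfsg.Agent.Lib.SUnPres.Full

/-!
Four coordinates: isotropic triples, for fields of at least sixteen elements.
-/

set_option autoImplicit false
set_option linter.unusedSectionVars false

namespace CfsgLib.SUnPres

open CfsgLib.Classical.Herm
open Finset Equiv

namespace Frame

attribute [-simp] qPow_apply

variable {G : Type*} [Group G] {F : Type*} [Field F] [Fintype F] {q n : ℕ} (Φ : Frame G F q n)
  (hF : Fintype.card F = q ^ 2) (hn : 4 ≤ n)

/-- The non-trivial part of a vector with one distinguished coordinate. -/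
def cut (o : Fin n) (t : Fin n → F) : Fin n → F := t - t o • (ev o : Fin n → F)

theorem A_add (x : G) (u v : Fin n → F) : Φ.A x (u + v) = Φ.A x u + Φ.A x v := act_add _ _ _

theorem A_smul (x : G) (c : F) (v : Fin n → F) : Φ.A x (c • v) = c • Φ.A x v := act_smul _ _ _

theorem A_sub (x : G) (u v : Fin n → F) : Φ.A x (u - v) = Φ.A x u - Φ.A x v := by
  rw [eq_sub_iff_add_eq, ← A_add, sub_add_cancel]

theorem A_cut {S : Finset (Fin n)} {o : Fin n} (ho : o ∉ S) {y : G} (hy : y ∈ Φ.L S) {t : Fin n → F}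
    (ht : Φ.A y t = t) : Φ.A y (cut o t) = cut o t := by
  rw [cut, A_sub, A_smul, ht, Φ.A_eq_self hy (ev o) fun i hi =>
    Pi.single_eq_of_ne (ne_of_mem_of_not_mem hi ho) _]

include hF in
/-- An induction over the pieces on pairs. -/
theorem L_induction (h2 : q ≠ 2) {S : Finset (Fin n)} (hS : S ≠ univ) (E : Subgroup G)
    (h : ∀ P : Finset (Fin n), P ⊆ S → P.card = 2 → Φ.L P ≤ E) (hE : E ≤ Φ.L S) : Φ.L S = E := by
  refine le_antisymm (fun x hx => ?_) hE
  have hG : Gen (E.map Φ.φ) S := ⟨fun P hP hc g hg => by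
    obtain ⟨z, hz, hzg⟩ := Φ.lift P hc.ge (fun e => hS (Finset.univ_subset_iff.1 (e ▸ hP))) g hg
    exact ⟨z, h P hP hc hz, hzg⟩, fun hq => absurd hq h2⟩
  obtain ⟨e, he, hex⟩ := Sp_le hF hG (Φ.supp hx)
  rwa [← Φ.eq_of_image hS (hE he) hx hex]

section Quad

variable {i j k o : Fin n} (hij : i ≠ j) (hik : i ≠ k) (hjk : j ≠ k) (hio : i ≠ o) (hjo : j ≠ o)
  (hko : k ≠ o) (hall : ∀ x : Fin n, x = i ∨ x = j ∨ x = k ∨ x = o) {a : F} (ha : a ≠ 0) (ha1 : a ≠ 1)
  {t : Fin n → F} (hu : IsU1 (q := q) t) (hti : t i = 0) (htj : nm hF (t j) = a)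
  (htk : nm hF (t k) = -a)

include hF hn hij hik hjk hio hjo hko hall ha ha1 hu hti htj htk in
theorem composite {A B : F} (hAB : nm hF A + nm hF B = 1) (hB : B ≠ 0) (hA : A ≠ 0)
    (hA1 : a * nm hF A ≠ 1) {z : F} (hz : nm hF z = -a) :
    ∃ y ∈ Φ.L ({i, j, k} : Finset (Fin n)), Φ.Eqv hn y t ∧ Φ.A y t i = 0 ∧ Φ.A y t j = t j ∧
      Φ.A y t k = z ∧ Φ.A y t o = t o ∧
      (z = t k → Φ.A y (ev i) = ev i + (B / (qPow hF A * t j)) • cut o t) := by
  classical
  set σ := qPow hF with hσ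
  have hσσ : ∀ x, σ (σ x) = x := qPow_qPow hF
  have htj0 : t j ≠ 0 := fun e => ha (by rw [← htj, e, nm_zero])
  have htk0 : t k ≠ 0 := fun e => ha (by
    have h := htk; rw [e, nm_zero] at h; linear_combination h)
  have hsk : σ (t k) ≠ 0 := (map_ne_zero σ).2 htk0
  have hsA : σ A ≠ 0 := (map_ne_zero σ).2 hA
  have hnA : nm hF A ≠ 0 := nm_ne_zero hF hA
  have hsa : σ a = a := by rw [← htj]; exact nm_fixed hF _
  obtain ⟨K, hK⟩ : ∃ K, K = -(z * A * σ (t k)) / (a * nm hF A) := ⟨_, rfl⟩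
  obtain ⟨C, hC⟩ : ∃ C, C = σ K := ⟨_, rfl⟩
  obtain ⟨D, hD⟩ : ∃ D, D = -(K * B * σ (t j)) / σ (t k) := ⟨_, rfl⟩
  have hnK : nm hF K = 1 / nm hF A := by
    have hzA : nm hF (z * A * σ (t k)) = a * a * nm hF A := by
      rw [nm_mul, nm_mul, nm_conj, hz, htk]; ring
    have haA : nm hF (a * nm hF A) = a * a * (nm hF A * nm hF A) := by
      rw [nm_mul]
      simp only [nm, ← hσ, hsa, map_mul, hσσ]
      ring
    rw [hK, nm_div, nm_neg, hzA, haA]
    field_simp
  have hCD : nm hF C + nm hF D = 1 := by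
    rw [hC, hD, nm_conj, nm_div, nm_neg, nm_mul, nm_mul, nm_conj, nm_conj, htj, htk, hnK]
    field_simp
    linear_combination -hAB
  obtain ⟨z₁, hz₁, hz₁g⟩ := Φ.lift _ (Finset.card_pair hij).ge (ne_univ_of_card (by
    rw [Finset.card_pair hij]; omega)) _ (two_mem hF hij hAB)
  obtain ⟨z₂, hz₂, hz₂g⟩ := Φ.lift _ (Finset.card_pair hik).ge (ne_univ_of_card (by
    rw [Finset.card_pair hik]; omega)) _ (two_mem hF hik hCD)
  have z1i : ∀ v : Fin n → F, Φ.A z₁ v i = A * v i - σ B * v j := fun v => by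
    rw [Frame.A, hz₁g]; exact act_two_fst hF hij hAB v
  have z1j : ∀ v : Fin n → F, Φ.A z₁ v j = B * v i + σ A * v j := fun v => by
    rw [Frame.A, hz₁g]; exact act_two_snd hF hij hAB v
  have z1k : ∀ v : Fin n → F, Φ.A z₁ v k = v k := fun v =>
    Φ.A_apply_notMem hF hz₁ v (by simp [hik.symm, hjk.symm])
  have z1o : ∀ v : Fin n → F, Φ.A z₁ v o = v o := fun v =>
    Φ.A_apply_notMem hF hz₁ v (by simp [hio.symm, hjo.symm])
  have z2i : ∀ v : Fin n → F, Φ.A z₂ v i = C * v i - σ D * v k := fun v => by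
    rw [Frame.A, hz₂g]; exact act_two_fst hF hik hCD v
  have z2k : ∀ v : Fin n → F, Φ.A z₂ v k = D * v i + σ C * v k := fun v => by
    rw [Frame.A, hz₂g]; exact act_two_snd hF hik hCD v
  have z2j : ∀ v : Fin n → F, Φ.A z₂ v j = v j := fun v =>
    Φ.A_apply_notMem hF hz₂ v (by simp [hij.symm, hjk])
  have z2o : ∀ v : Fin n → F, Φ.A z₂ v o = v o := fun v =>
    Φ.A_apply_notMem hF hz₂ v (by simp [hio.symm, hko.symm])
  -- equivariance of the composite
  have hsum1 : nm hF (t j) + nm hF (t k) = 0 := by rw [htj, htk, add_neg_cancel]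
  have hto : nm hF (t o) = 1 := by
    have h1 := hu
    rw [IsU1, herm_self hF, show (univ : Finset (Fin n)) = {i, j, k, o} from
      (Finset.eq_univ_iff_forall.2 fun x => by simpa using hall x).symm] at h1
    rw [Finset.sum_insert (by simp [hij, hik, hio]), Finset.sum_insert (by simp [hjk, hjo]),
      Finset.sum_pair hko, hti, nm_zero, zero_add, ← add_assoc, hsum1, zero_add] at h1
    exact h1
  obtain ⟨g, hg, hgk⟩ := pair_move' hF hko.symm (v := t) (by
    rw [hto, htk]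
    exact fun e => ha1 (by linear_combination -e))
  obtain ⟨g', hg', rfl⟩ := Φ.lift _ (Finset.card_pair hko.symm).ge (ne_univ_of_card (by
    rw [Finset.card_pair hko.symm]; omega)) g hg
  have e1 : Φ.Eqv hn g' t := Φ.eqv_of_zero_out hF hn hg' hu (by simp [hio, hik]) hti
  have e2 : Φ.Eqv hn z₁ (Φ.A g' t) := Φ.eqv_of_zero_out hF hn hz₁ (Φ.isU1_A hu _)
    (i := k) (by simp [hik.symm, hjk.symm]) hgk
  have hcg : Commute z₁ g' := Φ.comm
    (by simp [hio, hjo, hik, hjk, hio.symm, hjo.symm, hik.symm, hjk.symm]) (Finset.card_pair hij).ge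
    (Finset.card_pair hko.symm).ge hz₁ hg'
  have e3 := Eqv.mul Φ hn e1 e2
  have hT : ({i, k, o} : Finset (Fin n)).card = 3 :=
    Finset.card_eq_three.2 ⟨i, k, o, hik, hio, hko, rfl⟩
  have t1i : Φ.A z₁ t i = -(σ B * t j) := by rw [z1i, hti, mul_zero, zero_sub]
  have t1j : Φ.A z₁ t j = σ A * t j := by rw [z1j, hti, mul_zero, zero_add]
  have hw : Φ.A (z₁ * g') t = Φ.A g' (Φ.A z₁ t) := by rw [hcg.eq, A_mul]
  have e4 : Φ.Eqv hn (z₂ * g'⁻¹) (Φ.A (z₁ * g') t) := by
    refine Φ.eqv_triple hF hn hT (mul_mem (Φ.mono (by simp [Finset.insert_subset_iff]) hz₂)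
      (inv_mem (Φ.mono (by simp [Finset.insert_subset_iff]) hg'))) (Φ.isU1_A hu _)
      ⟨k, by rw [A_mul, z1k]; exact hgk⟩ ⟨i, ?_⟩ ?_
    · rw [hw, A_mul, A_inv_A, z2i, z1k, t1i, hC, hD]
      simp only [map_div₀, map_neg, map_mul, hσσ]
      field_simp
      ring
    · have hs := fun v => Φ.sum_nm_A hF (S := ({i, k, o} : Finset (Fin n)))
        (Φ.mono (show ({o, k} : Finset (Fin n)) ⊆ {i, k, o} by simp [Finset.insert_subset_iff]) hg') v
      rw [hw, hs, Finset.sum_insert (by simp [hik, hio]), Finset.sum_pair hko, t1i, z1k, z1o, hto, htk,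
        nm_neg, nm_mul, nm_conj, htj]
      intro e
      exact hA1 (by linear_combination -e + a * hAB)
  have e5 := Eqv.mul Φ hn e3 e4
  rw [show z₂ * g'⁻¹ * (z₁ * g') = z₂ * z₁ by rw [hcg.eq]; group] at e5
  set y₀ := z₂ * z₁ with hy₀
  have yi : Φ.A y₀ t i = 0 := by
    rw [hy₀, A_mul, z2i, z1k, t1i, hC, hD]
    simp only [map_div₀, map_neg, map_mul, hσσ]
    field_simp
    ring
  have yj : Φ.A y₀ t j = σ A * t j := by rw [hy₀, A_mul, z2j, t1j]
  have yk : Φ.A y₀ t k = z * A := by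
    rw [hy₀, A_mul, z2k, z1k, t1i, hD, hC, hσσ]
    have h1 := hAB
    have h2 := htj
    have h3 := htk
    simp only [nm, ← hσ] at h1 h2 h3
    have e : -(K * B * σ (t j)) / σ (t k) * -(σ B * t j) + K * t k =
        -(K * (a * (A * σ A))) / σ (t k) := by
      field_simp
      linear_combination (K * (B * σ B)) * h2 + K * h3 + (K * a) * h1
    rw [e, hK]
    simp only [nm, ← hσ]
    field_simp
  have yo : Φ.A y₀ t o = t o := by rw [hy₀, A_mul, z2o, z1o]
  -- the final move inside the last pair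
  have hpair : nm hF (Φ.A y₀ t j) + nm hF (Φ.A y₀ t k) = 0 := by
    rw [yj, yk, nm_mul, nm_mul, nm_conj, htj, hz]; ring
  obtain ⟨h, hh, hhj⟩ := pair_iso_move hF hjk hpair (by rw [yj]; exact mul_ne_zero hsA htj0) (x := t j) htj0
  have hinv := pair_invariant hF hjk hh hpair
  obtain ⟨h', hh', rfl⟩ := Φ.lift _ (Finset.card_pair hjk).ge (ne_univ_of_card (by
    rw [Finset.card_pair hjk]; omega)) h hh
  have hi' : ∀ v : Fin n → F, Φ.A h' v i = v i := fun v =>
    Φ.A_apply_notMem hF hh' v (by simp [hij, hik])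
  have ho' : ∀ v : Fin n → F, Φ.A h' v o = v o := fun v =>
    Φ.A_apply_notMem hF hh' v (by simp [hjo.symm, hko.symm])
  have e6 : Φ.Eqv hn h' (Φ.A y₀ t) :=
    Φ.eqv_of_zero_out hF hn hh' (Φ.isU1_A hu _) (by simp [hij, hik]) yi
  have fj : Φ.A (h' * y₀) t j = t j := by rw [A_mul]; exact hhj
  have fk : Φ.A (h' * y₀) t k = z := by
    change Φ.A h' (Φ.A y₀ t) k * σ (Φ.A y₀ t j) = Φ.A y₀ t k * σ (Φ.A h' (Φ.A y₀ t) j) at hinv
    rw [← A_mul, fj, yj, yk, map_mul, hσσ] at hinv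
    have hs : σ (t j) ≠ 0 := (map_ne_zero σ).2 htj0
    exact mul_right_cancel₀ (mul_ne_zero hA hs) (by linear_combination hinv)
  have fi : Φ.A (h' * y₀) t i = 0 := by rw [A_mul, hi', yi]
  have fo : Φ.A (h' * y₀) t o = t o := by rw [A_mul, ho', yo]
  refine ⟨h' * y₀, mul_mem (Φ.mono (by simp [Finset.insert_subset_iff]) hh')
    (mul_mem (Φ.mono (by simp [Finset.insert_subset_iff]) hz₂)
      (Φ.mono (by simp [Finset.insert_subset_iff]) hz₁)), Eqv.mul Φ hn e5 e6, fi, fj, fk, fo, ?_⟩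
  intro hzk
  have hfix : Φ.A (h' * y₀) t = t := by
    funext x
    rcases hall x with rfl | rfl | rfl | rfl
    · rw [fi, hti]
    · exact fj
    · rw [fk, hzk]
    · exact fo
  have hAA : A * σ A = nm hF A := rfl
  have hKA : K = A / nm hF A := by
    have h3 := htk
    simp only [nm, ← hσ] at h3
    rw [hK, hzk]
    field_simp
    linear_combination -h3
  have hCA : C * A = 1 := by
    rw [hC, hKA, map_div₀, show σ (nm hF A) = nm hF A from nm_fixed hF A, div_mul_eq_mul_div, mul_comm,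
      hAA, div_self hnA]
  set α := B / (σ A * t j) with hα
  have hcut : ∀ x, x ≠ o → cut o t x = t x := fun x hx => by simp [cut, hx]
  have hcuto : cut o t o = 0 := by simp [cut]
  have hpre : Φ.A y₀ (ev i) = ev i + α • Φ.A y₀ (cut o t) := by
    have hy0o : Φ.A y₀ (ev o) = ev o := by
      refine Φ.A_eq_self (S := ({i, j, k} : Finset (Fin n)))
        (mul_mem (Φ.mono (by simp [Finset.insert_subset_iff]) hz₂)
          (Φ.mono (by simp [Finset.insert_subset_iff]) hz₁)) _ fun x hx => ?_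
      simp only [Finset.mem_insert, Finset.mem_singleton] at hx
      rcases hx with rfl | rfl | rfl
      · exact Pi.single_eq_of_ne hio _
      · exact Pi.single_eq_of_ne hjo _
      · exact Pi.single_eq_of_ne hko _
    rw [show Φ.A y₀ (cut o t) = Φ.A y₀ t - t o • (ev o : Fin n → F) by rw [cut, A_sub, A_smul, hy0o]]
    funext x
    rcases hall x with rfl | rfl | rfl | rfl
    · simp only [Pi.add_apply, Pi.smul_apply, Pi.sub_apply, smul_eq_mul, yi]
      rw [hy₀, A_mul, z2i, z1i, z1k]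
      simp [hij.symm, hik.symm, hio, hCA]
    · simp only [Pi.add_apply, Pi.smul_apply, Pi.sub_apply, smul_eq_mul, yj]
      rw [hy₀, A_mul, z2j, z1j, hα]
      simp [hij.symm, hjo]
      field_simp
    · simp only [Pi.add_apply, Pi.smul_apply, Pi.sub_apply, smul_eq_mul, yk]
      rw [hy₀, A_mul, z2k, z1i, z1k, hα, hD, hKA, hzk, ← hAA]
      simp [hij.symm, hik.symm, hko]
      have h2 := htj
      have h3 := htk
      simp only [nm, ← hσ] at h2 h3
      field_simp
      linear_combination -h2 - h3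
    · simp only [Pi.add_apply, Pi.smul_apply, Pi.sub_apply, smul_eq_mul, yo]
      rw [hy₀, A_mul, z2o, z1o]
      simp [hio.symm]
  rw [A_mul, hpre, A_add, A_smul, ← A_mul]
  congr 1
  · exact Φ.A_eq_self hh' _ fun x hx => by
      simp only [Finset.mem_insert, Finset.mem_singleton] at hx
      rcases hx with rfl | rfl <;> [exact Pi.single_eq_of_ne hij.symm _; exact Pi.single_eq_of_ne hik.symm _]
  · rw [Φ.A_cut (S := ({i, j, k} : Finset (Fin n))) (by simp [hio.symm, hjo.symm, hko.symm])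
      (mul_mem (Φ.mono (by simp [Finset.insert_subset_iff]) hh')
        (mul_mem (Φ.mono (by simp [Finset.insert_subset_iff]) hz₂)
          (Φ.mono (by simp [Finset.insert_subset_iff]) hz₁))) hfix]

include hF hn hij hik hjk hio hjo hko hall ha ha1 hu hti htj htk in
theorem stab_eqv {b : F} (hb : qPow hF b = b) (hb0 : b ≠ 0) (hb1 : b ≠ 1) (hab : a * (1 - b) ≠ 1)
    {y : G} (hy : y ∈ Φ.L ({i, j, k} : Finset (Fin n))) (hyt : Φ.A y t = t) : Φ.Eqv hn y t := by
  classical
  set σ := qPow hF with hσ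
  have hσσ : ∀ x, σ (σ x) = x := qPow_qPow hF
  set T : Finset (Fin n) := {i, j, k} with hT
  have hoT : o ∉ T := by simp [hT, hio.symm, hjo.symm, hko.symm]
  have htj0 : t j ≠ 0 := fun e => ha (by rw [← htj, e, nm_zero])
  have htk0 : t k ≠ 0 := fun e => ha (by
    have h := htk; rw [e, nm_zero] at h; linear_combination h)
  let M : AddSubgroup F :=
    { carrier := {α | ∃ m ∈ Φ.L T, Φ.A m t = t ∧ Φ.Eqv hn m t ∧ Φ.A m (ev i) = ev i + α • cut o t}
      zero_mem' := ⟨1, one_mem _, Φ.A_one _, Φ.eqv_one hn _, by rw [A_one, zero_smul, add_zero]⟩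
      add_mem' := by
        rintro α β ⟨m, hm, mt, me, mi⟩ ⟨p, hp, pt', pe, pi⟩
        refine ⟨m * p, mul_mem hm hp, by rw [A_mul, pt', mt], Eqv.mul Φ hn pe (by rw [pt']; exact me), ?_⟩
        rw [A_mul, pi, A_add, A_smul, mi, Φ.A_cut hoT hm mt, add_smul, add_assoc]
      neg_mem' := by
        rintro α ⟨m, hm, mt, me, mi⟩
        have hinv : Φ.A m⁻¹ t = t := by conv_lhs => rw [← mt, A_inv_A]
        refine ⟨m⁻¹, inv_mem hm, hinv, ?_, ?_⟩
        · have := Eqv.symm Φ hn me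
          rwa [mt] at this
        · apply act_injective (Φ.φ m)
          change Φ.A m (Φ.A m⁻¹ (ev i)) = Φ.A m (ev i + (-α) • cut o t)
          rw [A_A_inv, A_add, A_smul, mi, Φ.A_cut hoT hm mt, neg_smul, add_neg_cancel_right] }
  obtain ⟨α₀, hα₀⟩ := exists_nm_eq hF (b / ((1 - b) * a)) (by
    rw [map_div₀, map_mul, map_sub, map_one, ← hσ, hb, ← htj, show σ (nm hF (t j)) = _ from nm_fixed hF _])
  have hb1' : (1 : F) - b ≠ 0 := sub_ne_zero.2 (Ne.symm hb1)
  have hα₀0 : α₀ ≠ 0 := fun e => div_ne_zero hb0 (mul_ne_zero hb1' ha) (by rw [← hα₀, e, nm_zero])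
  have hcirc : ∀ ζ : F, nm hF ζ = 1 → α₀ * ζ ∈ M := by
    intro ζ hζ
    obtain ⟨A, hA⟩ := exists_nm_eq hF (1 - b) (by rw [map_sub, map_one, hb])
    have hA0 : A ≠ 0 := fun e => hb1' (by rw [← hA, e, nm_zero])
    set B := α₀ * ζ * (σ A * t j) with hB
    have hnB : nm hF B = b := by
      rw [hB, nm_mul, nm_mul, nm_mul, nm_conj, hα₀, hζ, hA, htj]
      field_simp
    obtain ⟨m, hm, he, mi, mj, mk, mo, mev⟩ := Φ.composite hF hn hij hik hjk hio hjo hko hall ha ha1 hu
      hti htj htk (A := A) (B := B) (by rw [hA, hnB]; ring) (fun e => hb0 (by rw [← hnB, e, nm_zero])) hA0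
      (by rwa [hA]) (z := t k) htk
    refine ⟨m, hm, funext fun x => ?_, he, ?_⟩
    · rcases hall x with rfl | rfl | rfl | rfl
      · rw [mi, hti]
      · exact mj
      · exact mk
      · exact mo
    · rw [mev rfl, hB, mul_div_assoc, div_self (mul_ne_zero ((map_ne_zero σ).2 hA0) htj0), mul_one]
  have hMall : ∀ α, α ∈ M := by
    intro α
    have h : α / α₀ ∈ M.comap (AddMonoidHom.mulLeft α₀) :=
      (AddSubgroup.closure_le _).2 (fun ζ hζ => hcirc ζ hζ) (mem_closure_normOne hF (α / α₀))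
    rw [AddSubgroup.mem_comap, AddMonoidHom.coe_mulLeft, mul_div_cancel₀ α hα₀0] at h
    exact h
  set x := Φ.A y (ev i) with hx
  have hxo : x o = 0 := by
    rw [hx, Φ.A_apply_notMem hF hy _ hoT]; exact Pi.single_eq_of_ne hio.symm _
  have hsumx : nm hF (x i) + (nm hF (x j) + nm hF (x k)) = 1 := by
    have h := Φ.sum_nm_A hF hy (ev i)
    rw [hT, Finset.sum_insert (by simp [hij, hik]), Finset.sum_pair hjk,
      Finset.sum_insert (by simp [hij, hik]), Finset.sum_pair hjk] at h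
    simpa [← hx, hij.symm, hik.symm] using h
  have horth : x j * σ (t j) + x k * σ (t k) = 0 := by
    have h := herm_act (Φ.φ y) (ev i) t
    change Cfsg.hermForm n F q (Φ.A y (ev i)) (Φ.A y t) = _ at h
    rw [hyt, ← hx, Cfsg.hermForm, Cfsg.hermForm, show (univ : Finset (Fin n)) = {i, j, k, o} from
      (Finset.eq_univ_iff_forall.2 fun l => by simpa using hall l).symm,
      Finset.sum_insert (by simp [hij, hik, hio]), Finset.sum_insert (by simp [hjk, hjo]),
      Finset.sum_pair hko, Finset.sum_insert (by simp [hij, hik, hio]),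
      Finset.sum_insert (by simp [hjk, hjo]), Finset.sum_pair hko] at h
    have hq0 : q ≠ 0 := by have := two_le_of_card hF; omega
    simpa [hσ, qPow_apply, hti, hxo, hij.symm, hik.symm, hio.symm, zero_pow hq0] using h
  have hxk : x k = x j * t k / t j := by
    have h2 := htj
    have h3 := htk
    simp only [nm, ← hσ] at h2 h3
    have hsk : σ (t k) ≠ 0 := (map_ne_zero σ).2 htk0
    rw [eq_div_iff htj0]
    apply mul_right_cancel₀ hsk
    linear_combination t j * horth - x j * h2 - x j * h3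
  have hζn : nm hF (x i) = 1 := by
    have : nm hF (x j) + nm hF (x k) = 0 := by
      rw [hxk, nm_div, nm_mul, htj, htk]
      field_simp
      ring
    rw [this, add_zero] at hsumx
    exact hsumx
  have hζ0 : x i ≠ 0 := fun e => by rw [e, nm_zero] at hζn; exact zero_ne_one hζn
  obtain ⟨m, hm, mt, me, mi⟩ := hMall (x j / (t j * x i))
  set y' := m⁻¹ * y with hy'
  have hy'T : y' ∈ Φ.L T := mul_mem (inv_mem hm) hy
  have hy't : Φ.A y' t = t := by rw [hy', A_mul, hyt]; conv_lhs => rw [← mt, A_inv_A]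
  have hy'i : Φ.A y' (ev i) = x i • (ev i : Fin n → F) := by
    apply act_injective (Φ.φ m)
    change Φ.A m (Φ.A y' (ev i)) = Φ.A m (x i • (ev i : Fin n → F))
    rw [hy', A_mul, A_A_inv, A_smul, mi, ← hx]
    funext l
    rcases hall l with rfl | rfl | rfl | rfl
    · simp [cut, hio, hti]
    · simp [cut, hjo, hij.symm]
      field_simp
    · simp [cut, hko, hik.symm, hxk]
      field_simp
    · simp [cut, hio.symm, hxo]
  have hζ : x i = 1 := by
    have hh : nm hF (x i) + nm hF (0 : F) = 1 := by rw [hζn, nm_zero, add_zero]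
    set d := two hF i j hij (x i) 0 hh with hd
    have hdi : act d (ev i) = x i • (ev i : Fin n → F) := by
      funext l
      rcases eq_or_ne l i with rfl | hli
      · rw [hd, act_two_fst]; simp [hij.symm]
      rcases eq_or_ne l j with rfl | hlj
      · rw [hd, act_two_snd]; simp [hij.symm]
      · rw [hd, act_two_out hF hij hh _ hli hlj]; simp [hli]
    have hmem : Φ.φ y' * d⁻¹ ∈ Sp ({j, k} : Finset (Fin n)) := by
      refine Sp_mono ?_ (mem_Sp_erase hF (S := T) (k := i) (mul_mem (Φ.supp hy'T)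
        (inv_mem (Sp_mono (by simp [hT, Finset.insert_subset_iff]) (two_mem hF hij hh)))) ?_)
      · rw [hT, Finset.erase_insert (by simp [hij, hik])]
      · apply smul_right_injective (Fin n → F) hζ0
        simp only
        rw [← act_smul, ← hdi, act_mul, act_inv_act, hdi]
        exact hy'i
    set v := act d t with hv
    have hvj : v j = σ (x i) * t j := by rw [hv, hd, act_two_snd]; simp [hσ]
    have hvk : v k = t k := by rw [hv, hd, act_two_out hF hij hh _ hik.symm hjk.symm]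
    have h := pair_invariant hF hjk hmem (v := v) (by rw [hvj, hvk, nm_mul, nm_conj, hζn, htj, htk]; ring)
    have hgv : act (Φ.φ y' * d⁻¹) v = t := by rw [hv, act_mul, act_inv_act]; exact hy't
    rw [hgv, hvj, hvk, map_mul, hσσ] at h
    have hs : σ (t j) ≠ 0 := (map_ne_zero σ).2 htj0
    apply mul_right_cancel₀ (mul_ne_zero htk0 hs)
    linear_combination h
  have hy'P : y' ∈ Φ.L ({j, k} : Finset (Fin n)) := by
    refine Φ.mem_of_image hF (ne_univ_of_card (by
      rw [hT]; exact lt_of_le_of_lt Finset.card_le_three (by omega)))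
      (by simp [hT, Finset.insert_subset_iff]) hy'T ?_
    refine Sp_mono ?_ (mem_Sp_erase hF (Φ.supp hy'T) (k := i) ?_)
    · rw [hT, Finset.erase_insert (by simp [hij, hik])]
    · rw [hζ, one_smul] at hy'i
      exact hy'i
  have e1 := Φ.eqv_of_zero_out hF hn hy'P hu (i := i) (by simp [hij, hik]) hti
  have := Eqv.mul Φ hn e1 (by rw [hy't]; exact me)
  rwa [hy', mul_inv_cancel_left] at this

end Quad

include hF in
theorem exists_normal {S : Finset (Fin n)} (hS : S.card = 3) {i j k : Fin n} (hi : i ∈ S) (hj : j ∈ S)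
    (hk : k ∈ S) (hij : i ≠ j) (hik : i ≠ k) (hjk : j ≠ k) {w : Fin n → F} (hu : IsU1 (q := q) w)
    {l : Fin n} (hl : l ∈ S) (hwl : w l = 0) (hne : ∃ x ∈ S, w x ≠ 0)
    (hsum : ∑ x ∈ S, nm hF (w x) = 0) {w0 : F} (hw0 : w0 ≠ 0) :
    ∃ z ∈ Φ.L S, Φ.Eqv hn z w ∧ Φ.A z w i = 0 ∧ Φ.A z w j = w0 ∧
      nm hF (Φ.A z w k) = -nm hF w0 := by
  classical
  have hSeq : S = {i, j, k} := (Finset.eq_of_subset_of_card_le
    (by simp [Finset.insert_subset_iff, hi, hj, hk])
    (by rw [hS, Finset.card_eq_three.2 ⟨i, j, k, hij, hik, hjk, rfl⟩])).symm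
  obtain ⟨π, hπl, hπS⟩ : ∃ π : alternatingGroup (Fin n), (π : Perm (Fin n)) l = i ∧
      ∀ x ∉ S, (π : Perm (Fin n)) x = x := by
    by_cases hli : l = i
    · exact ⟨1, by simpa using hli, fun x _ => rfl⟩
    · obtain ⟨m, hm, hm'⟩ : ∃ m ∈ S, m ∉ ({l, i} : Finset (Fin n)) := by
        by_contra hc
        push Not at hc
        have := Finset.card_le_card hc
        have := Finset.card_le_two (a := l) (b := i)
        omega
      simp only [Finset.mem_insert, Finset.mem_singleton, not_or] at hm'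
      refine ⟨⟨swap l i * swap i m, Perm.mem_alternatingGroup.2 ?_⟩, ?_, fun x hx => ?_⟩
      · rw [map_mul, Perm.sign_swap hli, Perm.sign_swap (Ne.symm hm'.2)]; decide
      · simp [swap_apply_of_ne_of_ne hli (Ne.symm hm'.1)]
      · have h1 : x ≠ l := fun e => hx (e ▸ hl)
        have h2 : x ≠ i := fun e => hx (e ▸ hi)
        have h3 : x ≠ m := fun e => hx (e ▸ hm)
        simp [swap_apply_of_ne_of_ne h1 h2, swap_apply_of_ne_of_ne h2 h3]
  have hR : Φ.R π ∈ Φ.L S := Φ.Rmem π S hS.ge hπS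
  have eR := Φ.eqv_R hF hn π hu hwl
  set w' := Φ.A (Φ.R π) w with hw'
  have hw'i : w' i = 0 := by
    rw [hw', A, Φ.hR, act_permSU_apply, (Equiv.symm_apply_eq _).2 hπl.symm, hwl]
  have hsum' : nm hF (w' j) + nm hF (w' k) = 0 := by
    have h := Φ.sum_nm_A hF hR w
    rw [hsum, ← hw', hSeq, Finset.sum_insert (by simp [hij, hik]), Finset.sum_pair hjk, hw'i, nm_zero,
      zero_add] at h
    exact h
  have hj0 : w' j ≠ 0 := by
    intro e
    rw [e, nm_zero, zero_add, nm_eq_zero] at hsum'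
    obtain ⟨x, hx, hxne⟩ := hne
    apply hxne
    have h := Φ.A_eq_self (inv_mem hR) w' fun y hy => by
      rw [hSeq] at hy
      simp only [Finset.mem_insert, Finset.mem_singleton] at hy
      rcases hy with rfl | rfl | rfl <;> assumption
    rw [hw', A_inv_A] at h
    rw [h]
    rw [hSeq] at hx
    simp only [Finset.mem_insert, Finset.mem_singleton] at hx
    rcases hx with rfl | rfl | rfl <;> assumption
  obtain ⟨g, hg, hgj⟩ := pair_iso_move hF hjk hsum' hj0 hw0
  obtain ⟨h, hh, rfl⟩ := Φ.lift _ (Finset.card_pair hjk).ge (ne_univ_of_card (by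
    rw [Finset.card_pair hjk]; omega)) g hg
  refine ⟨h * Φ.R π, mul_mem (Φ.mono (by simp [Finset.insert_subset_iff, hj, hk]) hh) hR,
    Eqv.mul Φ hn eR (Φ.eqv_of_zero_out hF hn hh (Φ.isU1_A hu _) (by simp [hij, hik]) hw'i), ?_, ?_, ?_⟩
    <;> rw [A_mul, ← hw']
  · rw [Φ.A_apply_notMem hF hh w' (by simp [hij, hik]), hw'i]
  · exact hgj
  · have h2 := Φ.sum_nm_A hF hh w'
    rw [Finset.sum_pair hjk, Finset.sum_pair hjk, hsum', show Φ.A h w' j = w0 from hgj] at h2
    linear_combination h2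

include hF in
/-- Every triple, when `n = 4` and `q ≥ 4`. -/
theorem tripleHyp_four (h4 : n = 4) (hq : 4 ≤ q) : Φ.TripleHyp hn := by
  classical
  intro S hS y hy w hu hw hw'
  by_cases hsum : ∑ x ∈ S, nm hF (w x) ≠ 0
  · exact Φ.eqv_triple hF hn hS hy hu hw hw' hsum
  push Not at hsum
  obtain ⟨l, hl0⟩ := hw
  by_cases hlS : l ∈ S
  swap
  · exact Φ.eqv_of_zero_out hF hn hy hu hlS hl0
  obtain ⟨l', hl'0⟩ := hw'
  by_cases hl'S : l' ∈ S
  swap
  · exact Φ.eqv_of_symm hn (Φ.eqv_of_zero_out hF hn (inv_mem hy) (Φ.isU1_A hu _) hl'S hl'0)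
  have hSu : S ≠ univ := ne_univ_of_card (by omega)
  by_cases hne : ∃ x ∈ S, w x ≠ 0
  swap
  · push Not at hne
    let E : Subgroup G :=
      { carrier := {x | x ∈ Φ.L S ∧ Φ.Eqv hn x w}
        one_mem' := ⟨one_mem _, Φ.eqv_one hn w⟩
        mul_mem' := fun {x z} hx hz => ⟨mul_mem hx.1 hz.1,
          Eqv.mul Φ hn hz.2 (by rw [Φ.A_eq_self hz.1 w hne]; exact hx.2)⟩
        inv_mem' := fun {x} hx => ⟨inv_mem hx.1, by
          have h := Eqv.symm Φ hn hx.2
          rwa [Φ.A_eq_self hx.1 w hne] at h⟩ }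
    have hE := Φ.L_induction hF (by omega) hSu E (fun P hP hc x hx => ⟨Φ.mono hP hx,
      Φ.eqv_of_zero_in hF hn hc.ge (by rw [Finset.card_compl, Fintype.card_fin]; omega) hx hu
        fun i hi => hne i (hP hi)⟩) fun x hx => hx.1
    rw [hE] at hy
    exact hy.2
  obtain ⟨i, j, k, hij, hik, hjk, rfl⟩ := Finset.card_eq_three.1 hS
  obtain ⟨o, ho⟩ := exists_third hn ({i, j, k} : Finset (Fin n)) (by omega)
  have hoS := ho
  simp only [Finset.mem_insert, Finset.mem_singleton, not_or] at ho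
  have hall : ∀ x : Fin n, x = i ∨ x = j ∨ x = k ∨ x = o := by
    have h : (insert o ({i, j, k} : Finset (Fin n))) = univ :=
      Finset.eq_univ_of_card _ (by rw [Finset.card_insert_of_notMem hoS, Fintype.card_fin]; omega)
    intro x
    have hx := Finset.mem_univ x
    rw [← h] at hx
    simp only [Finset.mem_insert, Finset.mem_singleton] at hx
    tauto
  obtain ⟨a, ha, ha0, ha1⟩ := exists_fixed_avoid hF ({1} : Finset F) (by simp; omega)
  rw [Finset.mem_singleton] at ha1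
  obtain ⟨b, hb, hb0, hbs⟩ := exists_fixed_avoid hF ({1, 1 - 1 / a} : Finset F)
    (lt_of_le_of_lt (Nat.add_le_add_right Finset.card_le_two 1) (by omega))
  simp only [Finset.mem_insert, Finset.mem_singleton, not_or] at hbs
  have hab : a * (1 - b) ≠ 1 := fun e => hbs.2 (by field_simp; linear_combination -e)
  obtain ⟨w0, hw0⟩ := exists_nm_eq hF a ha
  obtain ⟨z0, hz0⟩ := exists_nm_eq hF (-a) (by rw [map_neg, ha])
  have hw00 : w0 ≠ 0 := fun e => ha0 (by rw [← hw0, e, nm_zero])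
  have hne' : ∃ x ∈ ({i, j, k} : Finset (Fin n)), Φ.A y w x ≠ 0 := by
    by_contra hc
    push Not at hc
    obtain ⟨x, hx, hxne⟩ := hne
    have h := Φ.A_eq_self (inv_mem hy) (Φ.A y w) hc
    rw [A_inv_A] at h
    exact hxne (by rw [h]; exact hc x hx)
  obtain ⟨z, hz, ze, zi, zj, zk⟩ := Φ.exists_normal hF hn hS (by simp) (by simp) (by simp) hij hik hjk
    hu hlS hl0 hne hsum hw00
  obtain ⟨z', hz', ze', zi', zj', zk'⟩ := Φ.exists_normal hF hn hS (w := Φ.A y w) (by simp) (by simp) (by simp)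
    hij hik hjk (Φ.isU1_A hu _) hl'S hl'0 hne' (by rw [Φ.sum_nm_A hF hy, hsum]) hw00
  rw [hw0] at zk zk'
  set t := Φ.A z w with ht
  set t' := Φ.A z' (Φ.A y w) with ht'
  have hu0 : IsU1 (q := q) (Function.update t k z0) := by
    have h1 := Φ.isU1_A hu z
    rw [← ht] at h1
    rw [IsU1, herm_self hF] at h1 ⊢
    rw [← h1]
    refine Finset.sum_congr rfl fun x _ => ?_
    rcases eq_or_ne x k with rfl | hxk
    · rw [Function.update_self, hz0, zk]
    · rw [Function.update_of_ne hxk]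
  set t0 := Function.update t k z0 with ht0
  have t0i : t0 i = 0 := by rw [ht0, Function.update_of_ne hik, zi]
  have t0j : t0 j = w0 := by rw [ht0, Function.update_of_ne hjk, zj]
  have t0k : t0 k = z0 := by rw [ht0, Function.update_self]
  have t0o : t0 o = w o := by
    rw [ht0, Function.update_of_ne ho.2.2, ht, Φ.A_apply_notMem hF hz _ hoS]
  obtain ⟨A, hA⟩ := exists_nm_eq hF (1 - b) (by rw [map_sub, map_one, hb])
  obtain ⟨B, hB⟩ := exists_nm_eq hF b hb
  have hb1' : (1 : F) - b ≠ 0 := sub_ne_zero.2 (Ne.symm hbs.1)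
  have comp := fun {zz : F} (hzz : nm hF zz = -a) =>
    Φ.composite hF hn hij hik hjk (Ne.symm ho.1) (Ne.symm ho.2.1) (Ne.symm ho.2.2) hall ha0 ha1 hu0 t0i
      (by rw [t0j, hw0]) (by rw [t0k, hz0]) (A := A) (B := B) (by rw [hA, hB]; ring)
      (fun e => hb0 (by rw [← hB, e, nm_zero])) (fun e => hb1' (by rw [← hA, e, nm_zero]))
      (by rwa [hA]) (z := zz) hzz
  obtain ⟨c, hc, ce, ci, cj, ck, co, -⟩ := comp zk
  obtain ⟨c', hc', ce', ci', cj', ck', co', -⟩ := comp zk'
  have hct : Φ.A c t0 = t := by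
    funext x
    rcases hall x with rfl | rfl | rfl | rfl
    · rw [ci, zi]
    · rw [cj, t0j, zj]
    · exact ck
    · rw [co, t0o, ht, Φ.A_apply_notMem hF hz _ hoS]
  have hct' : Φ.A c' t0 = t' := by
    funext x
    rcases hall x with rfl | rfl | rfl | rfl
    · rw [ci', zi']
    · rw [cj', t0j, zj']
    · exact ck'
    · rw [co', t0o, ht', Φ.A_apply_notMem hF hz' _ hoS, Φ.A_apply_notMem hF hy _ hoS]
  have hst : Φ.Eqv hn (c'⁻¹ * (z' * y * z⁻¹ * c)) t0 := by
    refine Φ.stab_eqv hF hn hij hik hjk (Ne.symm ho.1) (Ne.symm ho.2.1) (Ne.symm ho.2.2) hall ha0 ha1 hu0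
      t0i (by rw [t0j, hw0]) (by rw [t0k, hz0]) hb hb0 hbs.1 hab
      (mul_mem (inv_mem hc') (mul_mem (mul_mem (mul_mem hz' hy) (inv_mem hz)) hc)) ?_
    rw [A_mul, A_mul, A_mul, A_mul, hct, ht, A_inv_A, ← ht', ← hct', A_inv_A]
  have e1 : Φ.Eqv hn c⁻¹ t := by
    have := Eqv.symm Φ hn ce
    rwa [hct] at this
  have e2 := Eqv.mul Φ hn ze e1
  have hz1 : Φ.A (c⁻¹ * z) w = t0 := by rw [A_mul, ← ht, ← hct, A_inv_A]
  have e3 := Eqv.mul Φ hn e2 (by rw [hz1]; exact hst)
  have h3 : Φ.A (c'⁻¹ * (z' * y * z⁻¹ * c) * (c⁻¹ * z)) w = t0 := by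
    rw [show c'⁻¹ * (z' * y * z⁻¹ * c) * (c⁻¹ * z) = c'⁻¹ * (z' * y) by group, A_mul, A_mul, ← ht', ← hct',
      A_inv_A]
  have e4 := Eqv.mul Φ hn e3 (by rw [h3]; exact ce')
  have e5 : Φ.Eqv hn z'⁻¹ t' := Eqv.symm Φ hn ze'
  have h4 : Φ.A (c' * (c'⁻¹ * (z' * y * z⁻¹ * c) * (c⁻¹ * z))) w = t' := by rw [A_mul, h3, hct']
  have e6 := Eqv.mul Φ hn e4 (by rw [h4]; exact e5)
  rwa [show z'⁻¹ * (c' * (c'⁻¹ * (z' * y * z⁻¹ * c) * (c⁻¹ * z))) = y by group] at e6

include hF in
/-- More than four coordinates. -/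
theorem tripleHyp_five (hn : 4 ≤ n) (h5 : 5 ≤ n) : Φ.TripleHyp hn :=
  fun hS _ hy _ hu hw hw' => Φ.eqv_triple_five hF hn h5 hS hy hu hw hw'

include hF in
/-- The map of a frame is injective outside four small cases. -/
theorem injective_core (hn : 4 ≤ n) (h2 : q = 2 → 6 ≤ n) (h3 : q = 3 → 5 ≤ n) : Function.Injective Φ.φ := by
  refine Φ.injective hF hn (fun hq h4 => absurd (h2 hq) (by omega)) ?_ h2
  by_cases h5 : 5 ≤ n
  · exact Φ.tripleHyp_five hF hn h5
  · refine Φ.tripleHyp_four hF hn (by omega) ?_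
    have := two_le_of_card hF
    by_contra hlt
    rcases (show q = 2 ∨ q = 3 by omega) with h | h
    · have := h2 h; omega
    · have := h3 h; omega

end Frame

end CfsgLib.SUnPres
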