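import Cfsg.Agent.Lib.SUnPres.Unit

/-!
Moves inside two and three coordinates: transitivity and generation.
-/

set_option autoImplicit false
set_option linter.unusedSectionVars false

namespace CfsgLib.SUnPres

open CfsgLib.Classical.Herm
open Matrix Finset

variable {F : Type*} [Field F] [Fintype F] {q : ℕ} {n : ℕ} (hF : Fintype.card F = q ^ 2)

attribute [-simp] qPow_apply

/-- The element of `SU₂` with a given first column. -/
def two₂ (A B : F) (h : nm hF A + nm hF B = 1) : Cfsg.SU 2 F q :=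
  ⟨⟨!![A, -qPow hF B; B, qPow hF A], by
      rw [Matrix.det_fin_two_of]; simp only [nm] at h; linear_combination h⟩,
    fun u v => by
      show Cfsg.hermForm 2 F q (!![A, -qPow hF B; B, qPow hF A] *ᵥ u)
        (!![A, -qPow hF B; B, qPow hF A] *ᵥ v) = _
      have key : ∀ x y : Fin 2 → F, Cfsg.hermForm 2 F q x y =
          x 0 * qPow hF (y 0) + x 1 * qPow hF (y 1) := fun x y => by
        simp [Cfsg.hermForm, Fin.sum_univ_two, qPow_apply]
      rw [key, key]
      simp only [Matrix.mulVec, dotProduct, Fin.sum_univ_two, Matrix.of_apply, Matrix.cons_val_zero,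
        Matrix.cons_val_one, map_add, map_mul, map_neg, qPow_qPow]
      simp only [nm] at h
      linear_combination (u 0 * qPow hF (v 0) + u 1 * qPow hF (v 1)) * h⟩

/-- Two distinct indices as an embedding. -/
def pairEmb (j k : Fin n) (hjk : j ≠ k) : Fin 2 ↪ Fin n :=
  ⟨![j, k], by
    intro a b h
    fin_cases a <;> fin_cases b <;> simp_all⟩

@[simp] theorem pairEmb_zero (j k : Fin n) (hjk : j ≠ k) : pairEmb j k hjk 0 = j := rfl

@[simp] theorem pairEmb_one (j k : Fin n) (hjk : j ≠ k) : pairEmb j k hjk 1 = k := rfl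

theorem range_pairEmb (j k : Fin n) (hjk : j ≠ k) : Set.range (pairEmb j k hjk) = {j, k} := by
  show Set.range ![j, k] = _
  simp [Matrix.range_cons, Matrix.range_empty, Set.pair_comm]

/-- The element on two coordinates with a given first column. -/
noncomputable def two (j k : Fin n) (hjk : j ≠ k) (A B : F) (h : nm hF A + nm hF B = 1) :
    Cfsg.SU n F q :=
  emb (pairEmb j k hjk) (two₂ hF A B h)

section two

variable {j k : Fin n} (hjk : j ≠ k) {A B : F} (h : nm hF A + nm hF B = 1) (v : Fin n → F)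

theorem act_two_fst : act (two hF j k hjk A B h) v j = A * v j - qPow hF B * v k := by
  have e := act_emb_in (pairEmb j k hjk) (two₂ hF A B h) v 0
  refine e.trans ?_
  simp [act, mat, two₂, Matrix.mulVec, dotProduct, Fin.sum_univ_two]
  ring

theorem act_two_snd : act (two hF j k hjk A B h) v k = B * v j + qPow hF A * v k := by
  have e := act_emb_in (pairEmb j k hjk) (two₂ hF A B h) v 1
  refine e.trans ?_
  simp [act, mat, two₂, Matrix.mulVec, dotProduct, Fin.sum_univ_two]

theorem act_two_out {o : Fin n} (hj : o ≠ j) (hk : o ≠ k) : act (two hF j k hjk A B h) v o = v o :=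
  act_emb_out _ _ _ (by rw [range_pairEmb]; simp [hj, hk])

theorem two_mem : two hF j k hjk A B h ∈ Sp ({j, k} : Finset (Fin n)) :=
  emb_mem_Sp _ _ fun x => by fin_cases x <;> simp

end two

theorem exists_two₂ (a : Cfsg.SU 2 F q) : ∃ A B h, a = two₂ hF A B h := by
  set A := mat a 0 0 with hA
  set C := mat a 0 1 with hC
  set B := mat a 1 0 with hB
  set D := mat a 1 1 with hD
  have hdet : A * D - C * B = 1 := by
    have := (a : Matrix.SpecialLinearGroup (Fin 2) F).2
    rw [Matrix.det_fin_two] at this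
    exact this
  have key : ∀ i l : Fin 2, mat a 0 i * qPow hF (mat a 0 l) + mat a 1 i * qPow hF (mat a 1 l) =
      if i = l then 1 else 0 := by
    intro i l
    have := herm_act a (ev i) (ev l)
    rw [Cfsg.hermForm, Fin.sum_univ_two, herm_ev hF] at this
    simpa [mat_apply, qPow_apply, Pi.single_apply, eq_comm] using this
  have h1 : nm hF A + nm hF B = 1 := key 0 0
  have h2 : A * qPow hF C + B * qPow hF D = 0 := key 0 1
  have h2' : qPow hF A * C + qPow hF B * D = 0 := by
    have := congrArg (qPow hF) h2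
    simpa [qPow_qPow, mul_comm] using this
  simp only [nm] at h1
  have eD : D = qPow hF A := by linear_combination (qPow hF A) * hdet - D * h1 + B * h2'
  have eC : C = -qPow hF B := by linear_combination (-qPow hF B) * hdet - C * h1 + A * h2'
  refine ⟨A, B, h1, mat_injective (Matrix.ext fun i l => ?_)⟩
  fin_cases i <;> fin_cases l
  · rfl
  · exact eC
  · rfl
  · exact eD

theorem exists_two {j k : Fin n} (hjk : j ≠ k) {g : Cfsg.SU n F q}
    (hg : g ∈ Sp ({j, k} : Finset (Fin n))) : ∃ A B h, g = two hF j k hjk A B h := by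
  obtain ⟨a, rfl⟩ := exists_emb_eq hF (pairEmb j k hjk) (S := {j, k})
    (fun i hi => by rw [range_pairEmb]; simpa using hi) hg
  obtain ⟨A, B, h, rfl⟩ := exists_two₂ hF a
  exact ⟨A, B, h, rfl⟩

/-- Pairs with a sum of norms other than zero reach a single coordinate. -/
theorem pair_move {j k : Fin n} (hjk : j ≠ k) {v : Fin n → F} {r : F}
    (h : nm hF r = nm hF (v j) + nm hF (v k)) (hr : r ≠ 0) :
    ∃ g ∈ (Sp ({j, k} : Finset (Fin n)) : Subgroup (Cfsg.SU n F q)), act g v j = r ∧ act g v k = 0 := by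
  have hn : nm hF r ≠ 0 := nm_ne_zero hF hr
  have hh : nm hF (qPow hF (v j / r)) + nm hF (-(v k / r)) = 1 := by
    rw [nm_conj, nm_neg, nm_div, nm_div, ← add_div, ← h, div_self hn]
  refine ⟨_, two_mem hF hjk hh, ?_, ?_⟩
  · rw [act_two_fst]
    simp only [map_neg, map_div₀]
    have hr' : qPow hF r ≠ 0 := (map_ne_zero _).2 hr
    simp only [nm] at h
    field_simp
    linear_combination -h
  · rw [act_two_snd, qPow_qPow]
    field_simp
    ring

theorem pair_move' {j k : Fin n} (hjk : j ≠ k) {v : Fin n → F}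
    (h : nm hF (v j) + nm hF (v k) ≠ 0) :
    ∃ g ∈ (Sp ({j, k} : Finset (Fin n)) : Subgroup (Cfsg.SU n F q)), act g v k = 0 := by
  obtain ⟨r, hr⟩ := exists_nm_eq hF (nm hF (v j) + nm hF (v k)) (by rw [map_add, nm_fixed, nm_fixed])
  obtain ⟨g, hg, -, h2⟩ := pair_move hF hjk hr (fun e => h (by rw [← hr, e, nm_zero]))
  exact ⟨g, hg, h2⟩

/-- Isotropic pairs can be moved to any nonzero first entry. -/
theorem pair_iso_move {j k : Fin n} (hjk : j ≠ k) {v : Fin n → F}
    (h : nm hF (v j) + nm hF (v k) = 0) (hj : v j ≠ 0) {x : F} (hx : x ≠ 0) :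
    ∃ g ∈ (Sp ({j, k} : Finset (Fin n)) : Subgroup (Cfsg.SU n F q)), act g v j = x := by
  obtain ⟨τ, hτ⟩ := exists_trace_one hF
  have hk : v k ≠ 0 := fun e => nm_ne_zero hF hj (by simpa [e] using h)
  set r := x / v j with hr
  have hr0 : r ≠ 0 := div_ne_zero hx hj
  have hrn : nm hF r ≠ 0 := nm_ne_zero hF hr0
  set s := (1 - nm hF r) / nm hF r with hs
  have hsfix : qPow hF s = s := by rw [hs, map_div₀, map_sub, map_one, nm_fixed]
  set β := r * (s * τ) with hβ
  have key : nm hF (r + β) - nm hF β = 1 := by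
    have hts : s * nm hF r = 1 - nm hF r := div_mul_cancel₀ _ hrn
    simp only [nm] at hts ⊢
    rw [hβ]
    simp only [map_add, map_mul, hsfix]
    linear_combination hts + (s * (r * qPow hF r)) * hτ
  set B := qPow hF (β * v j / v k) with hB
  have hnB : nm hF B = -nm hF β := by
    have hh : nm hF (v j) = -nm hF (v k) := eq_neg_of_add_eq_zero_left h
    have := nm_ne_zero hF hk
    rw [hB, nm_conj, nm_div, nm_mul, hh]
    field_simp
  have hh : nm hF (r + β) + nm hF B = 1 := by rw [hnB, ← key]; ring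
  refine ⟨_, two_mem hF hjk hh, ?_⟩
  rw [act_two_fst, hB, qPow_qPow, hr]
  field_simp
  ring

/-- The invariant of an isotropic pair. -/
theorem pair_invariant {j k : Fin n} (hjk : j ≠ k) {g : Cfsg.SU n F q}
    (hg : g ∈ Sp ({j, k} : Finset (Fin n))) {v : Fin n → F}
    (h : nm hF (v j) + nm hF (v k) = 0) :
    act g v k * qPow hF (v j) = v k * qPow hF (act g v j) := by
  obtain ⟨A, B, hh, rfl⟩ := exists_two hF hjk hg
  rw [act_two_fst, act_two_snd]
  simp only [map_sub, map_mul, qPow_qPow]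
  simp only [nm] at h
  linear_combination B * h

/-- A subgroup contains the small pieces over a set. -/
def Gen (H : Subgroup (Cfsg.SU n F q)) (S : Finset (Fin n)) : Prop :=
  (∀ P : Finset (Fin n), P ⊆ S → P.card = 2 → Sp P ≤ H) ∧
    (q = 2 → ∀ T : Finset (Fin n), T ⊆ S → T.card = 3 → Sp T ≤ H)

theorem Gen.mono {H : Subgroup (Cfsg.SU n F q)} {S T : Finset (Fin n)} (h : Gen H S) (hTS : T ⊆ S) :
    Gen H T := ⟨fun P hP => h.1 P (hP.trans hTS), fun hq R hR => h.2 hq R (hR.trans hTS)⟩

theorem gen_Sp (S : Finset (Fin n)) : Gen (Sp S : Subgroup (Cfsg.SU n F q)) S :=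
  ⟨fun _ hP _ => Sp_mono hP, fun _ _ hT _ => Sp_mono hT⟩

include hF in
theorem eq_zero_of_q_two (h2 : q = 2) (x : F) (hx : x ≠ 0) : nm hF x = 1 := by
  have := FiniteField.pow_card_sub_one_eq_one x hx
  rw [hF, h2] at this
  simp only [nm, qPow_apply, h2, ← pow_succ']
  exact this

include hF in
theorem two_zero_of_q_two (h2 : q = 2) : (2 : F) = 0 := by
  have hc : (Fintype.card F : F) = 0 := FiniteField.cast_card_eq_zero F
  rw [hF, h2] at hc
  push_cast at hc
  have h4 : (2 : F) * 2 = 0 := by linear_combination hc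
  exact mul_self_eq_zero.1 h4

include hF in
/-- For `q = 2` three non-zero entries are moved to a single one. -/
theorem triple_move_two (h2 : q = 2) {a b c : Fin n} (hab : a ≠ b) (hac : a ≠ c) (hbc : b ≠ c)
    {v : Fin n → F} (ha : v a ≠ 0) (hb : v b ≠ 0) (hc : v c ≠ 0) :
    ∃ g ∈ (Sp ({a, b, c} : Finset (Fin n)) : Subgroup (Cfsg.SU n F q)), act g v b = 0 := by
  classical
  obtain ⟨ω, hω0, hω1⟩ : ∃ ω : F, ω ≠ 0 ∧ ω ≠ 1 := by
    obtain ⟨x, hx⟩ := Finset.exists_of_ssubset (s₁ := ({0, 1} : Finset F)) (s₂ := Finset.univ) (by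
      rw [Finset.ssubset_univ_iff]
      intro e
      have h3 := congrArg Finset.card e
      rw [Finset.card_univ, hF, h2, Finset.card_insert_of_notMem (by simp), Finset.card_singleton] at h3
      omega)
    exact ⟨x, by simpa using hx.2⟩
  have h20 := two_zero_of_q_two hF h2
  have p3 : ∀ x : F, x ≠ 0 → x * (x * x) = 1 := fun x hx => by
    have := eq_zero_of_q_two hF h2 x hx
    simpa [nm, qPow_apply, h2, pow_two] using this
  have hwsum : ω * ω + ω + 1 = 0 := by
    have : (ω - 1) * (ω * ω + ω + 1) = 0 := by linear_combination p3 ω hω0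
    exact (mul_eq_zero.1 this).resolve_left (sub_ne_zero.2 hω1)
  set x := v a with hxdef
  set y := v b with hydef
  set z := v c with hzdef
  have px := p3 x ha
  have py := p3 y hb
  have pz := p3 z hc
  have pw := p3 ω hω0
  set d := x * x * (y * y) * (z * z) with hd
  have pd : d * (d * d) = 1 := by
    rw [hd]
    linear_combination (x * (x * x) * ((y * (y * y)) * (y * (y * y))) * ((z * (z * z)) * (z * (z * z))) +
      (y * (y * y)) * (y * (y * y)) * ((z * (z * z)) * (z * (z * z)))) * px +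
      ((y * (y * y) + 1) * ((z * (z * z)) * (z * (z * z)))) * py + (z * (z * z) + 1) * pz
  let M : Matrix (Fin 3) (Fin 3) F :=
    !![x, x, d * x; y, ω * y, d * (ω * ω * y); z, ω * ω * z, d * (ω * z)]
  have hM : ∀ i l : Fin 3, M 0 i * qPow hF (M 0 l) + M 1 i * qPow hF (M 1 l) + M 2 i * qPow hF (M 2 l) =
      if i = l then 1 else 0 := by
    intro i l
    fin_cases i <;> fin_cases l <;>
      simp [M, qPow_apply, h2, pow_two] <;> grind
  have hMdet : M.det = 1 := by
    rw [Matrix.det_fin_three]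
    simp [M, d]
    grind
  let A : Cfsg.SU 3 F q := ⟨⟨M, hMdet⟩, fun u w => by
    show Cfsg.hermForm 3 F q (M *ᵥ u) (M *ᵥ w) = _
    have key : ∀ u w : Fin 3 → F, Cfsg.hermForm 3 F q u w =
        u 0 * qPow hF (w 0) + u 1 * qPow hF (w 1) + u 2 * qPow hF (w 2) := fun u w => by
      simp [Cfsg.hermForm, Fin.sum_univ_three, qPow_apply]
    rw [key, key]
    simp only [Matrix.mulVec, dotProduct, Fin.sum_univ_three, map_add, map_mul]
    have k := hM
    have a00 := k 0 0; have a01 := k 0 1; have a02 := k 0 2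
    have a10 := k 1 0; have a11 := k 1 1; have a12 := k 1 2
    have a20 := k 2 0; have a21 := k 2 1; have a22 := k 2 2
    simp only [if_true, Fin.reduceEq, if_false] at a00 a01 a02 a10 a11 a12 a20 a21 a22
    linear_combination u 0 * qPow hF (w 0) * a00 + u 0 * qPow hF (w 1) * a01 + u 0 * qPow hF (w 2) * a02 +
      u 1 * qPow hF (w 0) * a10 + u 1 * qPow hF (w 1) * a11 + u 1 * qPow hF (w 2) * a12 +
      u 2 * qPow hF (w 0) * a20 + u 2 * qPow hF (w 1) * a21 + u 2 * qPow hF (w 2) * a22⟩
  let f : Fin 3 ↪ Fin n := ⟨![a, b, c], by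
    intro i l h
    fin_cases i <;> fin_cases l <;> simp_all⟩
  have f0 : f 0 = a := rfl
  have f1 : f 1 = b := rfl
  have f2 : f 2 = c := rfl
  refine ⟨(emb f A)⁻¹, inv_mem (emb_mem_Sp f A fun i => by fin_cases i <;> simp [f0, f1, f2]), ?_⟩
  set t := act (emb f A)⁻¹ v with ht
  have hv : act (emb f A) t = v := act_act_inv _ _
  have hcol : (fun i => t (f i)) = (Pi.single 0 1 : Fin 3 → F) := by
    apply act_injective A
    funext i
    rw [← act_emb_in f A t i, hv]
    fin_cases i <;> simp [act, mat, A, M, f0, f1, f2, hxdef, hydef, hzdef]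
  have := congrFun hcol 1
  simpa [f1] using this

include hF in
theorem exists_zero_maker {H : Subgroup (Cfsg.SU n F q)} {S : Finset (Fin n)} {v : Fin n → F}
    (hG : Gen H S) (hv : ∀ i ∈ S, v i ≠ 0)
    (h : (2 ≤ S.card ∧ ∑ i ∈ S, nm hF (v i) ≠ 0) ∨ 3 ≤ S.card) :
    ∃ g ∈ H, g ∈ Sp S ∧ ∃ i ∈ S, act g v i = 0 := by
  classical
  by_cases hp : ∃ j ∈ S, ∃ k ∈ S, j ≠ k ∧ nm hF (v j) + nm hF (v k) ≠ 0
  · obtain ⟨j, hj, k, hk, hjk, hne⟩ := hp
    obtain ⟨g, hg, hgk⟩ := pair_move' hF hjk hne
    have hsub : ({j, k} : Finset (Fin n)) ⊆ S := by simp [Finset.insert_subset_iff, hj, hk]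
    exact ⟨g, hG.1 _ hsub (Finset.card_pair hjk) hg, Sp_mono hsub hg, k, hk, hgk⟩
  push Not at hp
  have h3 : 3 ≤ S.card := by
    rcases h with ⟨h2, hne⟩ | h3
    · by_contra hlt
      obtain ⟨j, k, hjk, rfl⟩ := Finset.card_eq_two.1 (show S.card = 2 by omega)
      exact hne (by rw [Finset.sum_pair hjk]; exact hp j (by simp) k (by simp) hjk)
    · exact h3
  obtain ⟨a, ha, b, hb, c, hc, hab, hac, hbc⟩ := Finset.two_lt_card.1 h3
  have eab := hp a ha b hb hab
  have eac := hp a ha c hc hac
  have ebc := hp b hb c hc hbc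
  have h20 : (2 : F) = 0 := by
    have : nm hF (v a) * 2 = 0 := by linear_combination eab + eac - ebc
    exact (mul_eq_zero.1 this).resolve_left (nm_ne_zero hF (hv a ha))
  by_cases hq : q = 2
  · obtain ⟨g, hg, hgb⟩ := triple_move_two hF hq hab hac hbc (hv a ha) (hv b hb) (hv c hc)
    have hsub : ({a, b, c} : Finset (Fin n)) ⊆ S := by simp [Finset.insert_subset_iff, ha, hb, hc]
    refine ⟨g, hG.2 hq _ hsub ?_ hg, Sp_mono hsub hg, b, hb, hgb⟩
    exact Finset.card_eq_three.2 ⟨a, b, c, hab, hac, hbc, rfl⟩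
  have hq3 : 1 + 1 < q := by have := two_le_of_card hF; omega
  obtain ⟨y, hy, hy0, hys⟩ := exists_fixed_avoid hF {nm hF (v c)} (by simpa using hq3)
  obtain ⟨x, rfl⟩ := exists_nm_eq hF y hy
  obtain ⟨g₁, hg₁, hg₁b⟩ := pair_iso_move hF hab.symm (by rw [add_comm]; exact eab) (hv b hb)
    (x := x) (fun e => hy0 (by rw [e, nm_zero]))
  have hc1 : act g₁ v c = v c := act_apply_of_notMem hF hg₁ v (by simp [hac.symm, hbc.symm])
  obtain ⟨g₂, hg₂, hg₂c⟩ := pair_move' hF hbc (v := act g₁ v) (by
    rw [hg₁b, hc1]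
    intro e
    apply hys
    rw [Finset.mem_singleton]
    linear_combination e - nm hF (v c) * h20)
  have s1 : ({b, a} : Finset (Fin n)) ⊆ S := by simp [Finset.insert_subset_iff, ha, hb]
  have s2 : ({b, c} : Finset (Fin n)) ⊆ S := by simp [Finset.insert_subset_iff, hb, hc]
  exact ⟨g₂ * g₁, mul_mem (hG.1 _ s2 (Finset.card_pair hbc) hg₂) (hG.1 _ s1 (Finset.card_pair hab.symm) hg₁),
    mul_mem (Sp_mono s2 hg₂) (Sp_mono s1 hg₁), c, hc, by rw [act_mul]; exact hg₂c⟩

theorem sum_nm_of_supp {S : Finset (Fin n)} {v : Fin n → F} (hu : IsU1 (q := q) v)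
    (hs : ∀ i ∉ S, v i = 0) : ∑ i ∈ S, nm hF (v i) = 1 := by
  have := hu
  rw [IsU1, herm_self hF] at this
  rw [← this]
  exact Finset.sum_subset (Finset.subset_univ S) fun i _ hi => by rw [hs i hi, nm_zero]

include hF in
theorem exists_move {H : Subgroup (Cfsg.SU n F q)} {S : Finset (Fin n)} (hG : Gen H S) {k : Fin n}
    (hk : k ∈ S) (h2 : 2 ≤ S.card) {v : Fin n → F} (hu : IsU1 (q := q) v) (hs : ∀ i ∉ S, v i = 0) :
    ∃ g ∈ H, g ∈ Sp S ∧ act g v = ev k := by
  classical
  induction hc : (S.filter fun i => v i ≠ 0).card using Nat.strong_induction_on generalizing v with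
  | _ c ih =>
    set A := S.filter fun i => v i ≠ 0 with hA
    have hAv : ∀ i ∉ A, v i = 0 := fun i hi => by
      by_cases h : i ∈ S
      · simpa [hA, h] using hi
      · exact hs i h
    have hsum := sum_nm_of_supp hF hu hAv
    rcases Nat.lt_or_ge A.card 2 with hlt | hge
    · obtain ⟨i, hi⟩ : ∃ i, A = {i} := by
        rw [← Finset.card_eq_one]
        rcases Nat.lt_or_ge 0 A.card with h | h
        · omega
        · rw [ge_iff_le, Nat.le_zero, Finset.card_eq_zero] at h
          rw [h] at hsum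
          simp at hsum
      rw [hi, Finset.sum_singleton] at hsum
      have hiA : i ∈ A := by rw [hi]; exact Finset.mem_singleton_self i
      have hiS : i ∈ S := (Finset.mem_filter.1 (hA ▸ hiA)).1
      obtain ⟨j, hjS, hjne⟩ := Finset.exists_mem_ne (show 1 < S.card by omega) k
      have hl : ∃ l ∈ S, l ≠ k ∧ ∀ o, o ≠ k → o ≠ l → v o = 0 := by
        by_cases hik : i = k
        · exact ⟨j, hjS, hjne, fun o ho _ => hAv o (by rw [hi]; simpa [hik] using ho)⟩
        · exact ⟨i, hiS, hik, fun o _ ho => hAv o (by rw [hi]; simpa using ho)⟩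
      obtain ⟨l, hlS, hlk, hz⟩ := hl
      have hsum2 := sum_nm_of_supp hF hu (S := {k, l}) fun o ho => by
        simp only [Finset.mem_insert, Finset.mem_singleton, not_or] at ho
        exact hz o ho.1 ho.2
      rw [Finset.sum_pair hlk.symm] at hsum2
      obtain ⟨g, hg, hg1, hg2⟩ := pair_move hF hlk.symm (v := v) (r := 1) (by rw [nm_one, hsum2]) one_ne_zero
      have hsub : ({k, l} : Finset (Fin n)) ⊆ S := by simp [Finset.insert_subset_iff, hk, hlS]
      refine ⟨g, hG.1 _ hsub (Finset.card_pair hlk.symm) hg, Sp_mono hsub hg, funext fun o => ?_⟩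
      rcases eq_or_ne o k with rfl | hok
      · simpa using hg1
      · rcases eq_or_ne o l with rfl | hol
        · simpa [hlk] using hg2
        · rw [act_apply_of_notMem hF hg v (by simp [hok, hol]), hz o hok hol]; simp [hok]
    · have hAS : A ⊆ S := Finset.filter_subset _ _
      obtain ⟨g, hgH, hgA, i, hiA, hgi⟩ := exists_zero_maker hF (hG.mono hAS) (v := v)
        (fun i hi => (Finset.mem_filter.1 hi).2) (Or.inl ⟨hge, by rw [hsum]; exact one_ne_zero⟩)
      have hout : ∀ o ∉ A, act g v o = 0 := fun o ho => by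
        rw [act_apply_of_notMem hF hgA v ho, hAv o ho]
      have hlt : (S.filter fun o => act g v o ≠ 0).card < c := by
        rw [← hc]
        refine Finset.card_lt_card ((Finset.ssubset_iff_of_subset ?_).2 ⟨i, hiA, ?_⟩)
        · intro o ho
          by_contra hoA
          exact (Finset.mem_filter.1 ho).2 (hout o hoA)
        · simp [hgi]
      obtain ⟨g', hg'H, hg'S, hg'v⟩ := ih _ hlt (hu.act g)
        (fun o ho => hout o fun h => ho (hAS h)) rfl
      exact ⟨g' * g, mul_mem hg'H hgH, mul_mem hg'S (Sp_mono hAS hgA), by rw [act_mul]; exact hg'v⟩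

include hF in
theorem Sp_le {H : Subgroup (Cfsg.SU n F q)} {S : Finset (Fin n)} (hG : Gen H S) : Sp S ≤ H := by
  classical
  induction S using Finset.strongInduction with
  | _ S ih =>
    intro g hg
    rcases Nat.lt_or_ge S.card 2 with h | h
    · rw [Sp_eq_one hF (by omega) hg]; exact one_mem H
    · obtain ⟨k, hk⟩ := Finset.card_pos.1 (show 0 < S.card by omega)
      obtain ⟨y, hyH, hyS, hy⟩ := exists_move hF hG hk h ((isU1_ev hF k).act g) fun i hi => by
        rw [act_apply_of_notMem hF hg _ hi]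
        exact Pi.single_eq_of_ne (fun e : i = k => hi (e ▸ hk)) _
      have hyg : y * g ∈ H :=
        ih _ (Finset.erase_ssubset hk) (hG.mono (Finset.erase_subset _ _))
          (mem_Sp_erase hF (mul_mem hyS hg) (by rw [act_mul, hy]))
      simpa using mul_mem (inv_mem hyH) hyg

end CfsgLib.SUnPres
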