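import Cfsg.Agent.Lib.SUnPres.Frame

/-!
Even permutations of the coordinates used in the gluing.
-/

set_option autoImplicit false

namespace CfsgLib.SUnPres

open Finset Equiv

variable {n : ℕ}

/-- The first four coordinates. -/
def cd (hn : 4 ≤ n) (i : Fin 4) : Fin n := Fin.castLE hn i

theorem cd_injective (hn : 4 ≤ n) : Function.Injective (cd hn) := Fin.castLE_injective hn

theorem cd_ne (hn : 4 ≤ n) {i j : Fin 4} (h : i ≠ j) : cd hn i ≠ cd hn j := (cd_injective hn).ne h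

/-- A three-cycle as an element of the alternating group. -/
def tri (a b c : Fin n) (hab : a ≠ b) (hbc : b ≠ c) : alternatingGroup (Fin n) :=
  ⟨swap a b * swap b c, Perm.mem_alternatingGroup.2 (by
    rw [map_mul, Perm.sign_swap hab, Perm.sign_swap hbc]; decide)⟩

/-- Two disjoint transpositions as an element of the alternating group. -/
def dbl (a b c d : Fin n) (hab : a ≠ b) (hcd : c ≠ d) : alternatingGroup (Fin n) :=
  ⟨swap a b * swap c d, Perm.mem_alternatingGroup.2 (by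
    rw [map_mul, Perm.sign_swap hab, Perm.sign_swap hcd]; decide)⟩

/-- The three-cycle on the first three coordinates. -/
def cN (hn : 4 ≤ n) : alternatingGroup (Fin n) :=
  tri (cd hn 0) (cd hn 1) (cd hn 2) (cd_ne hn (by decide)) (cd_ne hn (by decide))

/-- The double transposition fixing the first pair. -/
def eN (hn : 4 ≤ n) : alternatingGroup (Fin n) :=
  dbl (cd hn 0) (cd hn 1) (cd hn 2) (cd hn 3) (cd_ne hn (by decide)) (cd_ne hn (by decide))

/-- The double transposition exchanging the first two pairs. -/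
def kN (hn : 4 ≤ n) : alternatingGroup (Fin n) :=
  dbl (cd hn 0) (cd hn 2) (cd hn 1) (cd hn 3) (cd_ne hn (by decide)) (cd_ne hn (by decide))

theorem cN_0 (hn : 4 ≤ n) : (cN hn : Perm (Fin n)) (cd hn 0) = cd hn 1 := by
  simp [cN, tri, swap_apply_of_ne_of_ne (cd_ne hn (show (0 : Fin 4) ≠ 1 by decide))
    (cd_ne hn (show (0 : Fin 4) ≠ 2 by decide))]

theorem cN_1 (hn : 4 ≤ n) : (cN hn : Perm (Fin n)) (cd hn 1) = cd hn 2 := by
  simp [cN, tri, swap_apply_of_ne_of_ne (cd_ne hn (show (2 : Fin 4) ≠ 0 by decide))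
    (cd_ne hn (show (2 : Fin 4) ≠ 1 by decide))]

theorem cN_2 (hn : 4 ≤ n) : (cN hn : Perm (Fin n)) (cd hn 2) = cd hn 0 := by
  simp [cN, tri]

theorem eN_0 (hn : 4 ≤ n) : (eN hn : Perm (Fin n)) (cd hn 0) = cd hn 1 := by
  simp [eN, dbl, swap_apply_of_ne_of_ne (cd_ne hn (show (0 : Fin 4) ≠ 2 by decide))
    (cd_ne hn (show (0 : Fin 4) ≠ 3 by decide))]

theorem eN_1 (hn : 4 ≤ n) : (eN hn : Perm (Fin n)) (cd hn 1) = cd hn 0 := by
  simp [eN, dbl, swap_apply_of_ne_of_ne (cd_ne hn (show (1 : Fin 4) ≠ 2 by decide))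
    (cd_ne hn (show (1 : Fin 4) ≠ 3 by decide))]

theorem kN_0 (hn : 4 ≤ n) : (kN hn : Perm (Fin n)) (cd hn 0) = cd hn 2 := by
  simp [kN, dbl, swap_apply_of_ne_of_ne (cd_ne hn (show (0 : Fin 4) ≠ 1 by decide))
    (cd_ne hn (show (0 : Fin 4) ≠ 3 by decide))]

theorem kN_1 (hn : 4 ≤ n) : (kN hn : Perm (Fin n)) (cd hn 1) = cd hn 3 := by
  simp [kN, dbl, swap_apply_of_ne_of_ne (cd_ne hn (show (3 : Fin 4) ≠ 0 by decide))
    (cd_ne hn (show (3 : Fin 4) ≠ 2 by decide))]

theorem exists_perm_three {a b c : Fin n} (a' b' c' : Fin n) (hab : a ≠ b) (hac : a ≠ c) (hbc : b ≠ c)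
    (hab' : a' ≠ b') (hac' : a' ≠ c') (hbc' : b' ≠ c') :
    ∃ τ : Perm (Fin n), τ a = a' ∧ τ b = b' ∧ τ c = c' := by
  classical
  let t1 := swap a a'
  let t2 := swap (t1 b) b'
  have e1 : t1 a = a' := swap_apply_left _ _
  have e2 : (t2 * t1) a = a' := by
    show t2 (t1 a) = a'
    rw [e1]
    refine swap_apply_of_ne_of_ne ?_ hab'
    intro e
    exact hab (t1.injective (by rw [e1]; exact e))
  have e3 : (t2 * t1) b = b' := swap_apply_left _ _
  refine ⟨swap ((t2 * t1) c) c' * (t2 * t1), ?_, ?_, swap_apply_left _ _⟩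
  · show swap _ _ ((t2 * t1) a) = a'
    rw [e2]
    refine swap_apply_of_ne_of_ne ?_ hac'
    intro e
    exact hac ((t2 * t1).injective (by rw [e2]; exact e))
  · show swap _ _ ((t2 * t1) b) = b'
    rw [e3]
    refine swap_apply_of_ne_of_ne ?_ hbc'
    intro e
    exact hbc ((t2 * t1).injective (by rw [e3]; exact e))

theorem exists_even_pair (hn : 4 ≤ n) {a b : Fin n} (hab : a ≠ b) :
    ∃ π : alternatingGroup (Fin n), (π : Perm (Fin n)) (cd hn 0) = a ∧ (π : Perm (Fin n)) (cd hn 1) = b := by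
  obtain ⟨c, hc⟩ := exists_third hn {a, b} (lt_of_le_of_lt Finset.card_le_two (by omega))
  simp only [Finset.mem_insert, Finset.mem_singleton, not_or] at hc
  obtain ⟨τ, h0, h1, -⟩ := exists_perm_three (a := cd hn 0) (b := cd hn 1) (c := cd hn 2) a b c
    (cd_ne hn (by decide)) (cd_ne hn (by decide)) (cd_ne hn (by decide)) hab (Ne.symm hc.1) (Ne.symm hc.2)
  obtain ⟨π, hπ⟩ := exists_even_map τ (cd_ne hn (show (2 : Fin 4) ≠ 3 by decide))
  exact ⟨π, by rw [hπ _ (cd_ne hn (by decide)) (cd_ne hn (by decide)), h0],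
    by rw [hπ _ (cd_ne hn (by decide)) (cd_ne hn (by decide)), h1]⟩

/-- Any three-cycle or its inverse is an even conjugate of the basic one. -/
theorem exists_conj_cN (hn : 4 ≤ n) {a b c : Fin n} (hab : a ≠ b) (hbc : b ≠ c) (hac : a ≠ c) :
    ∃ π : alternatingGroup (Fin n),
      (tri a b c hab hbc = π * cN hn * π⁻¹ ∨ (tri a b c hab hbc)⁻¹ = π * cN hn * π⁻¹) ∧
      (π : Perm (Fin n)) (cd hn 0) ∈ ({a, b, c} : Finset (Fin n)) ∧
      (π : Perm (Fin n)) (cd hn 1) ∈ ({a, b, c} : Finset (Fin n)) ∧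
      (π : Perm (Fin n)) (cd hn 2) ∈ ({a, b, c} : Finset (Fin n)) := by
  obtain ⟨τ, h0, h1, h2⟩ := exists_perm_three (a := cd hn 0) (b := cd hn 1) (c := cd hn 2) a b c
    (cd_ne hn (by decide)) (cd_ne hn (by decide)) (cd_ne hn (by decide)) hab hac hbc
  have key : τ * (swap (cd hn 0) (cd hn 1) * swap (cd hn 1) (cd hn 2)) * τ⁻¹ = swap a b * swap b c := by
    rw [← h0, ← h1, ← h2, Equiv.swap_apply_apply, Equiv.swap_apply_apply]
    simp only [mul_assoc, inv_mul_cancel_left]
  by_cases hs : Perm.sign τ = 1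
  · refine ⟨⟨τ, Perm.mem_alternatingGroup.2 hs⟩, Or.inl (Subtype.ext key.symm), ?_, ?_, ?_⟩ <;>
      simp [h0, h1, h2]
  · have h01 := cd_ne hn (show (0 : Fin 4) ≠ 1 by decide)
    have h20 := cd_ne hn (show (2 : Fin 4) ≠ 0 by decide)
    have h21 := cd_ne hn (show (2 : Fin 4) ≠ 1 by decide)
    refine ⟨⟨τ * swap (cd hn 0) (cd hn 1), Perm.mem_alternatingGroup.2 ?_⟩, Or.inr (Subtype.ext ?_), ?_, ?_, ?_⟩
    · rw [map_mul, Perm.sign_swap h01]
      rcases Int.units_eq_one_or (Perm.sign τ) with e | e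
      · exact absurd e hs
      · rw [e]; decide
    · show (swap a b * swap b c)⁻¹ = τ * swap (cd hn 0) (cd hn 1) *
        (swap (cd hn 0) (cd hn 1) * swap (cd hn 1) (cd hn 2)) * (τ * swap (cd hn 0) (cd hn 1))⁻¹
      rw [← key]
      simp only [_root_.mul_inv_rev, inv_inv, swap_inv, mul_assoc, swap_mul_self_mul]
    · simp [h1]
    · simp [h0]
    · simp [swap_apply_of_ne_of_ne h20 h21, h2]

theorem inv_ne_of_ne {π : Perm (Fin n)} {x y : Fin n} (h : π x ≠ y) : π⁻¹ y ≠ x := fun e =>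
  h (by rw [← e, Perm.inv_def, Equiv.apply_symm_apply])

/-- An even permutation supported on a set is a product of three-cycles inside it. -/
theorem alt_induction {S : Finset (Fin n)} (P : Subgroup (alternatingGroup (Fin n)))
    (h : ∀ a b c (hab : a ≠ b) (hbc : b ≠ c), a ≠ c → a ∈ S → b ∈ S → c ∈ S → tri a b c hab hbc ∈ P)
    (π : alternatingGroup (Fin n)) (hπ : ∀ o ∉ S, (π : Perm (Fin n)) o = o) : π ∈ P := by
  classical
  have hmaps : ∀ x, (π : Perm (Fin n)) x ∈ S ↔ x ∈ S := by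
    intro x
    constructor
    · intro hx
      by_contra hxS
      exact hxS (hπ x hxS ▸ hx)
    · intro hx
      by_contra hxS
      exact hxS ((π : Perm (Fin n)).injective (hπ _ hxS) |>.symm ▸ hx)
  set t := (π : Perm (Fin n)).subtypePerm (p := fun x => x ∈ S) hmaps with ht
  have hof : Perm.ofSubtype t = (π : Perm (Fin n)) :=
    Perm.ofSubtype_subtypePerm hmaps fun x hx => by
      by_contra hc
      exact hx (hπ x hc)
  have hsign : Perm.sign t = 1 := by
    rw [← Perm.sign_ofSubtype t, hof]; exact Perm.mem_alternatingGroup.1 π.2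
  let Q : Subgroup (Perm {x // x ∈ S}) := ((P.map (alternatingGroup (Fin n)).subtype)).comap Perm.ofSubtype
  have hcl : alternatingGroup {x // x ∈ S} ≤ Q := by
    rw [← Perm.closure_three_cycles_eq_alternating, Subgroup.closure_le]
    intro g hg
    obtain ⟨a, ha⟩ : g.support.Nonempty := by
      rw [← Finset.card_pos, Perm.IsThreeCycle.card_support hg]; norm_num
    have hg' := (Perm.IsThreeCycle.eq_swap_mul_swap_iff_mem_support hg).2 ha
    have hnd := (Perm.IsThreeCycle.nodup_iff_mem_support hg).2 ha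
    simp only [List.nodup_cons, List.mem_cons, List.mem_singleton, List.not_mem_nil, or_false, not_or,
      List.nodup_nil, not_false_iff, and_true] at hnd
    refine ⟨tri (a : Fin n) (g a : Fin n) (g (g a) : Fin n) (Subtype.val_injective.ne hnd.1.1)
      (Subtype.val_injective.ne hnd.2), h _ _ _ _ _ (Subtype.val_injective.ne hnd.1.2) a.2 (g a).2 (g (g a)).2,
      ?_⟩
    conv_rhs => rw [hg']
    simp [tri, Perm.ofSubtype_swap_eq]
  obtain ⟨p, hp, hpe⟩ := hcl (Perm.mem_alternatingGroup.2 hsign)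
  rwa [show π = p from Subtype.ext (by rw [← hof]; exact hpe.symm)]

end CfsgLib.SUnPres
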