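import Cfsg.Agent.Lib.SUnPres.SmallThreeCore
import Cfsg.Agent.Lib.SUnPres.SmallThreeDataTwo
import Cfsg.Agent.Lib.SUnPres.SmallThreeDataThree
import Cfsg.Agent.Lib.SUnPres.SmallThreeDataFive

/-!
Presentations of the special unitary groups of dimension three over the fields with 4, 9 and 25 elements.
-/

set_option autoImplicit false
set_option maxRecDepth 100000

namespace CfsgLib.SUnPres.SmallThree

open CfsgLib.BoundedPres CfsgLib.Classical.Herm

/-- The case `q = 2`. -/
def dataTwo : Data :=
  { P := ⟨2, 1, 1⟩, gens := Two.gens, rels1 := Two.rels1, rels2 := Two.rels2, cert1 := Two.cert1,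
    cert2 := Two.cert2, oa := 4, O := 27, pts := Two.pts, par := Two.par, idx := Two.idx, stab := Two.stab }

/-- The case `q = 3`. -/
def dataThree : Data :=
  { P := ⟨3, 0, 2⟩, gens := Three.gens, rels1 := Three.rels1, rels2 := Three.rels2, cert1 := Three.cert1,
    cert2 := Three.cert2, oa := 8, O := 224, pts := Three.pts, par := Three.par, idx := Three.idx,
    stab := Three.stab }

/-- The case `q = 5`. -/
def dataFive : Data :=
  { P := ⟨5, 0, 2⟩, gens := Five.gens, rels1 := Five.rels1, rels2 := Five.rels2, cert1 := Five.cert1,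
    cert2 := Five.cert2, oa := 24, O := 3024, pts := Five.pts, par := Five.par, idx := Five.idx,
    stab := Five.stab }

theorem valid_two : dataTwo.Valid :=
  ⟨by decide +kernel, by decide +kernel, by decide +kernel, by decide +kernel, by decide +kernel,
    by decide +kernel, by decide +kernel, by decide +kernel, by decide +kernel⟩

theorem valid_three : dataThree.Valid :=
  ⟨by decide +kernel, by decide +kernel, by decide +kernel, by decide +kernel, by decide +kernel,
    by decide +kernel, by decide +kernel, by decide +kernel, by decide +kernel⟩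

theorem valid_five : dataFive.Valid :=
  ⟨by decide +kernel, by decide +kernel, by decide +kernel, by decide +kernel, by decide +kernel,
    by decide +kernel, by decide +kernel, by decide +kernel, by decide +kernel⟩

variable {F : Type*} [Field F] [Fintype F]

theorem charP_of_card {p : ℕ} (hp : p.Prime) (hF : Fintype.card F = p ^ 2) : CharP F p := by
  obtain ⟨r, k, hr, hc, hk⟩ := exists_charP_pow hF
  have : r = p := by
    rcases Nat.eq_zero_or_pos k with rfl | hk0
    · rw [pow_zero] at hk; exact absurd hk hp.one_lt.ne'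
    · exact ((Nat.prime_dvd_prime_iff_eq hr hp).1 (hk ▸ dvd_pow_self r hk0.ne'))
  exact this ▸ hc

/-- A root of `X ^ 2 = X + 1` in the field with four elements. -/
theorem exists_root_two (hF : Fintype.card F = 2 ^ 2) : Nonempty (Root dataTwo.P F) := by
  haveI := charP_of_card Nat.prime_two hF
  obtain ⟨g, hg⟩ := IsCyclic.exists_generator (α := Fˣ)
  have ho : orderOf g = 3 := by
    rw [orderOf_eq_card_of_forall_mem_zpowers hg, natCard_units_sq hF]
  have h3 : (g : F) ^ 3 = 1 := by
    rw [← Units.val_pow_eq_pow_val, ← ho, pow_orderOf_eq_one, Units.val_one]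
  have h1 : (g : F) - 1 ≠ 0 := fun h => by
    have : g = 1 := Units.ext (sub_eq_zero.1 h)
    rw [this, orderOf_one] at ho; norm_num at ho
  refine ⟨⟨(g : F), Nat.prime_two, charP_of_card Nat.prime_two hF, ?_⟩⟩
  have h2 : (2 : F) = 0 := by exact_mod_cast CharP.cast_eq_zero F 2
  have : (g : F) * g + g + 1 = 0 := by
    refine (mul_eq_zero.1 (?_ : ((g : F) - 1) * ((g : F) * g + g + 1) = 0)).resolve_left h1
    linear_combination h3
  show (g : F) * g = ((1 : ℕ) : F) * g + ((1 : ℕ) : F)
  push_cast
  linear_combination this - ((g : F) + 1) * h2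

/-- A square root of 2. -/
theorem exists_sqrt_two {p : ℕ} (hp : p.Prime) (hp2 : p ≠ 2) (hF : Fintype.card F = p ^ 2) :
    ∃ θ : F, θ * θ = 2 := by
  haveI := charP_of_card hp hF
  haveI := Fact.mk hp
  have h2 : (2 : F) ≠ 0 := fun h => hp2 ((Nat.prime_dvd_prime_iff_eq hp Nat.prime_two).1
    ((CharP.cast_eq_zero_iff F p 2).1 (by exact_mod_cast h)))
  have hfix : (2 : F) ^ p = 2 := by
    have : ((2 : ZMod p) ^ p) = 2 := ZMod.pow_card 2
    have := congrArg (ZMod.castHom dvd_rfl F) this
    rwa [map_pow, map_ofNat] at this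
  have hp1 : (2 : F) ^ (p - 1) = 1 := by
    refine mul_right_cancel₀ h2 ?_
    rw [← pow_succ, Nat.sub_add_cancel hp.one_le, hfix, one_mul]
  obtain ⟨k, hk⟩ : ∃ k, p + 1 = 2 * k := by
    obtain ⟨m, hm⟩ := hp.odd_of_ne_two hp2
    exact ⟨m + 1, by omega⟩
  have hodd : ringChar F ≠ 2 := by rw [ringChar.eq F p]; exact hp2
  have hsq : (2 : F) ^ (Fintype.card F / 2) = 1 := by
    have : Fintype.card F / 2 = (p - 1) * k := by
      have h1 := hp.one_le
      rw [hF]
      obtain ⟨a, rfl⟩ : ∃ a, p = a + 1 := ⟨p - 1, by omega⟩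
      rw [Nat.add_sub_cancel, show (a + 1) ^ 2 = 2 * (a * k) + 1 by nlinarith]
      omega
    rw [this, pow_mul, hp1, one_pow]
  obtain ⟨θ, hθ⟩ := (FiniteField.isSquare_iff hodd h2).2 hsq
  exact ⟨θ, hθ.symm⟩

theorem exists_root_three (hF : Fintype.card F = 3 ^ 2) : Nonempty (Root dataThree.P F) := by
  obtain ⟨θ, hθ⟩ := exists_sqrt_two (by norm_num) (by norm_num) hF
  refine ⟨⟨θ, Nat.prime_three, charP_of_card Nat.prime_three hF, ?_⟩⟩
  show θ * θ = ((0 : ℕ) : F) * θ + ((2 : ℕ) : F)
  push_cast
  linear_combination hθ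

theorem exists_root_five (hF : Fintype.card F = 5 ^ 2) : Nonempty (Root dataFive.P F) := by
  obtain ⟨θ, hθ⟩ := exists_sqrt_two (by norm_num) (by norm_num) hF
  refine ⟨⟨θ, Nat.prime_five, charP_of_card Nat.prime_five hF, ?_⟩⟩
  show θ * θ = ((0 : ℕ) : F) * θ + ((2 : ℕ) : F)
  push_cast
  linear_combination hθ

theorem card_su {q : ℕ} (hF : Fintype.card F = q ^ 2) :
    (q + 1) * Nat.card (Cfsg.SU 3 F q) = q ^ 3 * ((q - 1 + 2) * (q ^ 2 - 1) * (q ^ 3 + 1)) := by
  rw [card_unit_eq_mul_su hF (by norm_num), card_unit hF 3]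
  have := two_le_of_card hF
  simp [Finset.prod_range_succ, show q - 1 + 2 = q + 1 by omega,
    show Even 2 by decide, show ¬ Even 1 by decide]

/-- `SU(3, 2)` has a presentation with 3 generators and at most 6 relations. -/
theorem presOn_two (hF : Fintype.card F = 2 ^ 2) : PresOn (Fin 3) (Cfsg.SU 3 F 2) 6 := by
  obtain ⟨R⟩ := exists_root_two hF
  have h := card_su hF
  norm_num at h
  exact (Data.presOn (D := dataTwo) R hF valid_two (by
      show Nat.card (Cfsg.SU 3 F 2) ≤ 27 * Two.stab.length
      rw [show Two.stab.length = 8 by decide +kernel]; omega) (by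
      show Two.cert2.n * (Two.cert1.n * 4) ≤ Nat.card (Cfsg.SU 3 F 2)
      rw [show Two.cert2.n = 1 from rfl, show Two.cert1.n = 54 from rfl]; omega)).mono
    (show Two.rels1.length + Two.rels2.length ≤ 6 by decide +kernel)

/-- `SU(3, 3)` has a presentation with 3 generators and at most 12 relations. -/
theorem presOn_three (hF : Fintype.card F = 3 ^ 2) : PresOn (Fin 3) (Cfsg.SU 3 F 3) 12 := by
  obtain ⟨R⟩ := exists_root_three hF
  have h := card_su hF
  norm_num at h
  exact (Data.presOn (D := dataThree) R hF valid_three (by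
      show Nat.card (Cfsg.SU 3 F 3) ≤ 224 * Three.stab.length
      rw [show Three.stab.length = 27 by decide +kernel]; omega) (by
      show Three.cert2.n * (Three.cert1.n * 8) ≤ Nat.card (Cfsg.SU 3 F 3)
      rw [show Three.cert2.n = 28 from rfl, show Three.cert1.n = 27 from rfl]; omega)).mono
    (show Three.rels1.length + Three.rels2.length ≤ 12 by decide +kernel)

/-- `SU(3, 5)` has a presentation with 3 generators and at most 22 relations. -/
theorem presOn_five (hF : Fintype.card F = 5 ^ 2) : PresOn (Fin 3) (Cfsg.SU 3 F 5) 22 := by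
  obtain ⟨R⟩ := exists_root_five hF
  have h := card_su hF
  norm_num at h
  exact (Data.presOn (D := dataFive) R hF valid_five (by
      show Nat.card (Cfsg.SU 3 F 5) ≤ 3024 * Five.stab.length
      rw [show Five.stab.length = 125 by decide +kernel]; omega) (by
      show Five.cert2.n * (Five.cert1.n * 24) ≤ Nat.card (Cfsg.SU 3 F 5)
      rw [show Five.cert2.n = 126 from rfl, show Five.cert1.n = 125 from rfl]; omega)).mono
    (show Five.rels1.length + Five.rels2.length ≤ 22 by decide +kernel)

/-- The centre of `SU(3, q)` is the normal closure of one element, for every `q`. -/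
theorem center_normalClosure {q : ℕ} (hF : Fintype.card F = q ^ 2) :
    ∃ z, Subgroup.center (Cfsg.SU 3 F q) = Subgroup.normalClosure {z} := by
  have hc := card_center_su hF (le_refl 3)
  haveI : IsCyclic (Subgroup.center (Cfsg.SU 3 F q)) := by
    rcases (Nat.dvd_prime Nat.prime_three).1 (Nat.gcd_dvd_left 3 (q + 1)) with h | h
    · haveI : Subsingleton (Subgroup.center (Cfsg.SU 3 F q)) :=
        (Nat.card_eq_one_iff_unique.1 (hc.trans h)).1
      exact isCyclic_of_subsingleton
    · haveI := Fact.mk Nat.prime_three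
      exact isCyclic_of_prime_card (hc.trans h)
  obtain ⟨z, hz⟩ := IsCyclic.exists_generator (α := Subgroup.center (Cfsg.SU 3 F q))
  refine ⟨(z : Cfsg.SU 3 F q), le_antisymm (fun g hg => ?_) (Subgroup.normalClosure_le_normal (by simp))⟩
  obtain ⟨k, hk⟩ := Subgroup.mem_zpowers_iff.1 (hz ⟨g, hg⟩)
  have hk' := congrArg Subtype.val hk
  simp only [Subgroup.coe_zpow] at hk'
  rw [← hk']
  exact zpow_mem (Subgroup.subset_normalClosure (Set.mem_singleton _)) k

end CfsgLib.SUnPres.SmallThree
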