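import Cfsg.Agent.Lib.SUnPres.Rels
import Cfsg.Agent.Lib.SUnPres.SmallThree
import Cfsg.Agent.Lib.SU3Pres.Std

/-!
Presentations of the special unitary groups from those of the block and of the alternating group.
-/

set_option autoImplicit false
set_option linter.unusedSectionVars false

namespace CfsgLib.SUnPres

open CfsgLib.Classical.Herm
open CfsgLib.BoundedPres (PresOn Kills exists_word hom_lift lift_map_gen)
open Finset Equiv

attribute [-simp] qPow_apply

/-- A presentation from injectivity of every compatible map onto the group. -/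
theorem presOn_of_inj {T : Type*} [Group T] {X : Type} (v : X → T) (L : List (FreeGroup X))
    (hL : Kills v L) (hgen : Subgroup.closure (Set.range v) = ⊤)
    (hcore : ∀ (G : Type) [Group G] (φ : G →* T) (f : X → G), (∀ x, φ (f x) = v x) →
      Subgroup.closure (Set.range f) = ⊤ → Kills f L → Function.Injective φ) :
    PresOn X T L.length := by
  set R : Set (FreeGroup X) := {w | w ∈ L} with hR
  let φ : PresentedGroup R →* T := PresentedGroup.toGroup (f := v) hL
  have hφ : ∀ x, φ (PresentedGroup.of x) = v x := fun x => PresentedGroup.toGroup.of (f := v) hL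
  have hrel : Kills (fun x => (PresentedGroup.of x : PresentedGroup R)) L := by
    intro w hw
    have he : FreeGroup.lift (fun x => (PresentedGroup.of x : PresentedGroup R)) = PresentedGroup.mk R :=
      FreeGroup.ext_hom _ _ fun i => by simp [PresentedGroup.of]
    rw [he]
    exact PresentedGroup.one_of_mem hw
  have hsurj : Function.Surjective φ := by
    rw [← MonoidHom.range_eq_top, eq_top_iff, ← hgen, Subgroup.closure_le]
    rintro _ ⟨x, rfl⟩
    exact ⟨_, hφ x⟩
  let e := MulEquiv.ofBijective φ ⟨hcore _ φ _ hφ (PresentedGroup.closure_range_of R) hrel, hsurj⟩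
  refine ⟨v, L, le_rfl, hL, hgen, fun G _ f hf => ?_⟩
  refine ⟨(PresentedGroup.toGroup (f := f) (rels := R) hf).comp e.symm.toMonoidHom, fun x => ?_⟩
  have : e.symm (v x) = PresentedGroup.of x := by rw [e.symm_apply_eq]; exact (hφ x).symm
  show PresentedGroup.toGroup (f := f) (rels := R) hf (e.symm (v x)) = f x
  rw [this]
  exact PresentedGroup.toGroup.of (f := f) (rels := R) hf

/-- The commutator relator. -/
def cw {X : Type} (x y : FreeGroup X) : FreeGroup X := x * y * (y * x)⁻¹

theorem lift_cw_eq_one {X : Type} {G : Type*} [Group G] (f : X → G) (x y : FreeGroup X) :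
    FreeGroup.lift f (cw x y) = 1 ↔ Commute (FreeGroup.lift f x) (FreeGroup.lift f y) := by
  simp only [cw, map_mul, map_inv]
  rw [mul_inv_eq_one]
  rfl

theorem lift_word {X Z : Type} {T : Type*} [Group T] (g : X → Z) {vX : X → T} (w : T → FreeGroup X)
    (hw : ∀ z, FreeGroup.lift vX (w z) = z) {G : Type*} [Group G] (f : Z → G) (ψ : T →* G)
    (h : ∀ x, ψ (vX x) = f (g x)) (z : T) :
    FreeGroup.lift f (FreeGroup.lift (fun x => FreeGroup.of (g x)) (w z)) = ψ z := by
  rw [lift_map_gen, ← hom_lift ψ h, hw]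

variable {F : Type*} [Field F] [Fintype F] {q n : ℕ} (hF : Fintype.card F = q ^ 2)

include hF in
theorem commute_of_disjoint {S T : Finset (Fin n)} (hST : Disjoint S T) {g h : Cfsg.SU n F q}
    (hg : g ∈ Sp S) (hh : h ∈ Sp T) : Commute g h := by
  refine ext_ev fun i => ?_
  rw [act_mul, act_mul]
  have key : ∀ {A B : Finset (Fin n)} {a b : Cfsg.SU n F q}, Disjoint A B → a ∈ Sp A → b ∈ Sp B → i ∈ A →
      act a (act b (ev i)) = act b (act a (ev i)) := by
    intro A B a b hAB ha hb hi
    rw [hb i (Finset.disjoint_left.1 hAB hi),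
      act_eq_self hb (act a (ev i)) fun j hj => by
        rw [act_apply_of_notMem hF ha _ (Finset.disjoint_right.1 hAB hj)]
        exact Pi.single_eq_of_ne (fun e : j = i => Finset.disjoint_left.1 hAB hi (by rwa [e] at hj)) _]
  by_cases hi : i ∈ S
  · exact key hST hg hh hi
  by_cases hi' : i ∈ T
  · exact (key hST.symm hh hg hi').symm
  rw [hg i hi, hh i hi', hg i hi]

include hF in
/-- The block and the permutations generate. -/
theorem gen_top (hn : 4 ≤ n) (H : Subgroup (Cfsg.SU n F q)) (hb : ∀ a, blk hn a ∈ H)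
    (hp : ∀ π : alternatingGroup (Fin n), permSU π ∈ H) : H = ⊤ := by
  classical
  rw [eq_top_iff]
  intro g _
  have hG : Gen H (univ : Finset (Fin n)) := by
    constructor
    · intro P _ hc g hg
      obtain ⟨a, b, hab, rfl⟩ := Finset.card_eq_two.1 hc
      obtain ⟨π, h0, h1⟩ := exists_even_pair hn hab
      have hu : (permSU π : Cfsg.SU n F q)⁻¹ * g * permSU π ∈ Sp ({cd hn 0, cd hn 1} : Finset (Fin n)) := by
        intro o ho
        rw [act_mul, act_mul, act_permSU_ev, hg _ ?_, ← act_permSU_ev π o, act_inv_act]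
        simp only [Finset.mem_insert, Finset.mem_singleton, not_or] at ho ⊢
        exact ⟨fun e => ho.1 ((π : Perm (Fin n)).injective (e.trans h0.symm)),
          fun e => ho.2 ((π : Perm (Fin n)).injective (e.trans h1.symm))⟩
      obtain ⟨u, -, he⟩ := exists_W_of_mem hF hn hu
      have : g = permSU π * blk hn u * (permSU π)⁻¹ := by rw [he]; group
      rw [this]
      exact mul_mem (mul_mem (hp π) (hb u)) (inv_mem (hp π))
    · intro _ T _ hc g hg
      obtain ⟨a, b, c, hab, hac, hbc, rfl⟩ := Finset.card_eq_three.1 hc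
      obtain ⟨π, -, h0, h1, h2⟩ := exists_conj_cN hn hab hbc hac
      have him : (univ.map (f3 hn)).map (π : Perm (Fin n)).toEmbedding = ({a, b, c} : Finset (Fin n)) := by
        refine Finset.eq_of_subset_of_card_le (fun x hx => ?_) (by rw [hc]; simp)
        simp only [Finset.mem_map, Finset.mem_univ, true_and] at hx
        obtain ⟨_, ⟨i, rfl⟩, rfl⟩ := hx
        fin_cases i
        · exact h0
        · exact h1
        · exact h2
      obtain ⟨v, hv⟩ := exists_emb_eq hF (f3 hn) (S := univ.map (f3 hn)) (fun i hi => by simpa using hi)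
        (g := (permSU π : Cfsg.SU n F q)⁻¹ * g * permSU π) fun o ho => by
          rw [act_mul, act_mul, act_permSU_ev, hg _ ?_, ← act_permSU_ev π o, act_inv_act]
          rw [← him]
          intro hmm
          rw [show (π : Perm (Fin n)) o = (π : Perm (Fin n)).toEmbedding o from rfl, Finset.mem_map'] at hmm
          exact ho hmm
      have : g = permSU π * blk hn v * (permSU π)⁻¹ := by rw [blk, hv]; group
      rw [this]
      exact mul_mem (mul_mem (hp π) (hb v)) (inv_mem (hp π))
  exact Sp_le hF hG (fun o ho => absurd (Finset.mem_univ o) ho)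

include hF in
/-- The gluing of a presentation of the block and one of the alternating group, for `q ≥ 4`. -/
theorem presOn_glue (hn : 4 ≤ n) (h2 : q ≠ 2) (h3 : q ≠ 3) {X Y : Type} {r s : ℕ}
    (hS : PresOn X (Cfsg.SU 3 F q) r) (hA : PresOn Y (alternatingGroup (Fin n)) s) :
    PresOn (X ⊕ Y) (Cfsg.SU n F q)
      (r + s + 6 + 2 * (if n = 4 then 0 else if n = 5 then 1 else 2)) := by
  obtain ⟨vS, LS, hrS, hkS, hgS, huS⟩ := hS
  obtain ⟨vA, LA, hrA, hkA, hgA, huA⟩ := hA
  obtain ⟨a, b, ha, hb, hab⟩ := exists_W_gens hF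
  obtain ⟨l, hlen, hlfix, hl⟩ := exists_stab_gens hn
  obtain ⟨a', ha', hea⟩ := exists_eN_W (F := F) hF hn ha
  obtain ⟨b', hb', heb⟩ := exists_eN_W (F := F) hF hn hb
  choose wS hwS using fun x => exists_word hgS x
  choose wA hwA using fun x => exists_word hgA x
  let i₁ : FreeGroup X →* FreeGroup (X ⊕ Y) := FreeGroup.lift fun x => FreeGroup.of (Sum.inl x)
  let i₂ : FreeGroup Y →* FreeGroup (X ⊕ Y) := FreeGroup.lift fun y => FreeGroup.of (Sum.inr y)
  let S : Cfsg.SU 3 F q → FreeGroup (X ⊕ Y) := fun x => i₁ (wS x)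
  let A : alternatingGroup (Fin n) → FreeGroup (X ⊕ Y) := fun x => i₂ (wA x)
  let K : Cfsg.SU 3 F q → FreeGroup (X ⊕ Y) := fun x => A (kN hn) * S x * (A (kN hn))⁻¹
  let extra : List (FreeGroup (X ⊕ Y)) :=
    [A (cN hn) * (S (C3 F q))⁻¹, A (eN hn) * S a * (A (eN hn))⁻¹ * (S a')⁻¹,
      A (eN hn) * S b * (A (eN hn))⁻¹ * (S b')⁻¹, cw (S a) (K a), cw (S a) (K b), cw (S b) (K b)]
  let L := LS.map i₁ ++ LA.map i₂ ++ extra ++ l.map (fun σ => cw (A σ) (S a)) ++
    l.map (fun σ => cw (A σ) (S b))
  let v : X ⊕ Y → Cfsg.SU n F q := Sum.elim (fun x => blk hn (vS x)) (fun y => permSU (vA y))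
  have vS' : ∀ z, FreeGroup.lift v (S z) = blk hn z :=
    lift_word Sum.inl wS hwS v (blk hn) fun _ => rfl
  have vA' : ∀ z, FreeGroup.lift v (A z) = permSU z :=
    lift_word Sum.inr wA hwA v permSU fun _ => rfl
  have hkills : Kills v L := by
    have hK : ∀ z ∈ W F q, FreeGroup.lift v (K z) ∈ Sp ({cd hn 2, cd hn 3} : Finset (Fin n)) := by
      intro z hz
      simp only [K, map_mul, map_inv, vA', vS']
      refine Sp_mono ?_ (conj_perm_Sp (blk_W_mem_Sp hn hz))
      simp [Finset.insert_subset_iff, kN_0, kN_1]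
    have hdis : Disjoint ({cd hn 0, cd hn 1} : Finset (Fin n)) {cd hn 2, cd hn 3} := by
      simp [cd_ne hn (show (2 : Fin 4) ≠ 0 by decide), cd_ne hn (show (3 : Fin 4) ≠ 0 by decide),
        cd_ne hn (show (2 : Fin 4) ≠ 1 by decide), cd_ne hn (show (3 : Fin 4) ≠ 1 by decide)]
    have hst : ∀ σ ∈ l, ∀ z ∈ W F q, Commute (permSU σ) (blk hn z : Cfsg.SU n F q) := by
      intro σ hσ z hz
      refine (commute_of_disjoint hF (disjoint_compl_right (a := ({cd hn 0, cd hn 1} : Finset (Fin n))))
        (blk_W_mem_Sp hn hz) (permSU_mem_Sp σ ?_)).symm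
      intro o ho
      simp only [Finset.mem_compl, not_not, Finset.mem_insert, Finset.mem_singleton] at ho
      rcases ho with rfl | rfl
      · exact (hlfix σ hσ).1
      · exact (hlfix σ hσ).2
    intro w hw
    simp only [L, List.mem_append, List.mem_map] at hw
    rcases hw with (((⟨u, hu, rfl⟩ | ⟨u, hu, rfl⟩) | hw) | ⟨σ, hσ, rfl⟩) | ⟨σ, hσ, rfl⟩
    · rw [lift_map_gen]
      show FreeGroup.lift (fun x => blk hn (vS x)) u = 1
      rw [← hom_lift (blk hn) (v := vS) (fun _ => rfl), hkS u hu, map_one]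
    · rw [lift_map_gen]
      show FreeGroup.lift (fun y => permSU (vA y)) u = 1
      rw [← hom_lift permSU (v := vA) (fun _ => rfl), hkA u hu, map_one]
    · simp only [extra, List.mem_cons, List.not_mem_nil, or_false] at hw
      rcases hw with rfl | rfl | rfl | rfl | rfl | rfl
      · rw [map_mul, map_inv, vA', vS', mul_inv_eq_one, permSU_cN]
      · rw [map_mul, map_mul, map_mul, map_inv, map_inv, vA', vS', vS', hea, mul_inv_cancel]
      · rw [map_mul, map_mul, map_mul, map_inv, map_inv, vA', vS', vS', heb, mul_inv_cancel]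
      · rw [lift_cw_eq_one, vS']; exact commute_of_disjoint hF hdis (blk_W_mem_Sp hn ha) (hK a ha)
      · rw [lift_cw_eq_one, vS']; exact commute_of_disjoint hF hdis (blk_W_mem_Sp hn ha) (hK b hb)
      · rw [lift_cw_eq_one, vS']; exact commute_of_disjoint hF hdis (blk_W_mem_Sp hn hb) (hK b hb)
    · rw [lift_cw_eq_one, vA', vS']; exact hst σ hσ a ha
    · rw [lift_cw_eq_one, vA', vS']; exact hst σ hσ b hb
  have hgen : Subgroup.closure (Set.range v) = ⊤ := by
    refine gen_top hF hn _ (fun z => ?_) (fun π => ?_)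
    · rw [← vS', ← FreeGroup.range_lift_eq_closure]; exact ⟨_, rfl⟩
    · rw [← vA', ← FreeGroup.range_lift_eq_closure]; exact ⟨_, rfl⟩
  refine (presOn_of_inj v L hkills hgen fun G _ φ f hφ hgen' hk => ?_).mono (by
    simp only [L, extra, List.length_append, List.length_map, List.length_cons, List.length_nil]
    omega)
  have mem₁ : ∀ u ∈ LS, i₁ u ∈ L := fun u hu => by
    simp only [L, List.mem_append]; exact Or.inl (Or.inl (Or.inl (Or.inl (List.mem_map_of_mem hu))))
  have mem₂ : ∀ u ∈ LA, i₂ u ∈ L := fun u hu => by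
    simp only [L, List.mem_append]; exact Or.inl (Or.inl (Or.inl (Or.inr (List.mem_map_of_mem hu))))
  obtain ⟨ψ, hψ⟩ := huS G (fun x => f (Sum.inl x)) fun u hu => by
    rw [← lift_map_gen]; exact hk _ (mem₁ u hu)
  obtain ⟨R, hR⟩ := huA G (fun y => f (Sum.inr y)) fun u hu => by
    rw [← lift_map_gen]; exact hk _ (mem₂ u hu)
  have eS : ∀ z, FreeGroup.lift f (S z) = ψ z := lift_word Sum.inl wS hwS f ψ hψ
  have eA : ∀ z, FreeGroup.lift f (A z) = R z := lift_word Sum.inr wA hwA f R hR
  have hex : ∀ w ∈ extra, FreeGroup.lift f w = 1 := fun w hw => hk w (by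
    simp only [L, List.mem_append]; exact Or.inl (Or.inl (Or.inr hw)))
  have h1 := hex (A (cN hn) * (S (C3 F q))⁻¹) (by simp [extra])
  have h4a := hex (A (eN hn) * S a * (A (eN hn))⁻¹ * (S a')⁻¹) (by simp [extra])
  have h4b := hex (A (eN hn) * S b * (A (eN hn))⁻¹ * (S b')⁻¹) (by simp [extra])
  have haa := hex (cw (S a) (K a)) (by simp [extra])
  have hab' := hex (cw (S a) (K b)) (by simp [extra])
  have hbb := hex (cw (S b) (K b)) (by simp [extra])
  simp only [map_mul, map_inv, eS, eA, mul_inv_eq_one] at h1 h4a h4b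
  simp only [lift_cw_eq_one, K, map_mul, map_inv, eS, eA] at haa hab' hbb
  have hψ' : ∀ z, φ (ψ z) = blk hn z := fun z => by
    rw [← eS, hom_lift φ hφ, vS']
  have hR' : ∀ π, φ (R π) = permSU π := fun π => by
    rw [← eA, hom_lift φ hφ, vA']
  have hgenΓ : ⊤ ≤ Subgroup.closure (Set.range ψ ∪ Set.range R) := by
    rw [← hgen']
    refine Subgroup.closure_mono ?_
    rintro _ ⟨(x | y), rfl⟩
    · exact Or.inl ⟨vS x, hψ x⟩
    · exact Or.inr ⟨vA y, hR y⟩
  refine Glue.injective hF (mkGlue hn φ ψ R hψ' hR' hgenΓ h1 ha hb hab hl (fun σ hσ => ⟨?_, ?_⟩)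
    ⟨⟨a', ha', h4a⟩, b', hb', h4b⟩ ⟨haa, hab', hbb⟩ (fun h => absurd h h2) (fun h => absurd h h2)
    (fun h => absurd h h2)) (fun h => absurd h h2) (fun h => absurd h h2) (fun h => absurd h h3)
  · have := hk (cw (A σ) (S a)) (by
      simp only [L, List.mem_append]; exact Or.inl (Or.inr (List.mem_map.2 ⟨σ, hσ, rfl⟩)))
    rwa [lift_cw_eq_one, eA, eS] at this
  · have := hk (cw (A σ) (S b)) (by
      simp only [L, List.mem_append]; exact Or.inr (List.mem_map.2 ⟨σ, hσ, rfl⟩))
    rwa [lift_cw_eq_one, eA, eS] at this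

include hF in
theorem presOn_three_gens (h2 : q ≠ 2) (h3 : q ≠ 3) : PresOn (Fin 3) (Cfsg.SU 3 F q) 22 := by
  by_cases h5 : q = 5
  · subst h5; exact SmallThree.presOn_five hF
  · obtain ⟨rels, hc, ⟨e⟩⟩ := (CfsgLib.SU3Pres.presentations hF h2 h3 h5).1
    exact PresOn.of_iso rels hc e

include hF in
/-- Six generators for `q ≥ 4`. -/
theorem presOn_large (hn : 4 ≤ n) (h2 : q ≠ 2) (h3 : q ≠ 3) :
    PresOn (Fin 6) (Cfsg.SU n F q) (if n = 4 then 32 else if n = 5 then 34 else 39) := by
  refine ((presOn_glue hF hn h2 h3 (presOn_three_gens hF h2 h3) (presOn_alt_three_gens hn)).reindex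
    finSumFinEquiv).mono ?_
  split_ifs <;> omega

include hF in
/-- The centre is the normal closure of one element. -/
theorem center_normalClosure (hn : 3 ≤ n) :
    ∃ z, Subgroup.center (Cfsg.SU n F q) = Subgroup.normalClosure {z} := by
  obtain ⟨e, f, p⟩ := exists_pair_std hF hn
  let o : Fin n := ⟨0, by omega⟩
  have hsc : ∀ g : Subgroup.center (Cfsg.SU n F q), ∀ x : Fin n → F,
      act g.1 x = act g.1 (ev o) o • x := by
    intro g
    have hm : suEquivRoot hF hn g.1 ∈ Subgroup.center (rootGen (stdHerm hF n)) :=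
      Subgroup.mem_center_iff.2 fun b => by
        obtain ⟨b, rfl⟩ := (suEquivRoot hF hn).surjective b
        rw [← map_mul, ← map_mul, Subgroup.mem_center_iff.1 g.2]
    obtain ⟨μ, -, hμ⟩ := (mem_center_rootGen_iff_scalar (big_std hF hn) p _).1 hm
    have h : ∀ x, act g.1 x = μ • x := fun x => (suEquiv_apply hF n g.1 x).symm.trans (hμ x)
    intro x
    rw [h, h (ev o)]
    simp
  let χ : Subgroup.center (Cfsg.SU n F q) →* F :=
    { toFun := fun g => act g.1 (ev o) o
      map_one' := by simp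
      map_mul' := fun g h => by
        show act (g.1 * h.1) (ev o) o = _
        rw [act_mul, hsc h (ev o), act_smul]
        simp [mul_comm] }
  haveI : IsCyclic (Subgroup.center (Cfsg.SU n F q)) := isCyclic_of_subgroup_isDomain χ fun g h e =>
    Subtype.ext (ext_ev fun i => by
      rw [hsc g, hsc h]
      exact congrArg (· • (ev i : Fin n → F)) e)
  obtain ⟨z, hz⟩ := IsCyclic.exists_generator (α := Subgroup.center (Cfsg.SU n F q))
  refine ⟨(z : Cfsg.SU n F q), le_antisymm (fun g hg => ?_) (Subgroup.normalClosure_le_normal (by simp))⟩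
  obtain ⟨k, hk⟩ := Subgroup.mem_zpowers_iff.1 (hz ⟨g, hg⟩)
  have hk' := congrArg Subtype.val hk
  simp only [Subgroup.coe_zpow] at hk'
  rw [← hk']
  exact zpow_mem (Subgroup.subset_normalClosure (Set.mem_singleton _)) k

end CfsgLib.SUnPres
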