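import Cfsg.Agent.Lib.SUnPres.Glue

/-!
The map of a gluing is injective.
-/

set_option autoImplicit false
set_option linter.unusedSectionVars false

namespace CfsgLib.SUnPres

open CfsgLib.Classical.Herm
open Finset Equiv

attribute [-simp] qPow_apply

variable {F : Type*} [Field F] [Fintype F] {q m n : ℕ}

theorem emb_emb {l : ℕ} (f : Fin l ↪ Fin m) (e : Fin m ↪ Fin n) (a : Cfsg.SU l F q) :
    emb e (emb f a) = emb (f.trans e) a := by
  refine ext_ev fun i => funext fun o => ?_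
  by_cases ho : o ∈ Set.range e
  · obtain ⟨y, rfl⟩ := ho
    rw [act_emb_in]
    by_cases hy : y ∈ Set.range f
    · obtain ⟨x, rfl⟩ := hy
      rw [act_emb_in]
      exact (act_emb_in (f.trans e) a (ev i) x).symm
    · rw [act_emb_out _ _ _ hy, act_emb_out _ _ _]
      rintro ⟨x, hx⟩
      exact hy ⟨x, e.injective hx⟩
  · rw [act_emb_out _ _ _ ho, act_emb_out _ _ _]
    rintro ⟨x, hx⟩
    exact ho ⟨f x, hx⟩

/-- Even permutations extended by a fixed last point. -/
def upA (m : ℕ) : alternatingGroup (Fin m) →* alternatingGroup (Fin (m + 1)) :=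
  ((Perm.extendDomainHom (Fin.castSuccEmb (n := m)).toEquivRange).comp
    (alternatingGroup (Fin m)).subtype).codRestrict (alternatingGroup (Fin (m + 1))) fun a => by
    rw [Perm.mem_alternatingGroup]
    exact (Perm.sign_extendDomain _ _).trans (Perm.mem_alternatingGroup.1 a.2)

theorem upA_castSucc (a : alternatingGroup (Fin m)) (x : Fin m) :
    (upA m a : Perm (Fin (m + 1))) x.castSucc = ((a : Perm (Fin m)) x).castSucc :=
  Perm.extendDomain_apply_image _ (Fin.castSuccEmb (n := m)).toEquivRange x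

theorem upA_last (a : alternatingGroup (Fin m)) :
    (upA m a : Perm (Fin (m + 1))) (Fin.last m) = Fin.last m :=
  Perm.extendDomain_apply_not_subtype _ _ (by rintro ⟨x, hx⟩; exact Fin.castSucc_ne_last x hx)

theorem upA_tri {a b c : Fin m} (hab : a ≠ b) (hbc : b ≠ c) :
    upA m (tri a b c hab hbc) = tri a.castSucc b.castSucc c.castSucc
      ((Fin.castSucc_injective m).ne hab) ((Fin.castSucc_injective m).ne hbc) := by
  refine Subtype.ext (Equiv.ext fun x => ?_)
  refine Fin.lastCases ?_ (fun y => ?_) x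
  · rw [upA_last]
    show Fin.last m = swap a.castSucc b.castSucc (swap b.castSucc c.castSucc (Fin.last m))
    rw [swap_apply_of_ne_of_ne (Fin.castSucc_ne_last b).symm (Fin.castSucc_ne_last c).symm,
      swap_apply_of_ne_of_ne (Fin.castSucc_ne_last a).symm (Fin.castSucc_ne_last b).symm]
  · rw [upA_castSucc]
    show (swap a b (swap b c y)).castSucc = swap a.castSucc b.castSucc (swap b.castSucc c.castSucc y.castSucc)
    rw [← (Fin.castSucc_injective m).swap_apply, ← (Fin.castSucc_injective m).swap_apply]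

theorem upA_dbl {a b c d : Fin m} (hab : a ≠ b) (hcd : c ≠ d) :
    upA m (dbl a b c d hab hcd) = dbl a.castSucc b.castSucc c.castSucc d.castSucc
      ((Fin.castSucc_injective m).ne hab) ((Fin.castSucc_injective m).ne hcd) := by
  refine Subtype.ext (Equiv.ext fun x => ?_)
  refine Fin.lastCases ?_ (fun y => ?_) x
  · rw [upA_last]
    show Fin.last m = swap a.castSucc b.castSucc (swap c.castSucc d.castSucc (Fin.last m))
    rw [swap_apply_of_ne_of_ne (Fin.castSucc_ne_last c).symm (Fin.castSucc_ne_last d).symm,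
      swap_apply_of_ne_of_ne (Fin.castSucc_ne_last a).symm (Fin.castSucc_ne_last b).symm]
  · rw [upA_castSucc]
    show (swap a b (swap c d y)).castSucc = swap a.castSucc b.castSucc (swap c.castSucc d.castSucc y.castSucc)
    rw [← (Fin.castSucc_injective m).swap_apply, ← (Fin.castSucc_injective m).swap_apply]

theorem permSU_upA (a : alternatingGroup (Fin m)) :
    (permSU (upA m a) : Cfsg.SU (m + 1) F q) = emb Fin.castSuccEmb (permSU a) := by
  refine ext_ev fun i => funext fun o => ?_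
  rw [act_permSU_apply]
  refine Fin.lastCases ?_ (fun y => ?_) o
  · rw [act_emb_out _ _ _ (by rintro ⟨x, hx⟩; exact Fin.castSucc_ne_last x hx),
      show (upA m a : Perm (Fin (m + 1))).symm (Fin.last m) = Fin.last m from
        (Equiv.symm_apply_eq _).2 (upA_last a).symm]
  · have h := act_emb_in (F := F) (q := q) (Fin.castSuccEmb (n := m)) (permSU a) (ev i) y
    rw [act_permSU_apply] at h
    refine Eq.trans ?_ h.symm
    congr 1
    rw [Equiv.symm_apply_eq]
    show y.castSucc = (upA m a : Perm (Fin (m + 1))) ((a : Perm (Fin m)).symm y).castSucc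
    rw [upA_castSucc, Equiv.apply_symm_apply]

namespace Glue

variable {G : Type*} [Group G] {hn : 4 ≤ n} (hF : Fintype.card F = q ^ 2)

/-- Injectivity on the part over the first coordinates. -/
def SubInj (Γ : Glue G F q n hn) (k : ℕ) : Prop :=
  ∀ x ∈ Subgroup.closure (Set.range Γ.ψ ∪ Γ.R '' {σ | ∀ i : Fin n, k ≤ (i : ℕ) → (σ : Perm (Fin n)) i = i}),
    Γ.φ x = 1 → x = 1

/-- The subgroup off the last coordinate. -/
def Gs {h : 4 ≤ m + 1} (Γ : Glue G F q (m + 1) h) : Subgroup G :=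
  Subgroup.closure (Set.range Γ.ψ ∪ Set.range (Γ.R.comp (upA m)))

section Sub

variable (hm : 4 ≤ m) {h' : 4 ≤ m + 1} (Γ : Glue G F q (m + 1) h')

theorem psi_mem_Gs (v : Cfsg.SU 3 F q) : Γ.ψ v ∈ Γ.Gs := Subgroup.subset_closure (Or.inl ⟨v, rfl⟩)

theorem R_mem_Gs (a : alternatingGroup (Fin m)) : Γ.R (upA m a) ∈ Γ.Gs :=
  Subgroup.subset_closure (Or.inr ⟨a, rfl⟩)

theorem f3_castSucc (h' : 4 ≤ m + 1) (x : Fin 3) : (f3 (n := m) hm x).castSucc = f3 h' x := rfl

include hm in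
theorem phi_mem_range (x : Γ.Gs) :
    (Γ.φ.comp Γ.Gs.subtype) x ∈ (emb (F := F) (q := q) (Fin.castSuccEmb (n := m))).range := by
  refine (Subgroup.closure_le ((emb (Fin.castSuccEmb (n := m))).range.comap Γ.φ)).2 ?_ x.2
  rintro _ (⟨v, rfl⟩ | ⟨a, rfl⟩)
  · exact ⟨emb (Fin.castLEEmb (show 3 ≤ m by omega)) v, by rw [Γ.hψ, blk, emb_emb]; rfl⟩
  · exact ⟨permSU a, by simp [Γ.hR, permSU_upA]⟩

/-- The map of the subgroup to the smaller group. -/
noncomputable def phiSub : Γ.Gs →* Cfsg.SU m F q :=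
  (MonoidHom.ofInjective (emb_injective (F := F) (q := q) (Fin.castSuccEmb (n := m)))).symm.toMonoidHom.comp
    ((Γ.φ.comp Γ.Gs.subtype).codRestrict _ (Γ.phi_mem_range hm))

theorem emb_phiSub (x : Γ.Gs) : emb Fin.castSuccEmb ((Γ.phiSub hm) x) = Γ.φ x := by
  have := MonoidHom.apply_ofInjective_symm (emb_injective (F := F) (q := q) (Fin.castSuccEmb (n := m)))
    (((Γ.φ.comp Γ.Gs.subtype).codRestrict _ (Γ.phi_mem_range hm)) x)
  exact this

/-- The gluing off the last coordinate. -/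
noncomputable def sub : Glue Γ.Gs F q m hm where
  φ := (Γ.phiSub hm)
  ψ := Γ.ψ.codRestrict _ Γ.psi_mem_Gs
  R := (Γ.R.comp (upA m)).codRestrict _ Γ.R_mem_Gs
  hψ a := by
    apply emb_injective (Fin.castSuccEmb (n := m))
    rw [emb_phiSub hm, blk, emb_emb]
    exact Γ.hψ a
  hR a := by
    apply emb_injective (Fin.castSuccEmb (n := m))
    rw [emb_phiSub hm, ← permSU_upA]
    exact Γ.hR _
  gen := by
    rintro ⟨x, hx⟩ -
    have key : ∀ y ∈ Γ.Gs, ∃ h : y ∈ Γ.Gs, (⟨y, h⟩ : Γ.Gs) ∈ Subgroup.closure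
        (Set.range (Γ.ψ.codRestrict Γ.Gs Γ.psi_mem_Gs) ∪
          Set.range ((Γ.R.comp (upA m)).codRestrict Γ.Gs Γ.R_mem_Gs)) := by
      intro y hy
      induction hy using Subgroup.closure_induction with
      | mem z hz =>
        refine ⟨Subgroup.subset_closure hz, Subgroup.subset_closure ?_⟩
        rcases hz with ⟨v, rfl⟩ | ⟨a, rfl⟩
        · exact Or.inl ⟨v, rfl⟩
        · exact Or.inr ⟨a, rfl⟩
      | one => exact ⟨one_mem _, one_mem _⟩
      | mul a b _ _ ha hb => exact ⟨mul_mem ha.1 hb.1, mul_mem ha.2 hb.2⟩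
      | inv a _ ha => exact ⟨inv_mem ha.1, inv_mem ha.2⟩
    exact (key x hx).2
  r1 := by
    refine Subtype.ext ?_
    show Γ.R (upA m (cN hm)) = Γ.ψ (C3 F q)
    rw [cN, upA_tri]
    exact Γ.r1
  stab σ h0 h1 u hu := by
    refine Subtype.ext (Γ.stab (upA m σ) ?_ ?_ u hu).eq
    · exact (upA_castSucc σ (cd hm 0)).trans (congrArg Fin.castSucc h0)
    · exact (upA_castSucc σ (cd hm 1)).trans (congrArg Fin.castSucc h1)
  r4 u hu := by
    obtain ⟨u', hu', he⟩ := Γ.r4 u hu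
    refine ⟨u', hu', Subtype.ext ?_⟩
    show Γ.R (upA m (eN hm)) * Γ.ψ u * (Γ.R (upA m (eN hm)))⁻¹ = Γ.ψ u'
    rw [eN, upA_dbl]
    exact he
  disj u hu u' hu' := by
    refine Subtype.ext ?_
    show Γ.ψ u * (Γ.R (upA m (kN hm)) * Γ.ψ u' * (Γ.R (upA m (kN hm)))⁻¹) =
      Γ.R (upA m (kN hm)) * Γ.ψ u' * (Γ.R (upA m (kN hm)))⁻¹ * Γ.ψ u
    rw [kN, upA_dbl]
    exact (Γ.disj u hu u' hu').eq
  vstab₂ h2 σ hσ v := Subtype.ext (Γ.vstab₂ h2 (upA m σ)
    (fun i => (upA_castSucc σ (f3 hm i)).trans (congrArg Fin.castSucc (hσ i))) v).eq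
  uv₂ h2 π hπ u hu v := Subtype.ext (Γ.uv₂ h2 (upA m π)
    (fun i => ⟨fun e => (hπ i).1 (Fin.castSucc_injective m ((upA_castSucc π (f3 hm i)).symm.trans e)),
      fun e => (hπ i).2 (Fin.castSucc_injective m ((upA_castSucc π (f3 hm i)).symm.trans e))⟩) u hu v).eq
  vv₂ h2 π hπ v v' := Subtype.ext (Γ.vv₂ h2 (upA m π)
    (fun i j e => hπ i j (Fin.castSucc_injective m ((upA_castSucc π (f3 hm i)).symm.trans e))) v v').eq

theorem sub_subInj {k : ℕ} (hk : k ≤ m) (h : Γ.SubInj k) : (Γ.sub hm).SubInj k := by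
  intro x hx hx1
  refine Subtype.ext (h x.1 ?_ (by rw [← emb_phiSub hm]; exact (congrArg _ hx1).trans (map_one _)))
  refine (Subgroup.closure_le (Subgroup.comap Γ.Gs.subtype (Subgroup.closure (Set.range Γ.ψ ∪
    Γ.R '' {σ | ∀ i : Fin (m + 1), k ≤ (i : ℕ) → (σ : Perm (Fin (m + 1))) i = i})))).2 ?_ hx
  rintro _ (⟨v, rfl⟩ | ⟨σ, hσ, rfl⟩)
  · exact Subgroup.subset_closure (Or.inl ⟨v, rfl⟩)
  · refine Subgroup.subset_closure (Or.inr ⟨upA m σ, fun i hi => ?_, rfl⟩)
    refine Fin.lastCases (motive := fun i => k ≤ (i : ℕ) → (upA m σ : Perm (Fin (m + 1))) i = i)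
      (fun _ => upA_last σ) (fun y hy => ?_) i hi
    rw [upA_castSucc, hσ y hy]

include hF hm in
theorem L_le_Gs (h5 : q = 2 → 5 ≤ m) :
    Γ.L (univ.erase (last h')) ≤ Γ.Gs := by
  have hn' : 4 ≤ m + 1 := h'
  have hlast : last hn' = Fin.last m := rfl
  have hpre : ∀ {i : Fin (m + 1)}, i ∈ univ.erase (last hn') → ∃ y : Fin m, y.castSucc = i := fun hi =>
    Fin.exists_castSucc_eq.2 (hlast ▸ Finset.ne_of_mem_erase hi)
  have hU : Γ.genU (univ.erase (last hn')) ⊆ (Γ.Gs : Set G) := by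
    rintro x ⟨π, h0, h1, u, hu, rfl⟩
    obtain ⟨a, ha⟩ := hpre h0
    obtain ⟨b, hb⟩ := hpre h1
    have hab : a ≠ b := fun e => (π : Perm (Fin (m + 1))).injective.ne (cd_ne hn' (show (0 : Fin 4) ≠ 1 by decide))
      (by rw [← ha, ← hb, e])
    obtain ⟨ρ, r0, r1⟩ := exists_even_pair hm hab
    rw [Γ.cj_congr (ρ := upA m ρ) ?_ ?_ hu, cj_apply]
    · exact mul_mem (mul_mem (Γ.R_mem_Gs ρ) (Γ.psi_mem_Gs u)) (inv_mem (Γ.R_mem_Gs ρ))
    · rw [← ha]; exact ((upA_castSucc ρ (cd hm 0)).trans (congrArg Fin.castSucc r0)).symm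
    · rw [← hb]; exact ((upA_castSucc ρ (cd hm 1)).trans (congrArg Fin.castSucc r1)).symm
  by_cases h2 : q = 2
  swap
  · exact le_trans (Γ.L_le_genU hF h2 _) ((Subgroup.closure_le _).2 hU)
  rw [L, Subgroup.closure_le]
  rintro x (hx | ⟨π, hπ, v, rfl⟩)
  · exact hU hx
  obtain ⟨a, ha⟩ := hpre (hπ 0)
  obtain ⟨b, hb⟩ := hpre (hπ 1)
  obtain ⟨c, hc⟩ := hpre (hπ 2)
  have hne : ∀ {i j : Fin 3}, i ≠ j → (π : Perm (Fin (m + 1))) (f3 hn' i) ≠ (π : Perm (Fin (m + 1))) (f3 hn' j) :=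
    fun h => (π : Perm (Fin (m + 1))).injective.ne ((f3 hn').injective.ne h)
  obtain ⟨τ, t0, t1, t2⟩ := exists_perm_three (a := f3 hm 0) (b := f3 hm 1) (c := f3 hm 2) a b c
    ((f3 hm).injective.ne (by decide)) ((f3 hm).injective.ne (by decide)) ((f3 hm).injective.ne (by decide))
    (fun e => hne (show (0 : Fin 3) ≠ 1 by decide) (by rw [← ha, ← hb, e]))
    (fun e => hne (show (0 : Fin 3) ≠ 2 by decide) (by rw [← ha, ← hc, e]))
    (fun e => hne (show (1 : Fin 3) ≠ 2 by decide) (by rw [← hb, ← hc, e]))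
  obtain ⟨o, ho⟩ := exists_third hm {f3 hm 0, f3 hm 1, f3 hm 2}
    (lt_of_le_of_lt Finset.card_le_three (by omega))
  obtain ⟨o', ho'⟩ := exists_third hm {f3 hm 0, f3 hm 1, f3 hm 2, o}
    (lt_of_le_of_lt Finset.card_le_four (by have := h5 h2; omega))
  simp only [Finset.mem_insert, Finset.mem_singleton, not_or] at ho ho'
  obtain ⟨ρ, hρ⟩ := exists_even_map τ (Ne.symm ho'.2.2.2)
  have hfix : ∀ i : Fin 3, (upA m ρ : Perm (Fin (m + 1))) (f3 hn' i) = (π : Perm (Fin (m + 1))) (f3 hn' i) := by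
    intro i
    have e := upA_castSucc ρ (f3 hm i)
    rw [f3_castSucc hm hn'] at e
    rw [e]
    fin_cases i
    · exact (congrArg Fin.castSucc ((hρ _ (Ne.symm ho.1) (Ne.symm ho'.1)).trans t0)).trans ha
    · exact (congrArg Fin.castSucc ((hρ _ (Ne.symm ho.2.1) (Ne.symm ho'.2.1)).trans t1)).trans hb
    · exact (congrArg Fin.castSucc ((hρ _ (Ne.symm ho.2.2) (Ne.symm ho'.2.2.1)).trans t2)).trans hc
  have he : π = upA m ρ * ((upA m ρ)⁻¹ * π) := by group
  rw [SetLike.mem_coe, he, cj_mul, Γ.cj_of_commute (Γ.vstab hF _ (fun i => ?_) v), cj_apply]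
  · exact mul_mem (mul_mem (Γ.R_mem_Gs ρ) (Γ.psi_mem_Gs v)) (inv_mem (Γ.R_mem_Gs ρ))
  · simp only [Subgroup.coe_mul, Subgroup.coe_inv, Perm.mul_apply]
    rw [← hfix i, Perm.inv_def, Equiv.symm_apply_apply]

end Sub

theorem psi_injective (Γ : Glue G F q n hn) : Function.Injective Γ.ψ := fun a b h =>
  emb_injective (f3 hn) ((Γ.hψ a).symm.trans ((congrArg Γ.φ h).trans (Γ.hψ b)))

include hF in
theorem L_le_range_four (Γ : Glue G F q n hn) (h4 : n = 4) (h2 : q ≠ 2) :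
    Γ.L (univ.erase (last hn)) ≤ Γ.ψ.range := by
  refine le_trans (Γ.L_le_genU hF h2 _) ((Subgroup.closure_le _).2 ?_)
  rintro x ⟨π, h0, h1, u, hu, rfl⟩
  have hlast : last hn = cd hn 3 := Fin.ext (show n - 1 = 3 by omega)
  have hmem : ∀ {i : Fin n}, i ∈ univ.erase (last hn) → i = cd hn 0 ∨ i = cd hn 1 ∨ i = cd hn 2 := by
    intro i hi
    have h := Finset.ne_of_mem_erase hi
    rw [hlast] at h
    subst h4
    revert h
    clear hi
    revert i
    show ∀ {i : Fin 4}, i ≠ 3 → i = 0 ∨ i = 1 ∨ i = 2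
    decide
  have hne : (π : Perm (Fin n)) (cd hn 0) ≠ (π : Perm (Fin n)) (cd hn 1) :=
    (π : Perm (Fin n)).injective.ne (cd_ne hn (by decide))
  have key : ∀ k : ℕ, ((((cN hn) ^ k)⁻¹ * π : alternatingGroup (Fin n)).1 (cd hn 0) = cd hn 0 ∨
      (((cN hn) ^ k)⁻¹ * π : alternatingGroup (Fin n)).1 (cd hn 0) = cd hn 1) →
      ((((cN hn) ^ k)⁻¹ * π : alternatingGroup (Fin n)).1 (cd hn 1) = cd hn 0 ∨
      (((cN hn) ^ k)⁻¹ * π : alternatingGroup (Fin n)).1 (cd hn 1) = cd hn 1) →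
      Γ.cj π (Γ.ψ u) ∈ Γ.ψ.range := by
    intro k a b
    obtain ⟨u', hu', he⟩ := Γ.cj_setwise a b hu
    rw [show Γ.cj π (Γ.ψ u) = Γ.cj ((cN hn) ^ k) (Γ.cj (((cN hn) ^ k)⁻¹ * π) (Γ.ψ u)) by
      rw [← cj_mul, mul_inv_cancel_left], he, cj_apply, map_pow, Γ.r1, ← map_pow, ← map_mul, ← map_inv,
      ← map_mul]
    exact ⟨_, rfl⟩
  have inv1 : ∀ {i j : Fin n} {τ : alternatingGroup (Fin n)}, (τ : Perm (Fin n)) i = j →
      (τ⁻¹ : alternatingGroup (Fin n)).1 j = i := by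
    intro i j τ h
    rw [Subgroup.coe_inv, Perm.inv_def, Equiv.symm_apply_eq, h]
  have q2 : ∀ {i j l : Fin n}, (cN hn : Perm (Fin n)) i = j → (cN hn : Perm (Fin n)) j = l →
      ((cN hn) ^ 2 : alternatingGroup (Fin n)).1 i = l := by
    intro i j l a b
    rw [pow_two, Subgroup.coe_mul, Perm.mul_apply, a, b]
  rcases hmem h0 with a | a | a <;> rcases hmem h1 with b | b | b
  all_goals first | exact absurd (a.trans b.symm) hne | skip
  · exact key 0 (by simp [a]) (by simp [b])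
  · refine key 2 (Or.inr ?_) (Or.inl ?_) <;> rw [Subgroup.coe_mul, Perm.mul_apply]
    · rw [a]; exact inv1 (q2 (cN_1 hn) (cN_2 hn))
    · rw [b]; exact inv1 (q2 (cN_0 hn) (cN_1 hn))
  · exact key 0 (by simp [a]) (by simp [b])
  · refine key 1 (Or.inl ?_) (Or.inr ?_) <;> rw [pow_one, Subgroup.coe_mul, Perm.mul_apply]
    · rw [a]; exact inv1 (cN_0 hn)
    · rw [b]; exact inv1 (cN_1 hn)
  · refine key 2 (Or.inl ?_) (Or.inr ?_) <;> rw [Subgroup.coe_mul, Perm.mul_apply]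
    · rw [a]; exact inv1 (q2 (cN_0 hn) (cN_1 hn))
    · rw [b]; exact inv1 (q2 (cN_1 hn) (cN_2 hn))
  · refine key 1 (Or.inr ?_) (Or.inl ?_) <;> rw [pow_one, Subgroup.coe_mul, Perm.mul_apply]
    · rw [a]; exact inv1 (cN_1 hn)
    · rw [b]; exact inv1 (cN_0 hn)

include hF in
/-- The map of a gluing is injective. -/
theorem injective : ∀ {n : ℕ} {hn : 4 ≤ n} {G : Type} [Group G] (Γ : Glue G F q n hn),
    (q = 2 → 5 ≤ n) → (q = 2 → Γ.SubInj 5) → (q = 3 → Γ.SubInj 4) → Function.Injective Γ.φ := by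
  intro n
  induction n using Nat.strong_induction_on with
  | _ n ih =>
    intro hn G _ Γ h5 s5 s4
    have whole : ∀ k, n ≤ k → Γ.SubInj k → Function.Injective Γ.φ := by
      intro k hk hs
      refine (injective_iff_map_eq_one Γ.φ).2 fun x hx => hs x ?_ hx
      refine Subgroup.closure_mono (Set.union_subset_union_right _ ?_) (Γ.gen (Subgroup.mem_top x))
      rintro _ ⟨σ, rfl⟩
      exact ⟨σ, fun i hi => absurd hi (by omega), rfl⟩
    by_cases b2 : q = 2 ∧ n = 5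
    · exact whole 5 b2.2.le (s5 b2.1)
    by_cases b3 : q = 3 ∧ n = 4
    · exact whole 4 b3.2.le (s4 b3.1)
    have hsub : ∀ x ∈ Γ.L (univ.erase (last hn)), Γ.φ x = 1 → x = 1 := by
      by_cases h4 : n = 4
      · intro x hx h1
        obtain ⟨v, rfl⟩ := L_le_range_four hF Γ h4 (fun h => absurd (h5 h) (by omega)) hx
        rw [show v = 1 from emb_injective (f3 hn) (by
          rw [map_one]; exact (Γ.hψ v).symm.trans h1), map_one]
      · obtain ⟨m, rfl⟩ : ∃ m, n = m + 1 := ⟨n - 1, by omega⟩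
        have hm : 4 ≤ m := by omega
        have h5' : q = 2 → 5 ≤ m := fun h => by
          have := h5 h
          by_contra hlt
          exact b2 ⟨h, by omega⟩
        intro x hx h1
        have hxs := L_le_Gs hF hm Γ h5' hx
        have hinj := ih m (by omega) (hn := hm) (G := ↥(Gs Γ)) (sub hm Γ) h5'
          (fun h => sub_subInj hm Γ (h5' h) (s5 h)) (fun h => sub_subInj hm Γ hm (s4 h))
        refine congrArg Subtype.val (@hinj ⟨x, hxs⟩ 1 ?_)
        apply emb_injective (Fin.castSuccEmb (n := m))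
        show emb Fin.castSuccEmb (phiSub hm Γ ⟨x, hxs⟩) = _
        rw [emb_phiSub hm, map_one, map_one]
        exact h1
    exact (Γ.frame hF hsub).injective_core hF hn
      (fun h => by
        have := h5 h
        by_contra hlt
        exact b2 ⟨h, by omega⟩)
      (fun h => by
        by_contra hlt
        exact b3 ⟨h, by omega⟩)

end Glue

end CfsgLib.SUnPres
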