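import Cfsg.Agent.Lib.SUnPres.Rec
import Cfsg.Agent.Lib.SUnPres.Gens

/-!
A gluing from relations between generators.
-/

set_option autoImplicit false
set_option linter.unusedSectionVars false

namespace CfsgLib.SUnPres

open CfsgLib.Classical.Herm
open Finset Equiv

attribute [-simp] qPow_apply

variable {F : Type*} [Field F] [Fintype F] {q n : ℕ}

theorem kN_mul_self (hn : 4 ≤ n) : kN hn * kN hn = 1 := by
  apply Subtype.ext
  have hd : ∀ x, swap (cd hn 0) (cd hn 2) x = x ∨ swap (cd hn 1) (cd hn 3) x = x := by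
    intro x
    by_cases h1 : x = cd hn 0
    · subst h1; exact Or.inr (swap_apply_of_ne_of_ne (cd_ne hn (by decide)) (cd_ne hn (by decide)))
    by_cases h2 : x = cd hn 2
    · subst h2; exact Or.inr (swap_apply_of_ne_of_ne (cd_ne hn (by decide)) (cd_ne hn (by decide)))
    exact Or.inl (swap_apply_of_ne_of_ne h1 h2)
  have hc := (Perm.Disjoint.commute hd).eq
  show (swap (cd hn 0) (cd hn 2) * swap (cd hn 1) (cd hn 3)) *
    (swap (cd hn 0) (cd hn 2) * swap (cd hn 1) (cd hn 3)) = 1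
  conv_lhs => arg 2; rw [hc]
  simp [mul_assoc]

/-- The image of a piece element under the double transposition stays in the piece. -/
theorem exists_eN_W (hF : Fintype.card F = q ^ 2) (hn : 4 ≤ n) {u : Cfsg.SU 3 F q} (hu : u ∈ W F q) :
    ∃ u' ∈ W F q, blk hn u' = permSU (eN hn) * blk hn u * (permSU (eN hn))⁻¹ :=
  exists_W_of_mem hF hn (Sp_mono (by
    intro x hx
    simp only [Finset.mem_map, Finset.mem_insert, Finset.mem_singleton, Equiv.coe_toEmbedding] at hx ⊢
    obtain ⟨y, hy, rfl⟩ := hx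
    rcases hy with rfl | rfl
    · exact Or.inr (eN_0 hn)
    · exact Or.inl (eN_1 hn)) (conj_perm_Sp (blk_W_mem_Sp hn hu)))

theorem commute_closure {G H : Type*} [Group G] [Group H] (ψ : H →* G) {x : G} {S : Set H}
    (h : ∀ s ∈ S, Commute x (ψ s)) {u : H} (hu : u ∈ Subgroup.closure S) : Commute x (ψ u) := by
  induction hu using Subgroup.closure_induction with
  | mem s hs => exact h s hs
  | one => rw [map_one]; exact Commute.one_right _
  | mul a b _ _ ha hb => rw [map_mul]; exact ha.mul_right hb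
  | inv a _ ha => rw [map_inv]; exact ha.inv_right

/-- A gluing, from relations on generators. -/
def mkGlue {G : Type*} [Group G] (hn : 4 ≤ n) (φ : G →* Cfsg.SU n F q)
    (ψ : Cfsg.SU 3 F q →* G) (R : alternatingGroup (Fin n) →* G) (hψ : ∀ a, φ (ψ a) = blk hn a)
    (hR : ∀ π, φ (R π) = permSU π) (gen : ⊤ ≤ Subgroup.closure (Set.range ψ ∪ Set.range R))
    (r1 : R (cN hn) = ψ (C3 F q)) {a b : Cfsg.SU 3 F q} (ha : a ∈ W F q) (hb : b ∈ W F q)
    (hab : ∀ u ∈ W F q, u ∈ Subgroup.closure ({a, b} : Set (Cfsg.SU 3 F q)))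
    {l : List (alternatingGroup (Fin n))}
    (hl : ∀ σ : alternatingGroup (Fin n), (σ : Perm (Fin n)) (cd hn 0) = cd hn 0 →
      (σ : Perm (Fin n)) (cd hn 1) = cd hn 1 → σ ∈ Subgroup.closure {x | x ∈ l})
    (hstab : ∀ σ ∈ l, Commute (R σ) (ψ a) ∧ Commute (R σ) (ψ b))
    (he : (∃ u ∈ W F q, R (eN hn) * ψ a * (R (eN hn))⁻¹ = ψ u) ∧
      ∃ u ∈ W F q, R (eN hn) * ψ b * (R (eN hn))⁻¹ = ψ u)
    (hk : Commute (ψ a) (R (kN hn) * ψ a * (R (kN hn))⁻¹) ∧
      Commute (ψ a) (R (kN hn) * ψ b * (R (kN hn))⁻¹) ∧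
      Commute (ψ b) (R (kN hn) * ψ b * (R (kN hn))⁻¹))
    (vstab₂ : q = 2 → ∀ σ : alternatingGroup (Fin n), (∀ i : Fin 3, (σ : Perm (Fin n)) (f3 hn i) = f3 hn i) →
      ∀ v, Commute (R σ) (ψ v))
    (uv₂ : q = 2 → ∀ π : alternatingGroup (Fin n),
      (∀ i : Fin 3, (π : Perm (Fin n)) (f3 hn i) ≠ cd hn 0 ∧ (π : Perm (Fin n)) (f3 hn i) ≠ cd hn 1) →
      ∀ u ∈ W F q, ∀ v, Commute (ψ u) (R π * ψ v * (R π)⁻¹))
    (vv₂ : q = 2 → ∀ π : alternatingGroup (Fin n),
      (∀ i j : Fin 3, (π : Perm (Fin n)) (f3 hn i) ≠ f3 hn j) →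
      ∀ v v', Commute (ψ v) (R π * ψ v' * (R π)⁻¹)) : Glue G F q n hn where
  φ := φ
  ψ := ψ
  R := R
  hψ := hψ
  hR := hR
  gen := gen
  r1 := r1
  stab σ h0 h1 u hu := by
    refine commute_closure ψ ?_ (hab u hu)
    intro s hs
    have key : ∀ t, (∀ τ ∈ l, Commute (R τ) (ψ t)) → Commute (R σ) (ψ t) := fun t ht =>
      (commute_closure R (fun τ hτ => (ht τ hτ).symm) (hl σ h0 h1)).symm
    rcases hs with rfl | rfl
    · exact key _ fun τ hτ => (hstab τ hτ).1
    · exact key _ fun τ hτ => (hstab τ hτ).2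
  r4 u hu := by
    have h := hab u hu
    induction h using Subgroup.closure_induction with
    | mem s hs => rcases hs with rfl | rfl; exacts [he.1, he.2]
    | one => exact ⟨1, one_mem _, by simp⟩
    | mul x y hx hy h1 h2 =>
      have hxW : x ∈ W F q := (Subgroup.closure_le (W F q)).2 (Set.insert_subset ha (Set.singleton_subset_iff.2 hb)) hx
      have hyW : y ∈ W F q := (Subgroup.closure_le (W F q)).2 (Set.insert_subset ha (Set.singleton_subset_iff.2 hb)) hy
      obtain ⟨x', hx', ex⟩ := h1 hxW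
      obtain ⟨y', hy', ey⟩ := h2 hyW
      exact ⟨x' * y', mul_mem hx' hy', by rw [map_mul, map_mul, ← ex, ← ey]; group⟩
    | inv x hx h1 =>
      have hxW : x ∈ W F q := (Subgroup.closure_le (W F q)).2 (Set.insert_subset ha (Set.singleton_subset_iff.2 hb)) hx
      obtain ⟨x', hx', ex⟩ := h1 hxW
      exact ⟨x'⁻¹, inv_mem hx', by rw [map_inv, map_inv, ← ex]; group⟩
  disj u hu u' hu' := by
    have hinv : (R (kN hn))⁻¹ = R (kN hn) := inv_eq_of_mul_eq_one_right (by rw [← map_mul, kN_mul_self, map_one])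
    have hba : Commute (ψ b) (R (kN hn) * ψ a * (R (kN hn))⁻¹) := by
      have h := hk.2.1.map (MulAut.conj (R (kN hn))).toMonoidHom
      simp only [MulEquiv.coe_toMonoidHom, MulAut.conj_apply] at h
      have e : R (kN hn) * (R (kN hn) * ψ b * (R (kN hn))⁻¹) * (R (kN hn))⁻¹ = ψ b := by
        rw [← mul_assoc, ← mul_assoc, ← map_mul, kN_mul_self, map_one, one_mul, hinv, mul_assoc, ← map_mul,
          kN_mul_self, map_one, mul_one]
      rw [e] at h
      exact h.symm
    have step : ∀ s ∈ ({a, b} : Set (Cfsg.SU 3 F q)), Commute (ψ s) (R (kN hn) * ψ u' * (R (kN hn))⁻¹) := by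
      intro s hs
      refine commute_closure ((MulAut.conj (R (kN hn))).toMonoidHom.comp ψ) ?_ (hab u' hu')
      intro t ht
      rcases hs with rfl | rfl <;> rcases ht with rfl | rfl
      · exact hk.1
      · exact hk.2.1
      · exact hba
      · exact hk.2.2
    exact (commute_closure ψ (fun s hs => (step s hs).symm) (hab u hu)).symm
  vstab₂ := vstab₂
  uv₂ := uv₂
  vv₂ := vv₂

end CfsgLib.SUnPres
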