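import Cfsg.Agent.Lib.SUnPres.Pres

/-!
Small special unitary groups of dimension at least four: coded matrices and the counting step.
-/

set_option autoImplicit false
set_option linter.unusedSectionVars false

namespace CfsgLib.SUnPres.SmallFour

open CfsgLib.CosetEnum Equiv
open CfsgLib.BoundedPres (PresOn Kills hom_lift)
open SmallThree (Par Root)

attribute [-simp] CfsgLib.Classical.Herm.qPow_apply

/-! ### Letters -/

/-- The letters made from finitely many elements. -/
def lets {G : Type*} [Group G] {k : ℕ} (f : Fin k → G) (x : ℕ) : G :=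
  if h : x / 2 < k then (if x % 2 = 0 then f ⟨x / 2, h⟩ else (f ⟨x / 2, h⟩)⁻¹) else 1

/-- The partner of a letter. -/
def partner (k x : ℕ) : ℕ := if x < 2 * k then (if x % 2 = 0 then x + 1 else x - 1) else x

theorem lets_out {G : Type*} [Group G] {k : ℕ} (f : Fin k → G) {x : ℕ} (h : 2 * k ≤ x) : lets f x = 1 :=
  dif_neg (by omega)

theorem lets_inv {G : Type*} [Group G] {k ip : ℕ} (f : Fin k → G)
    (hip : ∀ x < 16, linv ip x = partner k x) (x : ℕ) (hx : x < 16) :
    lets f (linv ip x) = (lets f x)⁻¹ := by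
  rw [hip x hx, partner]
  split_ifs with h1 h2
  · have h3 : x / 2 < k := by omega
    have e : (x + 1) / 2 = x / 2 := by omega
    simp only [lets, e, dif_pos h3, if_pos h2, if_neg (show ¬ (x + 1) % 2 = 0 by omega)]
  · have h3 : x / 2 < k := by omega
    have e : (x - 1) / 2 = x / 2 := by omega
    simp only [lets, e, dif_pos h3, if_neg h2, if_pos (show (x - 1) % 2 = 0 by omega), inv_inv]
  · rw [lets_out f (by omega), inv_one]

theorem map_lets {G H : Type*} [Group G] [Group H] (φ : G →* H) {k : ℕ} (f : Fin k → G) (x : ℕ) :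
    φ (lets f x) = lets (fun i => φ (f i)) x := by
  unfold lets
  split_ifs <;> simp

/-- A word as an element of the free group. -/
def wordK (k : ℕ) (l : List ℕ) : FreeGroup (Fin k) := (l.map (lets FreeGroup.of)).prod

theorem lift_wordK {G : Type*} [Group G] {k : ℕ} (f : Fin k → G) (l : List ℕ) :
    FreeGroup.lift f (wordK k l) = (l.map (lets f)).prod := by
  rw [wordK, map_list_prod, List.map_map]
  congr 1
  exact List.map_congr_left fun x _ => by simp [map_lets]

/-- One level of the bound on the order. -/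
theorem step {G : Type} [Group G] {k c ip : ℕ} (hk : 2 * (k + 1) < 16) (f : Fin (k + 1) → G)
    (hgen : Subgroup.closure (Set.range f) = ⊤) (cert : Letters.Cert) (rels sub : List (List ℕ))
    (hc : cert.check ip (2 * (k + 1)) sub rels = true) (hip : ∀ x < 16, linv ip x = partner (k + 1) x)
    (hrel : ∀ l ∈ rels, (l.map (lets f)).prod = 1) (hlt : ∀ l ∈ rels, ∀ x ∈ l, x < 16)
    (hsub : ∀ l ∈ sub, ∃ i : Fin k, l = [2 * i.val])
    (hlow : Finite (Subgroup.closure (Set.range fun i : Fin k => f i.castSucc)) ∧
      Nat.card (Subgroup.closure (Set.range fun i : Fin k => f i.castSucc)) ≤ c) :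
    Finite G ∧ Nat.card G ≤ cert.n * c := by
  have h15 : lets f 15 = 1 := lets_out f (by omega)
  have hcov : CoversCosets (⊤ : Subgroup G) (Subgroup.closure (Set.range fun i : Fin k => f i.castSucc)) cert.n := by
    refine Letters.Cert.covers (g := lets f) h15 (lets_inv f hip)
      (fun x _ => (Nat.lt_or_ge x (2 * (k + 1))).imp id (lets_out f)) ⊤ _ ?_ cert hc
      (fun l hl => ⟨hlt l hl, hrel l hl⟩) (fun l hl => ?_)
    · rw [← hgen, Subgroup.closure_le]
      rintro _ ⟨i, rfl⟩
      refine Subgroup.subset_closure ⟨2 * i.val, ?_, ?_⟩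
      · have := i.isLt
        show 2 * i.val < 16
        omega
      · have hi : 2 * i.val / 2 < k + 1 := by
          have := i.isLt
          omega
        simp only [lets, dif_pos hi, if_pos (show 2 * i.val % 2 = 0 by omega)]
        exact congrArg f (Fin.ext (show 2 * i.val / 2 = i.val by omega))
    · obtain ⟨i, rfl⟩ := hsub l hl
      refine ⟨fun x hx => ?_, ?_⟩
      · rw [List.mem_singleton] at hx
        have := i.isLt
        omega
      · rw [List.map_singleton, List.prod_singleton]
        refine Subgroup.subset_closure ⟨i, ?_⟩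
        have hi : 2 * i.val / 2 < k + 1 := by
          have := i.isLt
          omega
        simp only [lets, dif_pos hi, if_pos (show 2 * i.val % 2 = 0 by omega)]
        exact congrArg f (Fin.ext (show i.val = 2 * i.val / 2 by omega))
  obtain ⟨hfin, hle⟩ := card_le_step hcov hlow rfl
  exact ⟨Finite.of_equiv _ Subgroup.topEquiv.toEquiv, by rwa [Subgroup.card_top] at hle⟩

theorem closure_subtype {G : Type*} [Group G] {k : ℕ} (f : Fin k → G) :
    Subgroup.closure (Set.range fun i => (⟨f i, Subgroup.subset_closure ⟨i, rfl⟩⟩ :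
      Subgroup.closure (Set.range f))) = ⊤ := by
  rw [eq_top_iff]
  rintro ⟨x, hx⟩ -
  induction hx using Subgroup.closure_induction with
  | mem y hy => obtain ⟨i, rfl⟩ := hy; exact Subgroup.subset_closure ⟨i, rfl⟩
  | one => exact one_mem _
  | mul a b ha hb iha ihb => exact mul_mem iha ihb
  | inv a ha iha => exact inv_mem iha

/-! ### Coded matrices of any size -/

variable (P : Par) (m : ℕ)

/-- The code of a product. -/
def mulN (X Y : List ℕ) : List ℕ :=
  (List.range (m * m)).map fun e => (List.range m).foldr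
    (fun k r => P.addE (P.mulE (Par.ent X (e / m * m + k)) (Par.ent Y (k * m + e % m))) r) 0

/-- The identity. -/
def oneN : List ℕ := (List.range (m * m)).map fun e => if e / m = e % m then 1 else 0

/-- A three by three block in the upper left corner. -/
def blkN (X : List ℕ) : List ℕ :=
  (List.range (m * m)).map fun e =>
    if e / m < 3 ∧ e % m < 3 then Par.ent X (e / m * 3 + e % m) else if e / m = e % m then 1 else 0

/-- A permutation matrix. -/
def permN (π : Perm (Fin m)) : List ℕ :=
  (List.range (m * m)).map fun e =>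
    if h : e % m < m then (if ((π ⟨e % m, h⟩ : Fin m) : ℕ) = e / m then 1 else 0) else 0

/-- The matrix of a word. -/
def wordN (gens : List (List ℕ)) : List ℕ → List ℕ
  | [] => oneN m
  | x :: l => mulN P m (gens.getD x (oneN m)) (wordN gens l)

variable {P} {m} {F : Type*} [Field F] (R : Root P F)

/-- Evaluation of a code. -/
def evN (X : List ℕ) : Matrix (Fin m) (Fin m) F := fun i j => R.ev (Par.ent X (i.val * m + j.val))

theorem ent_map {g : ℕ → ℕ} (i j : Fin m) :
    Par.ent ((List.range (m * m)).map g) (i.val * m + j.val) = g (i.val * m + j.val) := by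
  have h : i.val * m + j.val < m * m := by
    have h1 := i.isLt
    have h2 := j.isLt
    nlinarith
  rw [Par.ent, List.getD_eq_getElem _ _ (by simpa using h)]
  simp

theorem divmod (i j : Fin m) : (i.val * m + j.val) / m = i.val ∧ (i.val * m + j.val) % m = j.val := by
  have h1 := j.isLt
  have h0 : 0 < m := by omega
  constructor
  · rw [Nat.mul_comm, Nat.mul_add_div h0, Nat.div_eq_of_lt h1, Nat.add_zero]
  · rw [Nat.mul_comm, Nat.mul_add_mod, Nat.mod_eq_of_lt h1]

theorem ev_foldr (g : ℕ → ℕ) : ∀ l : List ℕ,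
    R.ev (l.foldr (fun k r => P.addE (g k) r) 0) = (l.map fun k => R.ev (g k)).sum
  | [] => R.ev_zero
  | a :: l => by rw [List.foldr_cons, R.ev_add, ev_foldr g l, List.map_cons, List.sum_cons]

theorem sum_range_list (h : ℕ → F) : ∀ k, ((List.range k).map h).sum = ∑ i ∈ Finset.range k, h i
  | 0 => rfl
  | k + 1 => by
    rw [List.range_succ, List.map_append, List.sum_append, sum_range_list h k, Finset.sum_range_succ]
    simp

theorem evN_mul (X Y : List ℕ) : (evN R (mulN P m X Y) : Matrix (Fin m) (Fin m) F) = evN R X * evN R Y := by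
  ext i j
  rw [Matrix.mul_apply, evN, mulN, ent_map, (divmod i j).1, (divmod i j).2, ev_foldr, sum_range_list,
    Finset.sum_range]
  exact Finset.sum_congr rfl fun k _ => R.ev_mul _ _

theorem evN_one : (evN R (oneN m) : Matrix (Fin m) (Fin m) F) = 1 := by
  ext i j
  rw [evN, oneN, ent_map, (divmod i j).1, (divmod i j).2]
  rcases eq_or_ne i j with rfl | h
  · simp [R.ev_one]
  · rw [if_neg (Fin.val_ne_of_ne h), R.ev_zero, Matrix.one_apply_ne h]

variable [Fintype F] {q : ℕ}

theorem mat_mul' (g h : Cfsg.SU m F q) : mat (g * h) = mat g * mat h := rfl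

theorem mat_one' : mat (1 : Cfsg.SU m F q) = 1 := rfl

theorem mat_blk (hm : 4 ≤ m) {g : Cfsg.SU 3 F q} {X : List ℕ} (h : SmallThree.matOf g = R.evM X) :
    mat (blk hm g) = evN R (blkN m X) := by
  have hsmall : ∀ x y : Fin 3, act g (Pi.single y (1 : F)) x = R.ev (Par.ent X (x.val * 3 + y.val)) := by
    intro x y
    rw [← mat_apply g x y, show mat g = R.evM X from h]
    fin_cases x <;> fin_cases y <;> rfl
  ext i j
  rw [mat_apply, evN, blkN, ent_map, (divmod i j).1, (divmod i j).2]
  by_cases hi : i.val < 3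
  · obtain ⟨x, rfl⟩ : ∃ x : Fin 3, f3 hm x = i := ⟨⟨i.val, hi⟩, Fin.ext rfl⟩
    rw [blk, act_emb_in]
    by_cases hj : j.val < 3
    · obtain ⟨y, rfl⟩ : ∃ y : Fin 3, f3 hm y = j := ⟨⟨j.val, hj⟩, Fin.ext rfl⟩
      rw [show (fun z => (ev (f3 hm y) : Fin m → F) (f3 hm z)) = Pi.single y 1 from
        funext fun z => by simp [Pi.single_apply]]
      rw [hsmall, if_pos ⟨hi, hj⟩]
      rfl
    · rw [show (fun z => (ev j : Fin m → F) (f3 hm z)) = 0 from funext fun z => by
        refine Pi.single_eq_of_ne (fun e => hj ?_) _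
        rw [← e]
        exact z.isLt]
      rw [show act g (0 : Fin 3 → F) = 0 from Matrix.mulVec_zero _, if_neg (fun e => hj e.2),
        if_neg (by intro e; omega), R.ev_zero]
      rfl
  · rw [blk, act_emb_out _ _ _ (by
      rintro ⟨z, rfl⟩
      exact hi z.isLt), if_neg (fun e => hi e.1)]
    show (Pi.single j (1 : F) : Fin m → F) i = _
    rcases eq_or_ne i j with rfl | hne
    · rw [Pi.single_eq_same, if_pos rfl, R.ev_one]
    · rw [Pi.single_eq_of_ne hne, if_neg (Fin.val_ne_of_ne hne), R.ev_zero]

theorem mat_permSU (π : alternatingGroup (Fin m)) :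
    mat (permSU π : Cfsg.SU m F q) = evN R (permN m (π : Perm (Fin m))) := by
  ext i j
  rw [mat_apply, act_permSU_apply, evN, permN, ent_map, (divmod i j).1]
  rw [dif_pos (by rw [(divmod i j).2]; exact j.isLt)]
  simp only [(divmod i j).2, Fin.eta]
  show (Pi.single j (1 : F) : Fin m → F) _ = _
  by_cases h : (π : Perm (Fin m)) j = i
  · rw [if_pos (congrArg Fin.val h), R.ev_one, (Equiv.symm_apply_eq _).2 h.symm, Pi.single_eq_same]
  · rw [if_neg (Fin.val_ne_of_ne h), R.ev_zero, Pi.single_eq_of_ne]
    intro e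
    exact h ((Equiv.symm_apply_eq _).1 e).symm

theorem mat_word {k : ℕ} (v : Fin k → Cfsg.SU m F q) (gens : List (List ℕ))
    (hg : ∀ x < 2 * k, mat (lets v x) = evN R (gens.getD x (oneN m))) :
    ∀ l : List ℕ, (∀ x ∈ l, x < 2 * k) → mat ((l.map (lets v)).prod) = evN R (wordN P m gens l)
  | [], _ => (evN_one R).symm
  | x :: l, h => by
    rw [List.map_cons, List.prod_cons, mat_mul', mat_word v gens hg l fun y hy => h y (List.mem_cons_of_mem _ hy),
      hg x (h x List.mem_cons_self), wordN, evN_mul]

/-- Relators verified in codes. -/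
def relsOK (P : Par) (m k : ℕ) (gens rels : List (List ℕ)) : Bool :=
  rels.all fun l => decide (wordN P m gens l = oneN m) && l.all fun x => decide (x < 2 * k)

theorem kills {k : ℕ} (v : Fin k → Cfsg.SU m F q) (gens rels : List (List ℕ))
    (hg : ∀ x < 2 * k, mat (lets v x) = evN R (gens.getD x (oneN m)))
    (h : relsOK P m k gens rels = true) : Kills v (rels.map (wordK k)) := by
  intro w hw
  obtain ⟨l, hl, rfl⟩ := List.mem_map.1 hw
  simp only [relsOK, List.all_eq_true, Bool.and_eq_true, decide_eq_true_eq] at h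
  refine (lift_wordK v l).trans (mat_injective ?_)
  rw [mat_word R v gens hg l (h l hl).2, (h l hl).1, evN_one, mat_one']

/-- A presentation from a bound on the order. -/
theorem presOn_of_card {k : ℕ} (v : Fin k → Cfsg.SU m F q) (gens rels : List (List ℕ))
    (hg : ∀ x < 2 * k, mat (lets v x) = evN R (gens.getD x (oneN m)))
    (h : relsOK P m k gens rels = true) (hgen : Subgroup.closure (Set.range v) = ⊤) {N : ℕ}
    (hN : N ≤ Nat.card (Cfsg.SU m F q))
    (hbound : ∀ (G : Type) [Group G] (f : Fin k → G), Subgroup.closure (Set.range f) = ⊤ →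
      (∀ l ∈ rels, (l.map (lets f)).prod = 1) → Finite G ∧ Nat.card G ≤ N) :
    PresOn (Fin k) (Cfsg.SU m F q) rels.length := by
  haveI : Finite (Cfsg.SU m F q) := Finite.of_injective _ mat_injective
  have := PresOn.of_bound v (rels.map (wordK k)) (kills R v gens rels hg h) hgen fun G _ φ f _ hf hk => by
    obtain ⟨hfin, hle⟩ := hbound G f hf fun l hl =>
      (lift_wordK f l).symm.trans (hk _ (List.mem_map_of_mem hl))
    exact ⟨hfin, hle.trans hN⟩
  rwa [List.length_map] at this

end CfsgLib.SUnPres.SmallFour
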