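import Cfsg.Agent.Lib.CosetEnum.LetterCert
import Cfsg.Agent.Lib.BoundedPres.On
import Cfsg.Agent.Lib.Classical.Herm.Std
import Cfsg.Prelude.Def_Classical

/-!
Presentations of small special unitary groups of dimension three from certificates: the arithmetic
model and the generic argument.
-/

set_option autoImplicit false

namespace CfsgLib.SUnPres.SmallThree

open CfsgLib.CosetEnum CfsgLib.BoundedPres Matrix

/-- Parameters of a quadratic extension: `θ ^ 2 = c θ + d` in characteristic `p`; `a + p b` codes `a + b θ`. -/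
structure Par where
  p : ℕ
  c : ℕ
  d : ℕ

namespace Par

variable (P : Par)

/-- The number of elements. -/
def n : ℕ := P.p * P.p

/-- Sum of codes. -/
def addE (x y : ℕ) : ℕ := (x % P.p + y % P.p) % P.p + P.p * ((x / P.p + y / P.p) % P.p)

/-- Negation of a code. -/
def negE (x : ℕ) : ℕ := (P.p - x % P.p) % P.p + P.p * ((P.p - x / P.p % P.p) % P.p)

/-- Product of codes. -/
def mulE (x y : ℕ) : ℕ :=
  (x % P.p * (y % P.p) + x / P.p * (y / P.p) * P.d) % P.p +
    P.p * ((x % P.p * (y / P.p) + x / P.p * (y % P.p) + x / P.p * (y / P.p) * P.c) % P.p)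

/-- Powers of a code. -/
def powE (x : ℕ) : ℕ → ℕ
  | 0 => 1
  | k + 1 => P.mulE (powE x k) x

/-- The involution. -/
def conjE (x : ℕ) : ℕ := P.powE x P.p

/-- Three-term scalar product. -/
def dot (a b c x y z : ℕ) : ℕ := P.addE (P.addE (P.mulE a x) (P.mulE b y)) (P.mulE c z)

/-- Entry of a coded matrix. -/
def ent (X : List ℕ) (i : ℕ) : ℕ := X.getD i 0

/-- Matrix product. -/
def mulM (X Y : List ℕ) : List ℕ :=
  [P.dot (ent X 0) (ent X 1) (ent X 2) (ent Y 0) (ent Y 3) (ent Y 6),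
   P.dot (ent X 0) (ent X 1) (ent X 2) (ent Y 1) (ent Y 4) (ent Y 7),
   P.dot (ent X 0) (ent X 1) (ent X 2) (ent Y 2) (ent Y 5) (ent Y 8),
   P.dot (ent X 3) (ent X 4) (ent X 5) (ent Y 0) (ent Y 3) (ent Y 6),
   P.dot (ent X 3) (ent X 4) (ent X 5) (ent Y 1) (ent Y 4) (ent Y 7),
   P.dot (ent X 3) (ent X 4) (ent X 5) (ent Y 2) (ent Y 5) (ent Y 8),
   P.dot (ent X 6) (ent X 7) (ent X 8) (ent Y 0) (ent Y 3) (ent Y 6),
   P.dot (ent X 6) (ent X 7) (ent X 8) (ent Y 1) (ent Y 4) (ent Y 7),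
   P.dot (ent X 6) (ent X 7) (ent X 8) (ent Y 2) (ent Y 5) (ent Y 8)]

/-- Matrix times vector. -/
def mulV (X v : List ℕ) : List ℕ :=
  [P.dot (ent X 0) (ent X 1) (ent X 2) (ent v 0) (ent v 1) (ent v 2),
   P.dot (ent X 3) (ent X 4) (ent X 5) (ent v 0) (ent v 1) (ent v 2),
   P.dot (ent X 6) (ent X 7) (ent X 8) (ent v 0) (ent v 1) (ent v 2)]

/-- The identity. -/
def oneM : List ℕ := [1, 0, 0, 0, 1, 0, 0, 0, 1]

/-- The Gram matrix of the columns. -/
def gram (X : List ℕ) (j k : ℕ) : ℕ :=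
  P.dot (ent X j) (ent X (3 + j)) (ent X (6 + j))
    (P.conjE (ent X k)) (P.conjE (ent X (3 + k))) (P.conjE (ent X (6 + k)))

/-- The determinant. -/
def detE (X : List ℕ) : ℕ :=
  P.dot (ent X 0) (ent X 1) (ent X 2)
    (P.addE (P.mulE (ent X 4) (ent X 8)) (P.negE (P.mulE (ent X 5) (ent X 7))))
    (P.addE (P.mulE (ent X 5) (ent X 6)) (P.negE (P.mulE (ent X 3) (ent X 8))))
    (P.addE (P.mulE (ent X 3) (ent X 7)) (P.negE (P.mulE (ent X 4) (ent X 6))))

/-- A coded element of the special unitary group. -/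
def okM (X : List ℕ) : Bool :=
  Nat.beq (P.detE X) 1 && Nat.beq (P.gram X 0 0) 1 && Nat.beq (P.gram X 1 1) 1 && Nat.beq (P.gram X 2 2) 1 &&
    Nat.beq (P.gram X 0 1) 0 && Nat.beq (P.gram X 0 2) 0 && Nat.beq (P.gram X 1 0) 0 &&
    Nat.beq (P.gram X 1 2) 0 && Nat.beq (P.gram X 2 0) 0 && Nat.beq (P.gram X 2 1) 0

/-- A word in coded matrices. -/
def wordM (gens : List (List ℕ)) : List ℕ → List ℕ
  | [] => oneM
  | x :: l => P.mulM (gens.getD x oneM) (wordM gens l)

/-- The vector with a given code. -/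
def vecOf (c : ℕ) : List ℕ := [c % P.n, c / P.n % P.n, c / P.n / P.n]

/-- The code of a matrix. -/
def codeM (X : List ℕ) : ℕ := X.foldr (fun x r => x + P.n * r) 0

/-- Nonzero codes are invertible. -/
def fieldOK : Bool :=
  (List.range P.n).all fun x => Nat.beq x 0 || (List.range P.n).any fun y => Nat.beq (P.mulE x y) 1

/-- Equal difference means equal codes. -/
def subOK : Bool :=
  (List.range P.n).all fun x => (List.range P.n).all fun y =>
    !(Nat.beq (P.addE x (P.negE y)) 0) || Nat.beq x y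

end Par

section Eval

variable {F : Type*} [Field F]

/-- What the model needs from the field. -/
structure Root (P : Par) (F : Type*) [Field F] where
  θ : F
  hp : P.p.Prime
  charP : CharP F P.p
  hθ : θ * θ = (P.c : F) * θ + (P.d : F)

variable {P : Par} (R : Root P F)

/-- Evaluation of a code. -/
def Root.ev (x : ℕ) : F := (((x % P.p : ℕ)) : F) + (((x / P.p : ℕ)) : F) * R.θ

include R in
theorem Root.cast_mod (a : ℕ) : ((a % P.p : ℕ) : F) = (a : F) := by
  haveI := R.charP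
  exact (CharP.natCast_eq_natCast F P.p).2 (Nat.mod_modEq a P.p)

include R in
theorem Root.cast_p : ((P.p : ℕ) : F) = 0 := by
  haveI := R.charP
  exact CharP.cast_eq_zero F P.p

theorem Root.ev_mk {a : ℕ} (b : ℕ) (ha : a < P.p) : R.ev (a + P.p * b) = (a : F) + (b : F) * R.θ := by
  unfold Root.ev
  rw [Nat.add_mul_mod_self_left, Nat.mod_eq_of_lt ha, Nat.add_mul_div_left _ _ R.hp.pos,
    Nat.div_eq_of_lt ha, zero_add]

theorem Root.ev_mk' (A B : ℕ) : R.ev (A % P.p + P.p * (B % P.p)) = (A : F) + (B : F) * R.θ := by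
  rw [R.ev_mk _ (Nat.mod_lt _ R.hp.pos), R.cast_mod, R.cast_mod]

theorem Root.ev_zero : R.ev 0 = 0 := by simp [Root.ev]

theorem Root.ev_one : R.ev 1 = 1 := by
  have h := R.hp.two_le
  simp [Root.ev, Nat.mod_eq_of_lt (show 1 < P.p by omega), Nat.div_eq_of_lt (show 1 < P.p by omega)]

theorem Root.ev_add (x y : ℕ) : R.ev (P.addE x y) = R.ev x + R.ev y := by
  rw [Par.addE, R.ev_mk']
  simp only [Root.ev, Nat.cast_add]
  ring

theorem Root.ev_mul (x y : ℕ) : R.ev (P.mulE x y) = R.ev x * R.ev y := by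
  rw [Par.mulE, R.ev_mk']
  simp only [Root.ev, Nat.cast_add, Nat.cast_mul]
  linear_combination -(((x / P.p : ℕ) : F) * ((y / P.p : ℕ) : F)) * R.hθ

theorem Root.ev_neg (x : ℕ) : R.ev (P.negE x) = -R.ev x := by
  rw [Par.negE, R.ev_mk', Nat.cast_sub (Nat.mod_lt _ R.hp.pos).le, Nat.cast_sub (Nat.mod_lt _ R.hp.pos).le,
    R.cast_p, R.cast_mod (x / P.p)]
  simp only [Root.ev]
  ring

theorem Root.ev_pow (x : ℕ) : ∀ k, R.ev (P.powE x k) = R.ev x ^ k
  | 0 => by rw [Par.powE, R.ev_one, pow_zero]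
  | k + 1 => by rw [Par.powE, R.ev_mul, Root.ev_pow x k, pow_succ]

theorem Root.ev_dot (a b c x y z : ℕ) :
    R.ev (P.dot a b c x y z) = R.ev a * R.ev x + R.ev b * R.ev y + R.ev c * R.ev z := by
  simp only [Par.dot, R.ev_add, R.ev_mul]

/-- Evaluation of a coded matrix. -/
def Root.evM (X : List ℕ) : Matrix (Fin 3) (Fin 3) F :=
  !![R.ev (Par.ent X 0), R.ev (Par.ent X 1), R.ev (Par.ent X 2);
     R.ev (Par.ent X 3), R.ev (Par.ent X 4), R.ev (Par.ent X 5);
     R.ev (Par.ent X 6), R.ev (Par.ent X 7), R.ev (Par.ent X 8)]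

/-- Evaluation of a coded vector. -/
def Root.evV (v : List ℕ) : Fin 3 → F := ![R.ev (Par.ent v 0), R.ev (Par.ent v 1), R.ev (Par.ent v 2)]

theorem Root.evM_mul (X Y : List ℕ) : R.evM (P.mulM X Y) = R.evM X * R.evM Y := by
  ext i j
  fin_cases i <;> fin_cases j <;>
    simp [Root.evM, Par.mulM, Par.ent, Matrix.mul_apply, Fin.sum_univ_three, R.ev_dot]

theorem Root.evV_mul (X v : List ℕ) : R.evV (P.mulV X v) = R.evM X *ᵥ R.evV v := by
  ext i
  fin_cases i <;>
    simp [Root.evV, Root.evM, Par.mulV, Par.ent, Matrix.mulVec, dotProduct, Fin.sum_univ_three, R.ev_dot]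

theorem Root.evM_one : R.evM Par.oneM = 1 := by
  ext i j
  fin_cases i <;> fin_cases j <;> simp [Root.evM, Par.oneM, Par.ent, R.ev_one, R.ev_zero]

theorem Root.ev_injective (hf : P.fieldOK = true) (hs : P.subOK = true) {x y : ℕ} (hx : x < P.n)
    (hy : y < P.n) (h : R.ev x = R.ev y) : x = y := by
  have hz : R.ev (P.addE x (P.negE y)) = 0 := by rw [R.ev_add, R.ev_neg, h, add_neg_cancel]
  have hp := R.hp.pos
  have hlt : P.addE x (P.negE y) < P.n := by
    unfold Par.addE Par.n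
    have h1 := Nat.mod_lt (x % P.p + P.negE y % P.p) hp
    have h2 := Nat.mod_lt (x / P.p + P.negE y / P.p) hp
    nlinarith
  have h0 : P.addE x (P.negE y) = 0 := by
    simp only [Par.fieldOK, List.all_eq_true, List.mem_range, Bool.or_eq_true, List.any_eq_true] at hf
    rcases hf _ hlt with h0 | ⟨z, -, hz1⟩
    · exact Nat.eq_of_beq_eq_true h0
    · have h1 := congrArg R.ev (Nat.eq_of_beq_eq_true hz1)
      rw [R.ev_mul, hz, zero_mul, R.ev_one] at h1
      exact absurd h1 zero_ne_one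
  simp only [Par.subOK, List.all_eq_true, List.mem_range, Bool.or_eq_true, Bool.not_eq_true'] at hs
  rcases hs x hx y hy with h1 | h1
  · rw [h0] at h1; simp at h1
  · exact Nat.eq_of_beq_eq_true h1

/-- A coded element as an element of the special unitary group. -/
def Root.el [Fintype F] (hF : Fintype.card F = P.p ^ 2) (X : List ℕ) (h : P.okM X = true) :
    Cfsg.SU 3 F P.p :=
  ⟨⟨R.evM X, by
    simp only [Par.okM, Bool.and_eq_true] at h
    have hd := congrArg R.ev (Nat.eq_of_beq_eq_true h.1.1.1.1.1.1.1.1.1)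
    rw [R.ev_one] at hd
    rw [← hd]
    simp only [Par.detE, R.ev_dot, R.ev_add, R.ev_neg, R.ev_mul, Root.evM, Matrix.det_fin_three,
      Matrix.of_apply, Matrix.cons_val', Matrix.cons_val_zero, Matrix.cons_val_one, Matrix.cons_val,
      Matrix.cons_val_fin_one]
    ring⟩, by
    intro u v
    have hc : ∀ x y, (x + y) ^ P.p = (x : F) ^ P.p + y ^ P.p := fun x y =>
      (Classical.Herm.qPow hF).map_add x y
    simp only [Par.okM, Bool.and_eq_true] at h
    obtain ⟨⟨⟨⟨⟨⟨⟨⟨⟨-, g00⟩, g11⟩, g22⟩, g01⟩, g02⟩, g10⟩, g12⟩, g20⟩, g21⟩ := h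
    replace g00 := congrArg R.ev (Nat.eq_of_beq_eq_true g00)
    replace g11 := congrArg R.ev (Nat.eq_of_beq_eq_true g11)
    replace g22 := congrArg R.ev (Nat.eq_of_beq_eq_true g22)
    replace g01 := congrArg R.ev (Nat.eq_of_beq_eq_true g01)
    replace g02 := congrArg R.ev (Nat.eq_of_beq_eq_true g02)
    replace g10 := congrArg R.ev (Nat.eq_of_beq_eq_true g10)
    replace g12 := congrArg R.ev (Nat.eq_of_beq_eq_true g12)
    replace g20 := congrArg R.ev (Nat.eq_of_beq_eq_true g20)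
    replace g21 := congrArg R.ev (Nat.eq_of_beq_eq_true g21)
    simp only [Par.gram, Par.conjE, R.ev_dot, R.ev_pow, R.ev_one, R.ev_zero, Nat.reduceAdd]
      at g00 g11 g22 g01 g02 g10 g12 g20 g21
    change Cfsg.hermForm 3 F P.p (R.evM X *ᵥ u) (R.evM X *ᵥ v) = Cfsg.hermForm 3 F P.p u v
    simp only [Cfsg.hermForm, Root.evM, Matrix.mulVec, dotProduct, Fin.sum_univ_three, Matrix.of_apply,
      Matrix.cons_val', Matrix.cons_val_zero, Matrix.cons_val_one, Matrix.cons_val,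
      Matrix.cons_val_fin_one, hc, mul_pow]
    linear_combination (u 0 * v 0 ^ P.p) * g00 + (u 1 * v 1 ^ P.p) * g11 + (u 2 * v 2 ^ P.p) * g22 +
      (u 0 * v 1 ^ P.p) * g01 + (u 0 * v 2 ^ P.p) * g02 + (u 1 * v 0 ^ P.p) * g10 +
      (u 1 * v 2 ^ P.p) * g12 + (u 2 * v 0 ^ P.p) * g20 + (u 2 * v 1 ^ P.p) * g21⟩

/-- The matrix of an element. -/
def matOf {q : ℕ} (g : Cfsg.SU 3 F q) : Matrix (Fin 3) (Fin 3) F :=
  ((g : Matrix.SpecialLinearGroup (Fin 3) F) : Matrix (Fin 3) (Fin 3) F)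

theorem matOf_injective {q : ℕ} : Function.Injective (matOf : Cfsg.SU 3 F q → Matrix (Fin 3) (Fin 3) F) :=
  fun _ _ h => Subtype.ext (Subtype.ext h)

theorem matOf_mul {q : ℕ} (g h : Cfsg.SU 3 F q) : matOf (g * h) = matOf g * matOf h := rfl

end Eval

end CfsgLib.SUnPres.SmallThree
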