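import Cfsg.Agent.Lib.SUnPres.SmallThreeBase

/-!
Presentations of small special unitary groups of dimension three from certificates: generation and
the order bound.
-/

set_option autoImplicit false

namespace CfsgLib.SUnPres.SmallThree

open CfsgLib.CosetEnum CfsgLib.BoundedPres Matrix

/-- The inverse table of four letters. -/
def ip4 : ℕ := 0xfedcba9876542301

/-- The inverse table of six letters. -/
def ip6 : ℕ := 0xfedcba9876452301

/-- The letters made from three elements. -/
def letters {G : Type*} [Group G] (f : Fin 3 → G) : ℕ → G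
  | 0 => f 0
  | 1 => (f 0)⁻¹
  | 2 => f 1
  | 3 => (f 1)⁻¹
  | 4 => f 2
  | 5 => (f 2)⁻¹
  | _ => 1

/-- The letters made from the first two elements. -/
def letters4 {G : Type*} [Group G] (f : Fin 3 → G) : ℕ → G
  | 0 => f 0
  | 1 => (f 0)⁻¹
  | 2 => f 1
  | 3 => (f 1)⁻¹
  | _ => 1

theorem letters_of_six_le {G : Type*} [Group G] (f : Fin 3 → G) {x : ℕ} (h : 6 ≤ x) : letters f x = 1 := by
  match x, h with
  | n + 6, _ => rfl

theorem letters4_of_four_le {G : Type*} [Group G] (f : Fin 3 → G) {x : ℕ} (h : 4 ≤ x) : letters4 f x = 1 := by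
  match x, h with
  | n + 4, _ => rfl

theorem letters_inv {G : Type*} [Group G] (f : Fin 3 → G) (x : ℕ) (hx : x < 16) :
    letters f (linv ip6 x) = (letters f x)⁻¹ := by
  have key : ∀ x < 16, linv ip6 x = [1, 0, 3, 2, 5, 4, 6, 7, 8, 9, 10, 11, 12, 13, 14, 15].getD x 0 := by
    decide +kernel
  rw [key x hx]
  interval_cases x <;> simp [letters]

theorem letters4_inv {G : Type*} [Group G] (f : Fin 3 → G) (x : ℕ) (hx : x < 16) :
    letters4 f (linv ip4 x) = (letters4 f x)⁻¹ := by
  have key : ∀ x < 16, linv ip4 x = [1, 0, 3, 2, 4, 5, 6, 7, 8, 9, 10, 11, 12, 13, 14, 15].getD x 0 := by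
    decide +kernel
  rw [key x hx]
  interval_cases x <;> simp [letters4]

theorem letters4_eq {G : Type*} [Group G] (f : Fin 3 → G) {x : ℕ} (hx : x < 4) :
    letters4 f x = letters f x := by
  interval_cases x <;> rfl

theorem map_letters {G H : Type*} [Group G] [Group H] (φ : G →* H) (f : Fin 3 → G) (x : ℕ) :
    φ (letters f x) = letters (fun i => φ (f i)) x := by
  match x with
  | 0 => rfl
  | 1 => simp [letters]
  | 2 => rfl
  | 3 => simp [letters]
  | 4 => rfl
  | 5 => simp [letters]
  | n + 6 => simp [letters]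

/-- A word as an element of the free group. -/
def wordF (l : List ℕ) : FreeGroup (Fin 3) := (l.map (letters FreeGroup.of)).prod

theorem lift_wordF {G : Type*} [Group G] (f : Fin 3 → G) (l : List ℕ) :
    FreeGroup.lift f (wordF l) = (l.map (letters f)).prod := by
  rw [wordF, map_list_prod, List.map_map]
  congr 1
  exact List.map_congr_left fun x _ => by simp [map_letters]

/-- The data of one small case. -/
structure Data where
  P : Par
  gens : List (List ℕ)
  rels1 : List (List ℕ)
  rels2 : List (List ℕ)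
  cert1 : Letters.Cert
  cert2 : Letters.Cert
  oa : ℕ
  O : ℕ
  pts : Tr
  par : Tr
  idx : Tr
  stab : List (List ℕ)

namespace Data

variable (D : Data)

/-- The matrix of a letter. -/
def gen (x : ℕ) : List ℕ := D.gens.getD x Par.oneM

/-- Six coded special unitary matrices, inverse in pairs. -/
def gensOK : Bool :=
  (List.range 6).all (fun x => D.P.okM (D.gen x)) &&
    decide (D.P.mulM (D.gen 0) (D.gen 1) = Par.oneM) && decide (D.P.mulM (D.gen 2) (D.gen 3) = Par.oneM) &&
    decide (D.P.mulM (D.gen 4) (D.gen 5) = Par.oneM)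

/-- The relators hold. -/
def relsOK : Bool :=
  (D.rels1 ++ D.rels2).all fun l => decide (D.P.wordM D.gens l = Par.oneM) && l.all fun x => decide (x < 6)

/-- The relators of the first two generators use their letters only and contain the order of the first. -/
def rels1OK : Bool :=
  D.rels1.all (fun l => l.all fun x => decide (x < 4)) && decide (List.replicate D.oa 0 ∈ D.rels1) &&
    decide (0 < D.oa)

/-- The orbit of the first point. -/
noncomputable def orbitOK : Bool :=
  (List.range D.O).all fun k =>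
    Nat.beq (D.idx.get 20 (D.pts.get 20 k)) k && Nat.blt (D.pts.get 20 k) (D.P.n * D.P.n * D.P.n) &&
    (Nat.beq k 0 || (Nat.blt (D.par.get 20 k / 8) k && Nat.blt (D.par.get 20 k % 8) 6 &&
      decide (D.P.mulV (D.gen (D.par.get 20 k % 8)) (D.P.vecOf (D.pts.get 20 (D.par.get 20 k / 8))) =
        D.P.vecOf (D.pts.get 20 k))))

/-- Strictly increasing. -/
def incr : List ℕ → Bool
  | [] => true
  | [_] => true
  | a :: b :: l => Nat.blt a b && incr (b :: l)

/-- The elements of the point stabiliser. -/
noncomputable def stabOK : Bool :=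
  let v := D.P.vecOf (D.pts.get 20 0)
  (D.stab.all fun l => (l.all fun x => decide (x < 6)) &&
    (decide (D.P.mulV (D.P.wordM D.gens l) v = v) &&
    ((D.P.wordM D.gens l).all (fun e => decide (e < D.P.n)) && decide ((D.P.wordM D.gens l).length = 9)))) &&
    incr (D.stab.map fun l => D.P.codeM (D.P.wordM D.gens l))

/-- All checks. -/
structure Valid : Prop where
  field : D.P.fieldOK = true
  sub : D.P.subOK = true
  gens : D.gensOK = true
  rels : D.relsOK = true
  rels1 : D.rels1OK = true
  orbit : D.orbitOK = true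
  stab : D.stabOK = true
  cert1 : D.cert1.check ip4 4 [[0]] D.rels1 = true
  cert2 : D.cert2.check ip6 6 [[0], [2]] (D.rels1 ++ D.rels2) = true

theorem incr_sorted : ∀ l : List ℕ, incr l = true → ∀ i j, i < j → j < l.length → l.getD i 0 < l.getD j 0
  | [], _, i, j, _, h => by simp at h
  | [a], _, i, j, hij, h => by simp at h; omega
  | a :: b :: l, h, i, j, hij, hj => by
    simp only [incr, Bool.and_eq_true] at h
    have hab : a < b := Nat.le_of_ble_eq_true h.1
    have ih := incr_sorted (b :: l) h.2
    obtain ⟨j, rfl⟩ : ∃ j', j = j' + 1 := ⟨j - 1, by omega⟩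
    simp only [List.length_cons] at hj
    rcases i with _ | i
    · rcases j with _ | j
      · simpa using hab
      · exact lt_trans hab (by simpa using ih 0 (j + 1) (by omega) (by simp; omega))
    · simpa using ih i j (by omega) (by simp; omega)

variable {D} {F : Type*} [Field F] [Fintype F] (R : Root D.P F) (hF : Fintype.card F = D.P.p ^ 2) (hV : D.Valid)

include hV in
theorem okM_gen {x : ℕ} (hx : x < 6) : D.P.okM (D.gen x) = true := by
  have := hV.gens
  simp only [gensOK, Bool.and_eq_true, List.all_eq_true, List.mem_range] at this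
  exact this.1.1.1 x hx

/-- The generators. -/
def v (i : Fin 3) : Cfsg.SU 3 F D.P.p := R.el hF (D.gen (2 * i.val)) (okM_gen hV (by omega))

theorem matOf_letters (x : ℕ) (hx : x < 6) : matOf (letters (v R hF hV) x) = R.evM (D.gen x) := by
  have hg := hV.gens
  simp only [gensOK, Bool.and_eq_true, decide_eq_true_eq] at hg
  have hi : ∀ i : Fin 3, D.P.mulM (D.gen (2 * i.val)) (D.gen (2 * i.val + 1)) = Par.oneM := fun i => by
    fin_cases i
    · exact hg.1.1.2
    · exact hg.1.2
    · exact hg.2
  have hinv : ∀ (i : Fin 3), (v R hF hV i)⁻¹ = R.el hF (D.gen (2 * i.val + 1)) (okM_gen hV (by omega)) := by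
    intro i
    refine inv_eq_of_mul_eq_one_right (matOf_injective ?_)
    show R.evM (D.gen (2 * i.val)) * R.evM (D.gen (2 * i.val + 1)) = 1
    rw [← R.evM_mul, hi i, R.evM_one]
  interval_cases x
  · rfl
  · show matOf (v R hF hV 0)⁻¹ = _
    rw [hinv]; rfl
  · rfl
  · show matOf (v R hF hV 1)⁻¹ = _
    rw [hinv]; rfl
  · rfl
  · show matOf (v R hF hV 2)⁻¹ = _
    rw [hinv]; rfl

theorem matOf_word : ∀ l : List ℕ, (∀ x ∈ l, x < 6) →
    matOf ((l.map (letters (v R hF hV))).prod) = R.evM (D.P.wordM D.gens l)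
  | [], _ => R.evM_one.symm
  | x :: l, h => by
    rw [List.map_cons, List.prod_cons, matOf_mul, matOf_word l fun y hy => h y (List.mem_cons_of_mem _ hy),
      matOf_letters R hF hV x (h x List.mem_cons_self), Par.wordM, R.evM_mul]
    rfl

theorem kills : Kills (v R hF hV) ((D.rels1 ++ D.rels2).map wordF) := by
  intro w hw
  obtain ⟨l, hl, rfl⟩ := List.mem_map.1 hw
  have h := hV.rels
  simp only [relsOK, List.all_eq_true, Bool.and_eq_true, decide_eq_true_eq] at h
  refine (lift_wordF _ l).trans (matOf_injective ?_)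
  rw [matOf_word R hF hV l (h l hl).2, (h l hl).1, R.evM_one]
  rfl

/-- The subgroup generated by the three elements. -/
def span : Subgroup (Cfsg.SU 3 F D.P.p) := Subgroup.closure (Set.range (v R hF hV))

theorem letters_mem {G : Type*} [Group G] (f : Fin 3 → G) (x : ℕ) :
    letters f x ∈ Subgroup.closure (Set.range f) := by
  have h : ∀ i, f i ∈ Subgroup.closure (Set.range f) := fun i => Subgroup.subset_closure ⟨i, rfl⟩
  match x with
  | 0 => exact h 0
  | 1 => exact inv_mem (h 0)
  | 2 => exact h 1
  | 3 => exact inv_mem (h 1)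
  | 4 => exact h 2
  | 5 => exact inv_mem (h 2)
  | n + 6 => exact one_mem _

/-- The first point. -/
noncomputable def pt (k : ℕ) : Fin 3 → F := R.evV (D.P.vecOf (D.pts.get 20 k))

theorem exists_mem_orbit : ∀ k, k < D.O → ∃ g ∈ span R hF hV, matOf g *ᵥ pt R 0 = pt R k := by
  intro k
  induction k using Nat.strong_induction_on with
  | _ k ih =>
    intro hk
    have h := hV.orbit
    simp only [orbitOK, List.all_eq_true, List.mem_range, Bool.and_eq_true, Bool.or_eq_true,
      decide_eq_true_eq] at h
    rcases (h k hk).2 with h0 | ⟨⟨hp, hx⟩, hm⟩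
    · rw [Nat.eq_of_beq_eq_true h0]
      exact ⟨1, one_mem _, Matrix.one_mulVec _⟩
    · have hp : D.par.get 20 k / 8 < k := Nat.le_of_ble_eq_true hp
      have hx : D.par.get 20 k % 8 < 6 := Nat.le_of_ble_eq_true hx
      obtain ⟨g, hg, hgv⟩ := ih _ hp (by omega)
      refine ⟨letters (v R hF hV) (D.par.get 20 k % 8) * g, mul_mem (letters_mem _ _) hg, ?_⟩
      rw [matOf_mul, ← Matrix.mulVec_mulVec, hgv, matOf_letters R hF hV _ hx]
      unfold pt
      rw [← hm, R.evV_mul]

include hV in
theorem pt_injective {i j : ℕ} (hi : i < D.O) (hj : j < D.O) (h : pt R i = pt R j) : i = j := by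
  have hv := hV.orbit
  simp only [orbitOK, List.all_eq_true, List.mem_range, Bool.and_eq_true] at hv
  obtain ⟨⟨hii, hin⟩, -⟩ := hv i hi
  obtain ⟨⟨hji, hjn⟩, -⟩ := hv j hj
  rw [← Nat.eq_of_beq_eq_true hii, ← Nat.eq_of_beq_eq_true hji]
  congr 1
  have hn : 0 < D.P.n := Nat.mul_pos R.hp.pos R.hp.pos
  set a := D.pts.get 20 i
  set b := D.pts.get 20 j
  have hin : a < D.P.n * D.P.n * D.P.n := Nat.le_of_ble_eq_true hin
  have hjn : b < D.P.n * D.P.n * D.P.n := Nat.le_of_ble_eq_true hjn
  have e0 := R.ev_injective hV.field hV.sub (Nat.mod_lt a hn) (Nat.mod_lt b hn) (congrFun h 0)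
  have e1 := R.ev_injective hV.field hV.sub (Nat.mod_lt (a / D.P.n) hn) (Nat.mod_lt (b / D.P.n) hn)
    (congrFun h 1)
  have hd : ∀ c, c < D.P.n * D.P.n * D.P.n → c / D.P.n / D.P.n < D.P.n := fun c hc => by
    rw [Nat.div_div_eq_div_mul, Nat.div_lt_iff_lt_mul (Nat.mul_pos hn hn)]
    rw [Nat.mul_assoc] at hc; exact hc
  have e2 := R.ev_injective hV.field hV.sub (hd a hin) (hd b hjn) (congrFun h 2)
  rw [← Nat.mod_add_div a D.P.n, ← Nat.mod_add_div b D.P.n, e0,
    ← Nat.mod_add_div (a / D.P.n) D.P.n, ← Nat.mod_add_div (b / D.P.n) D.P.n, e1, e2]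

theorem card_le_card_span : D.O * D.stab.length ≤ Nat.card (span R hF hV) := by
  classical
  choose g hg hgv using fun k : Fin D.O => exists_mem_orbit R hF hV k k.2
  have hs := hV.stab
  simp only [stabOK, Bool.and_eq_true, List.all_eq_true, decide_eq_true_eq] at hs
  let w : Fin D.stab.length → Cfsg.SU 3 F D.P.p := fun s => ((D.stab[s.val]).map (letters (v R hF hV))).prod
  have hws : ∀ s, matOf (w s) = R.evM (D.P.wordM D.gens D.stab[s.val]) := fun s =>
    matOf_word R hF hV _ (hs.1 _ (List.getElem_mem _)).1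
  have hw0 : ∀ s, matOf (w s) *ᵥ pt R 0 = pt R 0 := fun s => by
    rw [hws]; unfold pt
    rw [← R.evV_mul, (hs.1 _ (List.getElem_mem _)).2.1]
  have hwm : ∀ s, w s ∈ span R hF hV := fun s => Subgroup.list_prod_mem _ fun y hy => by
    obtain ⟨x, -, rfl⟩ := List.mem_map.1 hy
    exact letters_mem _ x
  have hinj : Function.Injective
      (fun z : Fin D.O × Fin D.stab.length => (⟨g z.1 * w z.2, mul_mem (hg z.1) (hwm z.2)⟩ : span R hF hV)) := by
    rintro ⟨k, s⟩ ⟨k', s'⟩ h
    have h := congrArg Subtype.val h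
    change g k * w s = g k' * w s' at h
    have hk := congrArg (fun z => matOf z *ᵥ pt R 0) h
    simp only [matOf_mul, ← Matrix.mulVec_mulVec, hw0, hgv] at hk
    obtain rfl : k = k' := Fin.ext (pt_injective R hV k.2 k'.2 hk)
    have hm := congrArg matOf (mul_left_cancel h)
    rw [hws, hws] at hm
    obtain ⟨-, hl⟩ := hs.1 _ (List.getElem_mem s.2)
    obtain ⟨-, hl'⟩ := hs.1 _ (List.getElem_mem s'.2)
    have heq : D.P.wordM D.gens D.stab[s.val] = D.P.wordM D.gens D.stab[s'.val] := by
      set X := D.P.wordM D.gens D.stab[s.val]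
      set Y := D.P.wordM D.gens D.stab[s'.val]
      refine List.ext_getElem (hl.2.2.trans hl'.2.2.symm) fun i h1 h2 => ?_
      have hi9 : i < 9 := by omega
      have hlt : ∀ Z : List ℕ, (∀ e ∈ Z, e < D.P.n) → ∀ (h : i < Z.length), Par.ent Z i < D.P.n := by
        intro Z hZ h
        rw [Par.ent, List.getD_eq_getElem _ _ h]
        exact hZ _ (List.getElem_mem _)
      have key := R.ev_injective hV.field hV.sub (hlt X hl.2.1 h1) (hlt Y hl'.2.1 h2) ?_
      · rwa [Par.ent, Par.ent, List.getD_eq_getElem _ _ h1, List.getD_eq_getElem _ _ h2] at key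
      have hij : ∀ a b, R.evM X a b = R.evM Y a b := fun a b => by rw [hm]
      interval_cases i
      · exact hij 0 0
      · exact hij 0 1
      · exact hij 0 2
      · exact hij 1 0
      · exact hij 1 1
      · exact hij 1 2
      · exact hij 2 0
      · exact hij 2 1
      · exact hij 2 2
    have hc : D.P.codeM (D.P.wordM D.gens D.stab[s.val]) = D.P.codeM (D.P.wordM D.gens D.stab[s'.val]) := by
      rw [heq]
    have hsorted := incr_sorted _ hs.2
    rcases lt_trichotomy s.val s'.val with hlt | heq' | hlt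
    · have := hsorted s.val s'.val hlt (by simp)
      rw [List.getD_eq_getElem _ _ (by simp), List.getD_eq_getElem _ _ (by simp), List.getElem_map,
        List.getElem_map, hc] at this
      exact absurd this (lt_irrefl _)
    · rw [Fin.ext heq']
    · have := hsorted s'.val s.val hlt (by simp)
      rw [List.getD_eq_getElem _ _ (by simp), List.getD_eq_getElem _ _ (by simp), List.getElem_map,
        List.getElem_map, hc] at this
      exact absurd this (lt_irrefl _)
  have := Nat.card_le_card_of_injective _ hinj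
  simpa using this

include hV in
/-- The order of a group satisfying the relations. -/
theorem core {G : Type} [Group G] (f : Fin 3 → G) (hgen : Subgroup.closure (Set.range f) = ⊤)
    (hf : Kills f ((D.rels1 ++ D.rels2).map wordF)) :
    Finite G ∧ Nat.card G ≤ D.cert2.n * (D.cert1.n * D.oa) := by
  have hrel : ∀ l ∈ D.rels1 ++ D.rels2, (l.map (letters f)).prod = 1 := fun l hl =>
    (lift_wordF f l).symm.trans (hf _ (List.mem_map_of_mem hl))
  have h6 := hV.rels
  simp only [relsOK, List.all_eq_true, Bool.and_eq_true, decide_eq_true_eq] at h6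
  have h1 := hV.rels1
  simp only [rels1OK, List.all_eq_true, Bool.and_eq_true, decide_eq_true_eq] at h1
  obtain ⟨⟨h14, hrep⟩, hoa⟩ := h1
  have ha : f 0 ^ D.oa = 1 := by
    have := hrel _ (List.mem_append_left _ hrep)
    rwa [List.map_replicate, List.prod_replicate] at this
  have hfo : IsOfFinOrder (f 0) := isOfFinOrder_iff_pow_eq_one.2 ⟨_, hoa, ha⟩
  have hA : Finite (Subgroup.zpowers (f 0)) ∧ Nat.card (Subgroup.zpowers (f 0)) ≤ D.oa := by
    refine ⟨hfo.finite_zpowers.to_subtype, ?_⟩
    rw [Nat.card_zpowers]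
    exact orderOf_le_of_pow_eq_one hoa ha
  set K := Subgroup.closure ((letters4 f) '' Set.Iio 16)
  have hK : Finite K ∧ Nat.card K ≤ D.cert1.n * D.oa := by
    refine card_le_step (Letters.Cert.covers (g := letters4 f) rfl (letters4_inv f)
      (fun x _ => (Nat.lt_or_ge x 4).imp id (letters4_of_four_le f)) K (Subgroup.zpowers (f 0)) le_rfl
      D.cert1 hV.cert1 (fun l hl => ⟨fun x hx => by have := h14 l hl x hx; omega, ?_⟩) ?_) hA rfl
    · rw [List.map_congr_left fun x hx => letters4_eq f (h14 l hl x hx)]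
      exact hrel l (List.mem_append_left _ hl)
    · intro l hl
      simp only [List.mem_singleton] at hl
      subst hl
      exact ⟨by simp, by simp [letters4]⟩
  have hT : Finite (⊤ : Subgroup G) ∧ Nat.card (⊤ : Subgroup G) ≤ D.cert2.n * (D.cert1.n * D.oa) := by
    refine card_le_step (Letters.Cert.covers (g := letters f) rfl (letters_inv f)
      (fun x _ => (Nat.lt_or_ge x 6).imp id (letters_of_six_le f)) ⊤ K ?_ D.cert2 hV.cert2
      (fun l hl => ⟨fun x hx => by have := (h6 l hl).2 x hx; omega, hrel l hl⟩) ?_) hK rfl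
    · rw [← hgen, Subgroup.closure_le]
      rintro _ ⟨i, rfl⟩
      fin_cases i
      · exact Subgroup.subset_closure ⟨0, by norm_num, rfl⟩
      · exact Subgroup.subset_closure ⟨2, by norm_num, rfl⟩
      · exact Subgroup.subset_closure ⟨4, by norm_num, rfl⟩
    · intro l hl
      simp only [List.mem_cons, List.not_mem_nil, or_false] at hl
      rcases hl with rfl | rfl
      · refine ⟨by simp, ?_⟩
        rw [List.map_singleton, List.prod_singleton]
        exact Subgroup.subset_closure (k := letters4 f '' Set.Iio 16) ⟨0, by norm_num, rfl⟩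
      · refine ⟨by simp, ?_⟩
        rw [List.map_singleton, List.prod_singleton]
        exact Subgroup.subset_closure (k := letters4 f '' Set.Iio 16) ⟨2, by norm_num, rfl⟩
  obtain ⟨hfin, hle⟩ := hT
  exact ⟨Finite.of_equiv _ Subgroup.topEquiv.toEquiv, by rwa [Subgroup.card_top] at hle⟩

include R hF hV in
theorem presOn (hlow : Nat.card (Cfsg.SU 3 F D.P.p) ≤ D.O * D.stab.length)
    (hup : D.cert2.n * (D.cert1.n * D.oa) ≤ Nat.card (Cfsg.SU 3 F D.P.p)) :
    PresOn (Fin 3) (Cfsg.SU 3 F D.P.p) (D.rels1.length + D.rels2.length) := by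
  haveI : Finite (Cfsg.SU 3 F D.P.p) := Finite.of_injective matOf matOf_injective
  have hgen : span R hF hV = ⊤ :=
    Subgroup.eq_top_of_le_card _ (hlow.trans (card_le_card_span R hF hV))
  have := PresOn.of_bound (v R hF hV) ((D.rels1 ++ D.rels2).map wordF) (kills R hF hV) hgen
    fun G _ φ f _ hf hk => by
      obtain ⟨hfin, hle⟩ := core hV f hf hk
      exact ⟨hfin, hle.trans hup⟩
  rwa [List.length_map, List.length_append] at this

end Data

end CfsgLib.SUnPres.SmallThree
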