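import Cfsg.Agent.Lib.SUnPres.Field

/-!
Elements of the special unitary group supported on sets of coordinates.
-/

set_option autoImplicit false
set_option linter.unusedSectionVars false

namespace CfsgLib.SUnPres

open CfsgLib.Classical.Herm
open Matrix Finset

variable {F : Type*} [Field F] [Fintype F] {q : ℕ} {n m : ℕ}

/-- The underlying matrix. -/
def mat (g : Cfsg.SU n F q) : Matrix (Fin n) (Fin n) F :=
  ((g : Matrix.SpecialLinearGroup (Fin n) F) : Matrix (Fin n) (Fin n) F)

/-- The action on column vectors. -/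
def act (g : Cfsg.SU n F q) (v : Fin n → F) : Fin n → F := mat g *ᵥ v

/-- The coordinate vectors. -/
abbrev ev (i : Fin n) : Fin n → F := Pi.single i 1

@[simp] theorem act_one (v : Fin n → F) : act (1 : Cfsg.SU n F q) v = v := by
  simp [act, mat]

theorem act_mul (g h : Cfsg.SU n F q) (v : Fin n → F) : act (g * h) v = act g (act h v) := by
  simp [act, mat, Matrix.mulVec_mulVec]

theorem act_inv_act (g : Cfsg.SU n F q) (v : Fin n → F) : act g⁻¹ (act g v) = v := by
  rw [← act_mul, inv_mul_cancel, act_one]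

theorem act_act_inv (g : Cfsg.SU n F q) (v : Fin n → F) : act g (act g⁻¹ v) = v := by
  rw [← act_mul, mul_inv_cancel, act_one]

theorem act_add (g : Cfsg.SU n F q) (u v : Fin n → F) : act g (u + v) = act g u + act g v :=
  Matrix.mulVec_add _ _ _

theorem act_smul (g : Cfsg.SU n F q) (c : F) (v : Fin n → F) : act g (c • v) = c • act g v :=
  Matrix.mulVec_smul _ _ _

theorem act_injective (g : Cfsg.SU n F q) : Function.Injective (act g) :=
  Function.LeftInverse.injective (act_inv_act g)

theorem mat_injective : Function.Injective (mat : Cfsg.SU n F q → _) :=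
  fun _ _ h => Subtype.ext (Subtype.ext h)

theorem mat_apply (g : Cfsg.SU n F q) (i j : Fin n) : mat g i j = act g (ev j) i := by
  simp [act]

theorem ext_ev {g h : Cfsg.SU n F q} (e : ∀ i, act g (ev i) = act h (ev i)) : g = h :=
  mat_injective (Matrix.ext fun i j => by rw [mat_apply, mat_apply, e j])

variable (hF : Fintype.card F = q ^ 2)

include hF in
theorem herm_ev (v : Fin n → F) (i : Fin n) : Cfsg.hermForm n F q v (ev i) = v i := by
  have hq : q ≠ 0 := by have := two_le_of_card hF; omega
  rw [Cfsg.hermForm, Finset.sum_eq_single i (fun j _ hj => by simp [hj, zero_pow hq]) (by simp)]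
  simp

include hF in
theorem herm_self (v : Fin n → F) : Cfsg.hermForm n F q v v = ∑ i, nm hF (v i) :=
  Finset.sum_congr rfl fun _ _ => rfl

theorem herm_act (g : Cfsg.SU n F q) (u v : Fin n → F) :
    Cfsg.hermForm n F q (act g u) (act g v) = Cfsg.hermForm n F q u v :=
  g.2 u v

include hF in
theorem sum_nm_act (g : Cfsg.SU n F q) (v : Fin n → F) :
    ∑ i, nm hF (act g v i) = ∑ i, nm hF (v i) := by
  rw [← herm_self, ← herm_self, herm_act]

/-- Vectors of norm one. -/
def IsU1 (v : Fin n → F) : Prop := Cfsg.hermForm n F q v v = 1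

include hF in
theorem isU1_ev (i : Fin n) : IsU1 (q := q) (ev i : Fin n → F) := by
  rw [IsU1, herm_ev hF]; simp

theorem IsU1.act {v : Fin n → F} (h : IsU1 (q := q) v) (g : Cfsg.SU n F q) :
    IsU1 (q := q) (act g v) := by rw [IsU1, herm_act]; exact h

/-- The elements fixing the coordinate vectors outside a set. -/
def Sp (S : Finset (Fin n)) : Subgroup (Cfsg.SU n F q) where
  carrier := {g | ∀ o, o ∉ S → SUnPres.act g (ev o) = ev o}
  one_mem' := fun o _ => act_one _
  mul_mem' := fun {a b} ha hb o ho => by rw [act_mul, hb o ho, ha o ho]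
  inv_mem' := fun {a} ha o ho => by
    conv_lhs => rw [← ha o ho]
    exact act_inv_act a _

theorem mem_Sp {S : Finset (Fin n)} {g : Cfsg.SU n F q} :
    g ∈ Sp S ↔ ∀ o, o ∉ S → act g (ev o) = ev o := Iff.rfl

theorem Sp_mono {S T : Finset (Fin n)} (h : S ⊆ T) : (Sp S : Subgroup (Cfsg.SU n F q)) ≤ Sp T :=
  fun _ hg o ho => hg o fun hs => ho (h hs)

include hF in
theorem act_apply_of_notMem {S : Finset (Fin n)} {g : Cfsg.SU n F q} (hg : g ∈ Sp S) (v : Fin n → F)
    {o : Fin n} (ho : o ∉ S) : act g v o = v o := by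
  rw [← herm_ev hF (act g v) o, ← hg o ho, herm_act, herm_ev hF]

include hF in
theorem sum_nm_Sp {S : Finset (Fin n)} {g : Cfsg.SU n F q} (hg : g ∈ Sp S) (v : Fin n → F) :
    ∑ i ∈ S, nm hF (act g v i) = ∑ i ∈ S, nm hF (v i) := by
  have h := sum_nm_act hF g v
  rw [← Finset.sum_add_sum_compl S, ← Finset.sum_add_sum_compl S] at h
  rwa [Finset.sum_congr (s₁ := Sᶜ) rfl fun o ho => by
    rw [act_apply_of_notMem hF hg v (Finset.mem_compl.1 ho)], add_left_inj] at h

theorem vec_eq_sum (v : Fin n → F) : v = ∑ i, v i • (ev i : Fin n → F) := by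
  funext j
  simp [Finset.sum_apply, Pi.single_apply]

theorem act_eq_self {S : Finset (Fin n)} {g : Cfsg.SU n F q} (hg : g ∈ Sp S) (v : Fin n → F)
    (hv : ∀ i ∈ S, v i = 0) : act g v = v := by
  show mat g *ᵥ v = v
  conv_lhs => rw [vec_eq_sum v, Matrix.mulVec_sum]
  conv_rhs => rw [vec_eq_sum v]
  refine Finset.sum_congr rfl fun i _ => ?_
  rw [Matrix.mulVec_smul]
  by_cases hi : i ∈ S
  · rw [hv i hi, zero_smul, zero_smul]
  · exact congrArg _ (hg i hi)

include hF in
theorem mem_Sp_erase {S : Finset (Fin n)} {g : Cfsg.SU n F q} (hg : g ∈ Sp S) {k : Fin n}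
    (hk : act g (ev k) = ev k) : g ∈ Sp (S.erase k) := by
  intro o ho
  rcases eq_or_ne o k with rfl | h
  · exact hk
  · exact hg o fun hs => ho (Finset.mem_erase.2 ⟨h, hs⟩)

include hF in
theorem Sp_eq_one {S : Finset (Fin n)} (hS : S.card ≤ 1) {g : Cfsg.SU n F q} (hg : g ∈ Sp S) : g = 1 := by
  classical
  rcases Nat.le_one_iff_eq_zero_or_eq_one.1 hS with h | h
  · rw [Finset.card_eq_zero] at h
    subst h
    exact ext_ev fun i => by rw [hg i (by simp), act_one]
  · obtain ⟨k, rfl⟩ := Finset.card_eq_one.1 h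
    have hoff : ∀ i, i ≠ k → act g (ev k) i = 0 := fun i hi => by
      rw [act_apply_of_notMem hF hg _ (by simpa using hi)]; simp [hi]
    have hd : mat g = Matrix.diagonal (fun i => if i = k then act g (ev k) k else 1) := by
      ext i j
      rw [mat_apply]
      rcases eq_or_ne j k with rfl | hj
      · rcases eq_or_ne i j with rfl | hi
        · simp
        · rw [hoff i hi, Matrix.diagonal_apply_ne _ hi]
      · rw [hg j (by simpa using hj)]
        rcases eq_or_ne i j with rfl | hi
        · simp [hj]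
        · simp [hi]
    have hdet : (mat g).det = 1 := (g : Matrix.SpecialLinearGroup (Fin n) F).2
    rw [hd, Matrix.det_diagonal, Finset.prod_eq_single k (fun b _ hb => by simp [hb]) (by simp), if_pos rfl] at hdet
    refine ext_ev fun i => ?_
    rw [act_one]
    rcases eq_or_ne i k with rfl | hi
    · funext j
      rcases eq_or_ne j i with rfl | hj
      · simpa using hdet
      · rw [hoff j hj]; simp [hj]
    · exact hg i (by simpa using hi)

/-! ### Embeddings -/

/-- The index decomposition of an embedding. -/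
noncomputable def splitEquiv (f : Fin m ↪ Fin n) : Fin m ⊕ {i : Fin n // ¬ i ∈ Set.range f} ≃ Fin n :=
  letI := Classical.decPred (· ∈ Set.range f)
  (Equiv.sumCongr (Equiv.ofInjective f f.injective) (Equiv.refl _)).trans
    (Equiv.sumCompl (· ∈ Set.range f))

theorem splitEquiv_inl (f : Fin m ↪ Fin n) (x : Fin m) : splitEquiv f (Sum.inl x) = f x := by
  simp [splitEquiv]

theorem splitEquiv_inr (f : Fin m ↪ Fin n) (x : {i : Fin n // ¬ i ∈ Set.range f}) :
    splitEquiv f (Sum.inr x) = (x : Fin n) := by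
  simp [splitEquiv]

/-- A matrix extended by the identity. -/
noncomputable def embMat (f : Fin m ↪ Fin n) (A : Matrix (Fin m) (Fin m) F) : Matrix (Fin n) (Fin n) F :=
  Matrix.reindex (splitEquiv f) (splitEquiv f) (Matrix.fromBlocks A 0 0 1)

theorem embMat_one (f : Fin m ↪ Fin n) : embMat f (1 : Matrix (Fin m) (Fin m) F) = 1 := by
  simp [embMat, Matrix.fromBlocks_one]

theorem embMat_mul (f : Fin m ↪ Fin n) (A B : Matrix (Fin m) (Fin m) F) :
    embMat f (A * B) = embMat f A * embMat f B := by
  simp [embMat, Matrix.submatrix_mul_equiv, Matrix.fromBlocks_multiply]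

theorem det_embMat (f : Fin m ↪ Fin n) (A : Matrix (Fin m) (Fin m) F) : (embMat f A).det = A.det := by
  simp [embMat, Matrix.det_fromBlocks_zero₂₁]

theorem embMat_apply_in (f : Fin m ↪ Fin n) (A : Matrix (Fin m) (Fin m) F) (v : Fin n → F) (x : Fin m) :
    (embMat f A *ᵥ v) (f x) = (A *ᵥ fun y => v (f y)) x := by
  rw [embMat, Matrix.reindex_apply, Matrix.submatrix_mulVec_equiv, Function.comp_apply,
    ← splitEquiv_inl, Equiv.symm_apply_apply, Matrix.fromBlocks_mulVec]
  simp [Function.comp_def, splitEquiv_inl]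

theorem embMat_apply_out (f : Fin m ↪ Fin n) (A : Matrix (Fin m) (Fin m) F) (v : Fin n → F) {o : Fin n}
    (ho : o ∉ Set.range f) : (embMat f A *ᵥ v) o = v o := by
  have he : splitEquiv f (Sum.inr ⟨o, ho⟩) = o := splitEquiv_inr f _
  conv_lhs => rw [← he]
  rw [embMat, Matrix.reindex_apply, Matrix.submatrix_mulVec_equiv, Function.comp_apply,
    Equiv.symm_apply_apply, Matrix.fromBlocks_mulVec]
  simp [Function.comp_def, splitEquiv_inr]

theorem herm_split (f : Fin m ↪ Fin n) (u v : Fin n → F) :
    Cfsg.hermForm n F q u v = Cfsg.hermForm m F q (fun x => u (f x)) (fun x => v (f x)) +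
      ∑ o ∈ (Finset.univ.map f)ᶜ, u o * v o ^ q := by
  rw [Cfsg.hermForm, Cfsg.hermForm, ← Finset.sum_add_sum_compl (Finset.univ.map f), Finset.sum_map]

theorem notMem_range_of_compl (f : Fin m ↪ Fin n) {o : Fin n} (ho : o ∈ (Finset.univ.map f)ᶜ) :
    o ∉ Set.range f := by
  rintro ⟨x, rfl⟩
  simp at ho

/-- The embedding of a smaller special unitary group. -/
noncomputable def emb (f : Fin m ↪ Fin n) : Cfsg.SU m F q →* Cfsg.SU n F q where
  toFun a := ⟨⟨embMat f (mat a), by rw [det_embMat]; exact (a : Matrix.SpecialLinearGroup (Fin m) F).2⟩,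
    fun u v => by
      show Cfsg.hermForm n F q (embMat f (mat a) *ᵥ u) (embMat f (mat a) *ᵥ v) = _
      rw [herm_split f, herm_split f u v,
        Finset.sum_congr rfl fun o ho => by
          rw [embMat_apply_out f _ _ (notMem_range_of_compl f ho),
            embMat_apply_out f _ _ (notMem_range_of_compl f ho)]]
      congr 1
      simp only [embMat_apply_in]
      exact herm_act a _ _⟩
  map_one' := mat_injective (by simp [mat, embMat_one])
  map_mul' a b := Subtype.ext (Subtype.ext (by
    show embMat f (mat (a * b)) = embMat f (mat a) * embMat f (mat b)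
    rw [← embMat_mul]; rfl))

theorem act_emb_in (f : Fin m ↪ Fin n) (a : Cfsg.SU m F q) (v : Fin n → F) (x : Fin m) :
    act (emb f a) v (f x) = act a (fun y => v (f y)) x :=
  embMat_apply_in f (mat a) v x

theorem act_emb_out (f : Fin m ↪ Fin n) (a : Cfsg.SU m F q) (v : Fin n → F) {o : Fin n}
    (ho : o ∉ Set.range f) : act (emb f a) v o = v o :=
  embMat_apply_out f (mat a) v ho

theorem emb_injective (f : Fin m ↪ Fin n) : Function.Injective (emb (F := F) (q := q) f) := by
  intro a b h
  refine ext_ev fun i => funext fun x => ?_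
  have e := congrArg (fun g => act g (ev (f i)) (f x)) h
  simp only [act_emb_in] at e
  have hsingle : (fun y => (ev (f i) : Fin n → F) (f y)) = (ev i : Fin m → F) := by
    funext y; simp [Pi.single_apply]
  rwa [hsingle] at e

theorem emb_mem_Sp (f : Fin m ↪ Fin n) (a : Cfsg.SU m F q) {S : Finset (Fin n)}
    (hS : ∀ x, f x ∈ S) : emb f a ∈ Sp S := by
  intro o ho
  have ho' : o ∉ Set.range f := by rintro ⟨x, rfl⟩; exact ho (hS x)
  funext i
  by_cases hi : i ∈ Set.range f
  · obtain ⟨x, rfl⟩ := hi
    rw [act_emb_in]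
    have h0 : (fun y => (ev o : Fin n → F) (f y)) = 0 := by
      funext y
      simp [Pi.single_apply, show f y ≠ o from fun e => ho' ⟨y, e⟩]
    rw [h0]
    simp [act, show f x ≠ o from fun e => ho' ⟨x, e⟩]
  · rw [act_emb_out _ _ _ hi]

include hF in
theorem exists_emb_eq (f : Fin m ↪ Fin n) {S : Finset (Fin n)} (hS : ∀ i ∈ S, i ∈ Set.range f)
    {g : Cfsg.SU n F q} (hg : g ∈ Sp S) : ∃ a, emb f a = g := by
  classical
  have hg' : g ∈ Sp (Finset.univ.map f) := Sp_mono (fun i hi => by simpa using hS i hi) hg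
  set A : Matrix (Fin m) (Fin m) F := Matrix.of fun x y => mat g (f x) (f y)
  have hA : embMat f A = mat g := by
    refine Matrix.ext fun i j => ?_
    have : embMat f A i j = (embMat f A *ᵥ ev j) i := by simp
    rw [this, mat_apply]
    by_cases hi : i ∈ Set.range f
    · obtain ⟨x, rfl⟩ := hi
      rw [embMat_apply_in]
      by_cases hj : j ∈ Set.range f
      · obtain ⟨y, rfl⟩ := hj
        rw [show (fun z => (ev (f y) : Fin n → F) (f z)) = ev y from funext fun z => by simp [Pi.single_apply]]
        simp [A, mat_apply]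
      · rw [show (fun z => (ev j : Fin n → F) (f z)) = 0 from funext fun z => by
          simp [Pi.single_apply, show f z ≠ j from fun e => hj ⟨z, e⟩],
          hg' j (by simpa using hj)]
        simp [show f x ≠ j from fun e => hj ⟨x, e⟩]
    · rw [embMat_apply_out _ _ _ hi, act_apply_of_notMem hF hg' _ (by simpa using hi)]
  have hdet : A.det = 1 := by
    rw [← det_embMat f, hA]; exact (g : Matrix.SpecialLinearGroup (Fin n) F).2
  refine ⟨⟨⟨A, hdet⟩, fun u v => ?_⟩, mat_injective hA⟩
  show Cfsg.hermForm m F q (A *ᵥ u) (A *ᵥ v) = _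
  set u' : Fin n → F := Function.extend f u 0
  set v' : Fin n → F := Function.extend f v 0
  have hu : (fun x => u' (f x)) = u := funext fun x => f.injective.extend_apply _ _ _
  have hv : (fun x => v' (f x)) = v := funext fun x => f.injective.extend_apply _ _ _
  have h := herm_act g u' v'
  rw [act, act, ← hA, herm_split f, herm_split f u' v',
    Finset.sum_congr rfl fun o ho => by
      rw [embMat_apply_out f _ _ (notMem_range_of_compl f ho),
        embMat_apply_out f _ _ (notMem_range_of_compl f ho)], add_left_inj] at h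
  simp only [embMat_apply_in, hu, hv] at h
  exact h

/-! ### Permutations -/

/-- An even permutation as an element of the special unitary group. -/
noncomputable def permSU : alternatingGroup (Fin n) →* Cfsg.SU n F q where
  toFun π := ⟨⟨Equiv.Perm.permMatrix F (π : Equiv.Perm (Fin n))⁻¹, by
      rw [Matrix.det_permutation, map_inv, Equiv.Perm.mem_alternatingGroup.1 π.2]; simp⟩,
    fun u v => by
      show Cfsg.hermForm n F q (Equiv.Perm.permMatrix F (π : Equiv.Perm (Fin n))⁻¹ *ᵥ u)
        (Equiv.Perm.permMatrix F (π : Equiv.Perm (Fin n))⁻¹ *ᵥ v) = _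
      simp only [Matrix.permMatrix_mulVec, Cfsg.hermForm, Function.comp_apply]
      exact Equiv.sum_comp ((π : Equiv.Perm (Fin n))⁻¹) fun i => u i * v i ^ q⟩
  map_one' := mat_injective (by simp [mat])
  map_mul' a b := Subtype.ext (Subtype.ext (by
    show Equiv.Perm.permMatrix F ((a : Equiv.Perm (Fin n)) * (b : Equiv.Perm (Fin n)))⁻¹ =
      Equiv.Perm.permMatrix F (a : Equiv.Perm (Fin n))⁻¹ * Equiv.Perm.permMatrix F (b : Equiv.Perm (Fin n))⁻¹
    rw [_root_.mul_inv_rev, Matrix.permMatrix_mul]))

theorem act_permSU_apply (π : alternatingGroup (Fin n)) (v : Fin n → F) (i : Fin n) :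
    act (permSU π : Cfsg.SU n F q) v i = v ((π : Equiv.Perm (Fin n)).symm i) := by
  simp [act, mat, permSU, Matrix.permMatrix_mulVec, Equiv.Perm.inv_def]

theorem act_permSU_ev (π : alternatingGroup (Fin n)) (k : Fin n) :
    act (permSU π : Cfsg.SU n F q) (ev k) = ev ((π : Equiv.Perm (Fin n)) k) := by
  funext i
  rw [act_permSU_apply]
  simp [Pi.single_apply, Equiv.symm_apply_eq]

theorem permSU_mem_Sp (π : alternatingGroup (Fin n)) {S : Finset (Fin n)}
    (h : ∀ o ∉ S, (π : Equiv.Perm (Fin n)) o = o) : (permSU π : Cfsg.SU n F q) ∈ Sp S := fun o ho => by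
  rw [act_permSU_ev, h o ho]

end CfsgLib.SUnPres
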