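import Cfsg.Agent.Lib.SUnPres.Frame

/-!
Equivariance on the vectors with a zero entry, for pieces on two or three coordinates.
-/

set_option autoImplicit false
set_option linter.unusedSectionVars false

namespace CfsgLib.SUnPres

open CfsgLib.Classical.Herm
open Finset Equiv

namespace Frame

attribute [-simp] qPow_apply

variable {G : Type*} [Group G] {F : Type*} [Field F] [Fintype F] {q n : ℕ} (Φ : Frame G F q n)
  (hF : Fintype.card F = q ^ 2) (hn : 4 ≤ n)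

theorem eqv_of_symm {y : G} {w : Fin n → F} (h : Φ.Eqv hn y⁻¹ (Φ.A y w)) : Φ.Eqv hn y w := by
  have := Eqv.symm Φ hn h
  rwa [inv_inv, A_inv_A] at this

theorem sum_nm_A (hF : Fintype.card F = q ^ 2) {S : Finset (Fin n)} {x : G} (hx : x ∈ Φ.L S)
    (v : Fin n → F) : ∑ i ∈ S, nm hF (Φ.A x v i) = ∑ i ∈ S, nm hF (v i) :=
  sum_nm_Sp hF (Φ.supp hx) v

include hF in
theorem exists_zero_lift {R : Finset (Fin n)} (hR : R ≠ univ) {v : Fin n → F}
    (h : (2 ≤ R.card ∧ ∑ i ∈ R, nm hF (v i) ≠ 0) ∨ 3 ≤ R.card) :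
    ∃ z ∈ Φ.L R, ∃ i ∈ R, Φ.A z v i = 0 := by
  by_cases hv : ∀ i ∈ R, v i ≠ 0
  · obtain ⟨g, -, hg, i, hi, hgi⟩ := exists_zero_maker hF (gen_Sp R) hv h
    have h2 : 2 ≤ R.card := by rcases h with h | h <;> omega
    obtain ⟨z, hz, hzg⟩ := Φ.lift R h2 hR g hg
    exact ⟨z, hz, i, hi, by rw [A, hzg]; exact hgi⟩
  · push Not at hv
    obtain ⟨i, hi, h0⟩ := hv
    exact ⟨1, one_mem _, i, hi, by rw [A_one]; exact h0⟩

include hF in
/-- Equivariance from a zero maker on the complementary coordinates. -/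
theorem eqv_of_compl {S : Finset (Fin n)} (h2 : 2 ≤ S.card) {y : G} (hy : y ∈ Φ.L S)
    {w : Fin n → F} (hu : IsU1 (q := q) w) (hw : ∃ i, w i = 0) (hw' : ∃ i, Φ.A y w i = 0)
    (h : (2 ≤ Sᶜ.card ∧ ∑ i ∈ Sᶜ, nm hF (w i) ≠ 0) ∨ 3 ≤ Sᶜ.card) : Φ.Eqv hn y w := by
  obtain ⟨i, hi⟩ := hw
  obtain ⟨i', hi'⟩ := hw'
  by_cases hiS : i ∈ S
  swap
  · exact Φ.eqv_of_zero_out hF hn hy hu hiS hi
  by_cases hi'S : i' ∈ S
  swap
  · exact Φ.eqv_of_symm hn (Φ.eqv_of_zero_out hF hn (inv_mem hy) (hu.act _) hi'S hi')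
  have hR : Sᶜ ≠ univ := fun e => Finset.mem_compl.1 (e.symm ▸ mem_univ i) hiS
  obtain ⟨z, hz, o, ho, hzo⟩ := Φ.exists_zero_lift hF hR h
  have h2' : 2 ≤ Sᶜ.card := by rcases h with h | h <;> omega
  refine Eqv.of_comm Φ hn (Φ.comm disjoint_compl_right h2 h2' hy hz)
    (Φ.eqv_of_zero_out hF hn hz hu (fun e => Finset.mem_compl.1 e hiS) hi)
    (Φ.eqv_of_zero_out hF hn hz (hu.act _) (fun e => Finset.mem_compl.1 e hi'S) hi')
    (Φ.eqv_of_zero_out hF hn hy (hu.act _) (Finset.mem_compl.1 ho) hzo)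

include hF in
theorem eqv_triple_single {S : Finset (Fin n)} (hS : S.card = 3) {y : G} (hy : y ∈ Φ.L S)
    {t : Fin n → F} (hu : IsU1 (q := q) t) {j k : Fin n} (hj : j ∈ S) (hk : k ∈ S)
    (ht : ∀ i ∈ S, i ≠ j → t i = 0) (ht0 : t j ≠ 0) (ht' : ∀ i ∈ S, i ≠ k → Φ.A y t i = 0) :
    Φ.Eqv hn y t := by
  classical
  have hSu : S ≠ univ := ne_univ_of_card (by omega)
  obtain ⟨l, hl, hlk, hjl⟩ : ∃ l ∈ S, l ≠ k ∧ (j = k ∨ j = l) := by
    by_cases h : j = k
    · obtain ⟨l, hl, hne⟩ := Finset.exists_mem_ne (show 1 < S.card by omega) k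
      exact ⟨l, hl, hne, Or.inl h⟩
    · exact ⟨j, hj, h, Or.inr rfl⟩
  have hsub : ({k, l} : Finset (Fin n)) ⊆ S := by simp [Finset.insert_subset_iff, hk, hl]
  have hpair : nm hF (t k) + nm hF (t l) = nm hF (t j) := by
    rcases hjl with rfl | rfl
    · rw [ht l hl hlk]; simp
    · rw [ht k hk hlk.symm]; simp
  have hsum : nm hF (Φ.A y t k) = nm hF (t j) := by
    have h := Φ.sum_nm_A hF hy t
    rwa [Finset.sum_eq_single k (fun i hi hne => by rw [ht' i hi hne, nm_zero]) (fun h => absurd hk h),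
      Finset.sum_eq_single j (fun i hi hne => by rw [ht i hi hne, nm_zero]) (fun h => absurd hj h)] at h
  obtain ⟨g, hg, hgk, hgl⟩ := pair_move hF hlk.symm (v := t) (r := Φ.A y t k) (by rw [hsum, hpair])
    (fun e => nm_ne_zero hF ht0 (by rw [← hsum, e, nm_zero]))
  obtain ⟨z, hz, rfl⟩ := Φ.lift _ (Finset.card_pair hlk.symm).ge
    (fun e => hSu (Finset.univ_subset_iff.1 (e ▸ hsub))) g hg
  obtain ⟨i₂, hi₂S, hi₂⟩ : ∃ i ∈ S, i ∉ ({k, l} : Finset (Fin n)) := by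
    by_contra hc
    push Not at hc
    have := Finset.card_le_card hc
    have := Finset.card_le_two (a := k) (b := l)
    omega
  have ti₂ : t i₂ = 0 := ht i₂ hi₂S (by
    rintro rfl
    rcases hjl with rfl | rfl <;> simp at hi₂)
  have hzt : Φ.A z t = Φ.A y t := by
    funext i
    by_cases hiS : i ∈ S
    · rcases eq_or_ne i k with rfl | hik
      · exact hgk
      · rcases eq_or_ne i l with rfl | hil
        · rw [ht' i hiS hik]; exact hgl
        · rw [Φ.A_apply_notMem hF hz t (by simp [hik, hil]), ht' i hiS hik]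
          refine ht i hiS ?_
          rcases hjl with rfl | rfl
          · exact hik
          · exact hil
    · rw [Φ.A_apply_notMem hF hy t hiS, Φ.A_apply_notMem hF hz t (fun h => hiS (hsub h))]
  have hzE : Φ.Eqv hn z t := Φ.eqv_of_zero_out hF hn hz hu hi₂ ti₂
  set y'' := y * z⁻¹ with hy''
  have hy''S : y'' ∈ Φ.L S := mul_mem hy (inv_mem (Φ.mono hsub hz))
  have hfix : Φ.A y'' (Φ.A z t) = Φ.A z t := by rw [hy'', A_mul, A_inv_A, hzt]
  set t' := Φ.A z t with ht'def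
  have hk0 : t' k ≠ 0 := fun e => nm_ne_zero hF ht0 (by rw [← hsum, ← hzt, e, nm_zero])
  have hev : Φ.A y'' (ev k) = ev k := by
    have hrest : ∀ i ∈ S, (t' - t' k • (ev k : Fin n → F)) i = 0 := fun i hi => by
      rcases eq_or_ne i k with rfl | hik
      · simp
      · have h0 := ht' i hi hik
        rw [← hzt] at h0
        simp [hik, h0]
    have e1 := Φ.A_eq_self hy''S _ hrest
    have e2 : Φ.A y'' t' = Φ.A y'' (t' - t' k • (ev k : Fin n → F)) + t' k • Φ.A y'' (ev k) := by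
      simp only [A]
      rw [← act_smul, ← act_add, sub_add_cancel]
    rw [hfix, e1] at e2
    have e3 : t' k • Φ.A y'' (ev k) = t' k • (ev k : Fin n → F) := by linear_combination (norm := abel) -e2
    funext i
    have := congrFun e3 i
    simp only [Pi.smul_apply, smul_eq_mul] at this
    exact mul_left_cancel₀ hk0 this
  have hy''k : y'' ∈ Φ.L (S.erase k) :=
    Φ.mem_of_image hF hSu (Finset.erase_subset _ _) hy''S (mem_Sp_erase hF (Φ.supp hy''S) hev)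
  have hyE : Φ.Eqv hn y'' t' := by
    refine Φ.eqv_of_zero_in hF hn ?_ ?_ hy''k (hu.act _) fun i hi => ?_
    · rw [Finset.card_erase_of_mem hk]; omega
    · rw [Finset.card_compl, Fintype.card_fin, Finset.card_erase_of_mem hk]; omega
    · rw [hzt]
      exact ht' i (Finset.mem_of_mem_erase hi) (Finset.ne_of_mem_erase hi)
  have := Eqv.mul Φ hn hzE hyE
  rwa [hy'', inv_mul_cancel_right] at this

include hF in
theorem exists_single {S : Finset (Fin n)} (hS : S.card = 3) {w : Fin n → F} (hu : IsU1 (q := q) w)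
    {i : Fin n} (hi : i ∈ S) (hwi : w i = 0) (hsum : ∑ l ∈ S, nm hF (w l) ≠ 0) :
    ∃ z ∈ Φ.L S, Φ.Eqv hn z w ∧ ∃ j ∈ S, Φ.A z w j ≠ 0 ∧ ∀ l ∈ S, l ≠ j → Φ.A z w l = 0 := by
  classical
  obtain ⟨a, b, hab, hE⟩ := Finset.card_eq_two.1 (show (S.erase i).card = 2 by
    rw [Finset.card_erase_of_mem hi]; omega)
  have hsub : ({a, b} : Finset (Fin n)) ⊆ S := hE ▸ Finset.erase_subset _ _
  have hs2 : nm hF (w a) + nm hF (w b) ≠ 0 := by
    rw [← Finset.sum_pair (f := fun l => nm hF (w l)) hab, ← hE]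
    rwa [← Finset.add_sum_erase S _ hi, hwi, nm_zero, zero_add] at hsum
  obtain ⟨g, hg, hgb⟩ := pair_move' hF hab hs2
  obtain ⟨z, hz, rfl⟩ := Φ.lift _ (Finset.card_pair hab).ge (ne_univ_of_card (by
    rw [Finset.card_pair hab]; omega)) g hg
  have hiP : i ∉ ({a, b} : Finset (Fin n)) := hE ▸ Finset.notMem_erase i S
  have hzb : Φ.A z w b = 0 := hgb
  refine ⟨z, Φ.mono hsub hz, Φ.eqv_of_zero_out hF hn hz hu hiP hwi, a, hsub (by simp), fun e => hs2 ?_,
    fun l hl hla => ?_⟩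
  · have := Φ.sum_nm_A hF hz w
    rw [Finset.sum_pair hab, Finset.sum_pair hab, e, hzb, nm_zero, add_zero] at this
    exact this.symm
  · rcases eq_or_ne l b with rfl | hlb
    · exact hzb
    · obtain rfl : l = i := by
        by_contra hne
        have : l ∈ S.erase i := Finset.mem_erase.2 ⟨hne, hl⟩
        rw [hE] at this
        simp [hla, hlb] at this
      rw [Φ.A_apply_notMem hF hz w hiP, hwi]

include hF in
/-- Three coordinates with a sum of norms other than zero. -/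
theorem eqv_triple {S : Finset (Fin n)} (hS : S.card = 3) {y : G} (hy : y ∈ Φ.L S) {w : Fin n → F}
    (hu : IsU1 (q := q) w) (hw : ∃ i, w i = 0) (hw' : ∃ i, Φ.A y w i = 0)
    (hsum : ∑ l ∈ S, nm hF (w l) ≠ 0) : Φ.Eqv hn y w := by
  obtain ⟨i, hi⟩ := hw
  obtain ⟨i', hi'⟩ := hw'
  by_cases hiS : i ∈ S
  swap
  · exact Φ.eqv_of_zero_out hF hn hy hu hiS hi
  by_cases hi'S : i' ∈ S
  swap
  · exact Φ.eqv_of_symm hn (Φ.eqv_of_zero_out hF hn (inv_mem hy) (hu.act _) hi'S hi')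
  obtain ⟨z, hz, hzE, j, hj, hj0, hjz⟩ := Φ.exists_single hF hn hS hu hiS hi hsum
  obtain ⟨z', hz', hz'E, k, hk, -, hkz⟩ := Φ.exists_single hF hn hS (hu.act (Φ.φ y)) hi'S hi'
    (by
      have := Φ.sum_nm_A hF hy w
      rw [A] at this
      rw [this]; exact hsum)
  have hE' : Φ.Eqv hn (z' * y * z⁻¹) (Φ.A z w) := by
    refine Φ.eqv_triple_single hF hn hS (mul_mem (mul_mem hz' hy) (inv_mem hz)) (hu.act _) hj hk hjz hj0 ?_
    intro l hl hlk
    rw [A_mul, A_mul, A_inv_A]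
    exact hkz l hl hlk
  have h1 := Eqv.mul Φ hn hzE hE'
  rw [inv_mul_cancel_right] at h1
  have h2 : Φ.Eqv hn z' (Φ.A y w) := hz'E
  unfold Eqv at h1 h2 ⊢
  rw [A_mul, h2, mul_smul] at h1
  exact smul_left_cancel z' h1

/-- The exceptional hypothesis for pairs. -/
def PairHyp : Prop :=
  q = 2 → n = 4 → ∀ {S : Finset (Fin n)}, S.card = 2 → ∀ {y : G}, y ∈ Φ.L S → ∀ {w : Fin n → F},
    IsU1 (q := q) w → ∀ i ∈ S, w i = 0 → Φ.Eqv hn y w

include hF in
/-- Two coordinates. -/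
theorem eqv_pair (hP : Φ.PairHyp hn) {S : Finset (Fin n)} (hS : S.card = 2) {y : G} (hy : y ∈ Φ.L S)
    {w : Fin n → F} (hu : IsU1 (q := q) w) (hw : ∃ i, w i = 0) (hw' : ∃ i, Φ.A y w i = 0) :
    Φ.Eqv hn y w := by
  classical
  have hRc : Sᶜ.card = n - 2 := by rw [Finset.card_compl, Fintype.card_fin, hS]
  obtain ⟨i, hi⟩ := hw
  by_cases hiS : i ∈ S
  swap
  · exact Φ.eqv_of_zero_out hF hn hy hu hiS hi
  by_cases h : (2 ≤ Sᶜ.card ∧ ∑ l ∈ Sᶜ, nm hF (w l) ≠ 0) ∨ 3 ≤ Sᶜ.card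
  · exact Φ.eqv_of_compl hF hn hS.ge hy hu ⟨i, hi⟩ hw' h
  obtain ⟨hR0, hn4⟩ : ∑ l ∈ Sᶜ, nm hF (w l) = 0 ∧ n = 4 := by
    have h4 : n = 4 := by
      by_contra hne
      exact h (Or.inr (by omega))
    exact ⟨by_contra fun hne => h (Or.inl ⟨by omega, hne⟩), h4⟩
  obtain ⟨i', hi'⟩ := hw'
  by_cases hi'S : i' ∈ S
  swap
  · exact Φ.eqv_of_symm hn (Φ.eqv_of_zero_out hF hn (inv_mem hy) (hu.act _) hi'S hi')
  by_cases hout : ∃ o ∈ Sᶜ, w o = 0
  · obtain ⟨o, ho, ho0⟩ := hout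
    exact Φ.eqv_of_zero_out hF hn hy hu (Finset.mem_compl.1 ho) ho0
  push Not at hout
  by_cases hq : q = 2
  · exact hP hq hn4 hS hy hu i hiS hi
  have hS1 : ∑ l ∈ S, nm hF (w l) = 1 := by
    have h1 := hu
    rw [IsU1, herm_self hF, ← Finset.sum_add_sum_compl S, hR0, add_zero] at h1
    exact h1
  obtain ⟨a, b, hab, hR⟩ := Finset.card_eq_two.1 (show Sᶜ.card = 2 by omega)
  have ha : a ∉ S := by
    have : a ∈ Sᶜ := by rw [hR]; simp
    simpa using this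
  have key : ∀ w : Fin n → F, IsU1 (q := q) w → w i = 0 → Φ.A y w i' = 0 →
      ∑ l ∈ S, nm hF (w l) = 1 → nm hF (w a) + 1 ≠ 0 → Φ.Eqv hn y w := by
    intro w hu hi hi' hS1 hne
    refine Φ.eqv_triple hF hn (S := insert a S) (by rw [Finset.card_insert_of_notMem ha, hS])
      (Φ.mono (Finset.subset_insert _ _) hy) hu ⟨i, hi⟩ ⟨i', hi'⟩ ?_
    rwa [Finset.sum_insert ha, hS1]
  by_cases hne : nm hF (w a) + 1 ≠ 0
  · exact key w hu hi hi' hS1 hne
  push Not at hne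
  rw [hR, Finset.sum_pair hab] at hR0
  have hbS : b ∈ Sᶜ := by rw [hR]; simp
  have haS : a ∈ Sᶜ := by rw [hR]; simp
  obtain ⟨c, hc, hc0, hcs⟩ := exists_fixed_avoid hF {-1}
    (by have := two_le_of_card hF; simp; omega)
  obtain ⟨x', rfl⟩ := exists_nm_eq hF c hc
  obtain ⟨g, hg, hga⟩ := pair_iso_move hF hab hR0 (hout a haS) (x := x') (fun e => hc0 (by rw [e, nm_zero]))
  have hsub : ({a, b} : Finset (Fin n)) ⊆ Sᶜ := hR.ge
  obtain ⟨z, hz, rfl⟩ := Φ.lift _ (Finset.card_pair hab).ge (ne_univ_of_card (by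
    rw [Finset.card_pair hab]; omega)) g hg
  have hzS : ∀ l ∈ S, l ∉ ({a, b} : Finset (Fin n)) := fun l hl hm => Finset.mem_compl.1 (hsub hm) hl
  have hzw : ∀ l ∈ S, Φ.A z w l = w l := fun l hl => Φ.A_apply_notMem hF hz w (hzS l hl)
  have hcomm : Commute y z := Φ.comm disjoint_compl_right hS.ge (by omega) hy (Φ.mono hsub hz)
  refine Eqv.of_comm Φ hn hcomm (Φ.eqv_of_zero_out hF hn hz hu (hzS i hiS) hi)
    (Φ.eqv_of_zero_out hF hn hz (hu.act _) (hzS i' hi'S) hi') (key _ (hu.act _) ?_ ?_ ?_ ?_)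
  · rw [hzw i hiS, hi]
  · rw [← A_mul, hcomm.eq, A_mul, Φ.A_apply_notMem hF hz _ (hzS i' hi'S), hi']
  · rw [← hS1]; exact Finset.sum_congr rfl fun l hl => by rw [hzw l hl]
  · intro e
    refine hcs (Finset.mem_singleton.2 ?_)
    rw [show Φ.A z w a = x' from hga] at e
    linear_combination e

include hF in
/-- Any three coordinates, more than four in all. -/
theorem eqv_triple_five (h5 : 5 ≤ n) {S : Finset (Fin n)} (hS : S.card = 3) {y : G} (hy : y ∈ Φ.L S)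
    {w : Fin n → F} (hu : IsU1 (q := q) w) (hw : ∃ i, w i = 0) (hw' : ∃ i, Φ.A y w i = 0) :
    Φ.Eqv hn y w := by
  have hRc : Sᶜ.card = n - 3 := by rw [Finset.card_compl, Fintype.card_fin, hS]
  by_cases h : ∑ l ∈ S, nm hF (w l) ≠ 0
  · exact Φ.eqv_triple hF hn hS hy hu hw hw' h
  · push Not at h
    refine Φ.eqv_of_compl hF hn (by omega) hy hu hw hw' (Or.inl ⟨by omega, ?_⟩)
    intro e
    have h1 := hu
    rw [IsU1, herm_self hF, ← Finset.sum_add_sum_compl S, h, e, zero_add] at h1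
    exact zero_ne_one h1

end Frame

end CfsgLib.SUnPres
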